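import Cfsg.Agent.Lib.HNStd.Cent
import Cfsg.Agent.Lib.Layer.StandardRankOne

/-!
A standard copy of the double cover of the Higman-Sims group and the action of its normaliser.
-/

set_option autoImplicit false
set_option maxRecDepth 100000

open scoped commutatorElement

namespace CfsgLib.HNStd

open CfsgLib.CosetEnum CfsgLib.DCoset CfsgLib.HN CfsgLib.HNType

/-- the cover inside the group on 1408 points -/
theorem exists_subK_kP : Nonempty (↥HN.subK ≃* ↥kP) := by
  let T₀ : ↥subH ≃* PH := MulEquiv.ofBijective toP ⟨toP_injective, toP_surjective⟩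
  let φ : ↥HN.subK →* ↥kP :=
    (T₀.toMonoidHom.comp (Subgroup.inclusion subK_le)).codRestrict kP fun k => by
      show toP ⟨k.1, subK_le k.2⟩ ∈ kP
      have h : (⟨k.1, subK_le k.2⟩ : ↥subH) ∈ kH := by rw [kH_eq, Subgroup.mem_subgroupOf]; exact k.2
      exact h
  refine ⟨MulEquiv.ofBijective φ ⟨fun a b h => Subgroup.inclusion_injective subK_le
    (T₀.injective (congrArg Subtype.val h)), fun x => ?_⟩⟩
  obtain ⟨a, ha⟩ := T₀.surjective x.1
  have hk : a ∈ kH := by show toP a ∈ kP; rw [show toP a = x.1 from ha]; exact x.2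
  rw [kH_eq, Subgroup.mem_subgroupOf] at hk
  exact ⟨⟨a.1, hk⟩, Subtype.ext ha⟩

/-- an element centralising the subgroup of index two is central -/
theorem centralises_kP {p : PH} (h : ∀ a ∈ kP, Commute p a) : p = 1 ∨ p = iP := by
  obtain ⟨m, rfl⟩ := toP_surjective p
  have hk : ∀ a : G, ∀ ha : a ∈ HN.subK, Commute m ⟨a, subK_le ha⟩ := fun a ha => by
    refine toP_injective ?_
    rw [map_mul, map_mul]
    refine (h (toP ⟨a, subK_le ha⟩) ?_).eq
    have h' : (⟨a, subK_le ha⟩ : ↥subH) ∈ kH := by rw [kH_eq, Subgroup.mem_subgroupOf]; exact ha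
    exact h'
  have hm : m.1 ∈ HN.subK := centralises_subK m.2 fun a ha => congrArg Subtype.val (hk a ha).eq
  have hcen : (⟨m.1, hm⟩ : ↥HN.subK) ∈ Subgroup.center ↥HN.subK :=
    Subgroup.mem_center_iff.mpr fun a => Subtype.ext (congrArg Subtype.val (hk a.1 a.2).eq).symm
  obtain ⟨σ, -, hc, h2⟩ := exists_subKHom
  have hker : σ.ker = Subgroup.center ↥HN.subK := Subgroup.ext fun a => (MonoidHom.mem_ker).trans (hc a)
  have hgic : (⟨gi, gi_mem_subK⟩ : ↥HN.subK) ∈ Subgroup.center ↥HN.subK :=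
    Subgroup.mem_center_iff.mpr fun a => Subtype.ext (gi_comm (subK_le a.2)).eq.symm
  rw [hker] at h2
  rcases card_two_mem h2 hgic (fun e => gi_ne_one (congrArg Subtype.val e)) hcen with e | e
  · left
    rw [show m = 1 from Subtype.ext (congrArg (fun z : ↥HN.subK => z.1) e :), map_one]
  · right
    rw [show m = ⟨gi, gi_mem⟩ from Subtype.ext (congrArg (fun z : ↥HN.subK => z.1) e :)]
    exact Subtype.ext (by rw [toP_gi, iP_val])

/-- an automorphism of the cover is conjugation by an element of the group on 1408 points -/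
theorem exists_conj_of_aut (θ : MulAut ↥kP) : ∃ p : PH, ∀ a : ↥kP, (θ a : PH) = p * a * p⁻¹ := by
  obtain ⟨e⟩ := exists_subK_kP
  obtain ⟨σ, hs, hc, -⟩ := exists_subKHom
  obtain ⟨q, hq⟩ : ∃ q, q = toP ⟨gz, gz_mem⟩ := ⟨_, rfl⟩
  obtain ⟨θ', hθ'⟩ : ∃ θ' : MulAut ↥kP, ∀ a : ↥kP, (θ' a : PH) = q * a * q⁻¹ :=
    haveI := kP_normal
    ⟨MulAut.conjNormal q, fun a => MulAut.conjNormal_apply _ _⟩
  have hout : ∀ g : ↥kP, θ' ≠ MulAut.conj g := fun g he => by
    have h1 : ∀ a ∈ kP, Commute ((g : PH)⁻¹ * q) a := fun a ha => by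
      have h2 : q * a * q⁻¹ = g * a * (g : PH)⁻¹ := by
        have := congrArg Subtype.val (DFunLike.congr_fun he (⟨a, ha⟩ : ↥kP))
        rw [hθ'] at this
        exact this
      show (g : PH)⁻¹ * q * a = a * ((g : PH)⁻¹ * q)
      calc (g : PH)⁻¹ * q * a = (g : PH)⁻¹ * (q * a * q⁻¹) * q := by group
        _ = _ := by rw [h2]; group
    have hqK : q ∈ kP := by
      rcases centralises_kP h1 with e | e
      · rw [← inv_mul_eq_one.mp e]; exact g.2
      · rw [show q = g * iP by rw [← e, mul_inv_cancel_left]]; exact kP.mul_mem g.2 iP_kP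
    refine gz_not_mem ?_
    have : (⟨gz, gz_mem⟩ : ↥subH) ∈ kH := by show toP ⟨gz, gz_mem⟩ ∈ kP; rw [← hq]; exact hqK
    rwa [kH_eq, Subgroup.mem_subgroupOf] at this
  let φ : MulAut ↥HN.subK := e.trans (θ.trans e.symm)
  let φ' : MulAut ↥HN.subK := e.trans (θ'.trans e.symm)
  have back : ∀ (χ : MulAut ↥kP) (g : ↥HN.subK), e.trans (χ.trans e.symm) = MulAut.conj g →
      χ = MulAut.conj (e g) := fun χ g hχ => MulEquiv.ext fun a => by
    have h2 : e.symm (χ (e (e.symm a))) = g * e.symm a * g⁻¹ := DFunLike.congr_fun hχ (e.symm a)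
    rw [MulEquiv.apply_symm_apply, MulEquiv.symm_apply_eq] at h2
    rw [h2, map_mul, map_mul, map_inv, MulEquiv.apply_symm_apply, MulAut.conj_apply]
  obtain ⟨η, hη⟩ := exists_induced hs hc φ
  obtain ⟨η', hη'⟩ := exists_induced hs hc φ'
  have inner : ∀ (ζ : MulAut HSGrp) (χ : MulAut ↥HN.subK), (∀ k, ζ (σ k) = σ (χ k)) →
      ζ ∈ Cfsg.Inn HSGrp → ∃ h, χ = MulAut.conj h := by
    rintro ζ χ hζ ⟨b, rfl⟩
    obtain ⟨h, rfl⟩ := hs b
    refine ⟨h, MulEquiv.ext fun a => ?_⟩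
    have := trivial_mod_center hc ((MulAut.conj h)⁻¹ * χ) (fun k => by
      rw [MulAut.mul_apply, MulAut.inv_def, MulAut.conj_symm_apply, map_mul, map_mul, map_inv,
        ← hζ, MulAut.conj_apply]
      group) a
    rw [MulAut.mul_apply, MulAut.inv_def, MulEquiv.symm_apply_eq] at this
    exact this
  by_cases hn : η ∈ Cfsg.Inn HSGrp
  · obtain ⟨g, hg⟩ := inner η φ hη hn
    refine ⟨e g, fun a => ?_⟩
    rw [back θ g hg, MulAut.conj_apply]
    rfl
  have hn' : η' ∉ Cfsg.Inn HSGrp := fun h => by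
    obtain ⟨g, hg⟩ := inner η' φ' hη' h
    exact hout _ (back θ' g hg)
  obtain ⟨es⟩ := nonempty_equiv_spor
  obtain ⟨g, hg⟩ := inner (η * η'⁻¹) (φ * φ'⁻¹) (fun k => by
    rw [MulAut.mul_apply, MulAut.mul_apply]
    obtain ⟨l, rfl⟩ := φ'.surjective k
    rw [← hη' l, MulAut.inv_def, MulAut.inv_def, MulEquiv.symm_apply_apply,
      MulEquiv.symm_apply_apply, hη]) (out_two es Cfsg.Agent.S2072.result hn' hn)
  refine ⟨(e g : PH) * q, fun a => ?_⟩
  have h1 : φ (e.symm a) = g * φ' (e.symm a) * g⁻¹ := by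
    have := DFunLike.congr_fun hg (φ' (e.symm a))
    rwa [MulAut.mul_apply, MulAut.inv_def, MulEquiv.symm_apply_apply, MulAut.conj_apply] at this
  have h2 : θ a = e g * θ' a * (e g)⁻¹ := by
    have := congrArg e h1
    simp only [φ, φ', MulEquiv.trans_apply, MulEquiv.apply_symm_apply, map_mul, map_inv] at this
    exact this
  rw [h2, Subgroup.coe_mul, Subgroup.coe_mul, Subgroup.coe_inv, hθ']
  group

/-- a standard copy of the cover -/
structure Ctx (G : Type*) [Group G] where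
  /-- the map -/
  f : PH → G
  map_mul : ∀ a b, a ∈ kP → b ∈ kP → f (a * b) = f a * f b
  inj : ∀ a b, a ∈ kP → b ∈ kP → f a = f b → a = b
  /-- the copy -/
  L : Subgroup G
  mem_L : ∀ g, g ∈ L ↔ ∃ a ∈ kP, f a = g
  std : Cfsg.IsStandardSubgroup L

theorem exists_ctx {G : Type*} [Group G] [Finite G] {L : Subgroup G} (hL : Cfsg.IsStandardSubgroup L)
    (h2 : Nat.card ↥(Subgroup.center ↥L) = 2)
    (hq : Nonempty (↥L ⧸ Subgroup.center ↥L ≃* ↥Cfsg.Spor.HS)) : Nonempty (Ctx G) := by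
  classical
  have hcov : Cfsg.IsNonsplitDoubleCover ↥L ↥Cfsg.Spor.HS := by
    refine ⟨h2, hq, fun H hH => ?_⟩
    haveI := hL.1.1
    have hcl : ∀ a b : ↥L, ⁅a, b⁆ ∈ H := by
      have split : ∀ a : ↥L, ∃ c ∈ Subgroup.center ↥L, ∃ h ∈ H, c * h = a := fun a => by
        obtain ⟨⟨c, h⟩, hp⟩ := hH.2 a
        exact ⟨c, c.2, h, h.2, hp⟩
      intro a b
      obtain ⟨c, hc, h, hh, rfl⟩ := split a
      obtain ⟨c', hc', h', hh', rfl⟩ := split b
      have k := fun x => Subgroup.mem_center_iff.mp hc x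
      have k' := fun x => Subgroup.mem_center_iff.mp hc' x
      have e : ⁅c * h, c' * h'⁆ = ⁅h, h'⁆ := by
        simp only [commutatorElement_def, mul_inv_rev]
        calc c * h * (c' * h') * (h⁻¹ * c⁻¹) * (h'⁻¹ * c'⁻¹)
            = c * (h * c') * h' * h⁻¹ * c⁻¹ * h'⁻¹ * c'⁻¹ := by group
          _ = c * c' * (h * h' * h⁻¹ * c⁻¹) * h'⁻¹ * c'⁻¹ := by rw [k' h]; group
          _ = c * c' * (c⁻¹ * (h * h' * h⁻¹)) * h'⁻¹ * c'⁻¹ := by
              rw [(Subgroup.mem_center_iff.mp (inv_mem hc) (h * h' * h⁻¹))]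
          _ = c * (c' * c⁻¹) * (h * h' * h⁻¹ * h'⁻¹) * c'⁻¹ := by group
          _ = c' * ((h * h' * h⁻¹ * h'⁻¹) * c'⁻¹) := by
              rw [Subgroup.mem_center_iff.mp (inv_mem hc) c']; group
          _ = _ := by rw [Subgroup.mem_center_iff.mp (inv_mem hc') (h * h' * h⁻¹ * h'⁻¹)]; group
      rw [e]
      exact H.mul_mem (H.mul_mem (H.mul_mem hh hh') (H.inv_mem hh)) (H.inv_mem hh')
    have htop : H = ⊤ := by
      rw [eq_top_iff, ← Group.IsPerfect.commutator_eq_top (G := ↥L), commutator_def,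
        Subgroup.commutator_le]
      exact fun a _ b _ => hcl a b
    subst htop
    have h1 : Subgroup.center ↥L = ⊥ := Subgroup.isComplement'_top_right.mp hH
    rw [h1, Subgroup.card_bot] at h2
    exact absurd h2 (by norm_num)
  obtain ⟨ψ⟩ := exists_subK_equiv hcov
  obtain ⟨e⟩ := exists_subK_kP
  let ι : ↥kP →* G := L.subtype.comp ((e.symm.trans ψ).toMonoidHom)
  have hι : Function.Injective ι := Subtype.val_injective.comp (e.symm.trans ψ).injective
  refine ⟨{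
    f := fun a => if h : a ∈ kP then ι ⟨a, h⟩ else 1
    map_mul := fun a b ha hb => ?_
    inj := fun a b ha hb h => ?_
    L := L
    mem_L := fun g => ⟨fun hg => ?_, ?_⟩
    std := hL }⟩
  · rw [dif_pos ha, dif_pos hb, dif_pos (kP.mul_mem ha hb), ← map_mul]
    rfl
  · rw [dif_pos ha, dif_pos hb] at h
    exact congrArg Subtype.val (hι h)
  · obtain ⟨a, ha⟩ := (e.symm.trans ψ).surjective ⟨g, hg⟩
    exact ⟨a.1, a.2, by rw [dif_pos a.2]; exact congrArg Subtype.val ha⟩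
  · rintro ⟨a, ha, rfl⟩
    rw [dif_pos ha]
    exact ((e.symm.trans ψ) ⟨a, ha⟩).2

namespace Ctx

variable {G : Type*} [Group G] (c : Ctx G)

theorem f_one : c.f 1 = 1 :=
  mul_left_cancel (a := c.f 1) (by rw [← c.map_mul 1 1 kP.one_mem kP.one_mem, mul_one, mul_one])

theorem f_inv {a : PH} (ha : a ∈ kP) : c.f a⁻¹ = (c.f a)⁻¹ :=
  eq_inv_of_mul_eq_one_left (by rw [← c.map_mul _ _ (kP.inv_mem ha) ha, inv_mul_cancel, c.f_one])

theorem f_pow {a : PH} (ha : a ∈ kP) (n : ℕ) : c.f (a ^ n) = c.f a ^ n := by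
  induction n with
  | zero => rw [pow_zero, pow_zero, c.f_one]
  | succ n ih => rw [pow_succ, pow_succ, c.map_mul _ _ (kP.pow_mem ha n) ha, ih]

theorem f_conj {a b : PH} (ha : a ∈ kP) (hb : b ∈ kP) :
    c.f (a * b * a⁻¹) = c.f a * c.f b * (c.f a)⁻¹ := by
  rw [c.map_mul _ _ (kP.mul_mem ha hb) (kP.inv_mem ha), c.map_mul _ _ ha hb, c.f_inv ha]

theorem f_mem {a : PH} (ha : a ∈ kP) : c.f a ∈ c.L := (c.mem_L _).mpr ⟨a, ha, rfl⟩

theorem f_ne_one {a : PH} (ha : a ∈ kP) (h : a ≠ 1) : c.f a ≠ 1 := fun e =>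
  h (c.inj a 1 ha kP.one_mem (e.trans c.f_one.symm))

/-- the central involution -/
noncomputable def z : G := c.f iP

/-- its centraliser -/
noncomputable def N : Subgroup G := Subgroup.centralizer ({c.z} : Set G)

/-- the centraliser of the copy -/
def K : Subgroup G := Subgroup.centralizer (c.L : Set G)

theorem mem_N {n : G} : n ∈ c.N ↔ Commute n c.z := Subgroup.mem_centralizer_singleton_iff

theorem mem_K {k : G} : k ∈ c.K ↔ ∀ a ∈ kP, Commute k (c.f a) := by
  rw [K, Subgroup.mem_centralizer_iff]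
  exact ⟨fun h a ha => (h _ (c.f_mem ha)).symm, fun h g hg => by
    obtain ⟨a, ha, rfl⟩ := (c.mem_L g).mp hg
    exact (h a ha).symm.eq⟩

theorem z_sq : c.z * c.z = 1 := by rw [z, ← c.map_mul _ _ iP_kP iP_kP, iP_sq, c.f_one]

theorem z_ne : c.z ≠ 1 := c.f_ne_one iP_kP iP_ne_one

theorem orderOf_z : orderOf c.z = 2 := CfsgLib.Invol.orderOf_two_of_mul_self c.z_sq c.z_ne

theorem z_inv : c.z⁻¹ = c.z := inv_eq_of_mul_eq_one_right c.z_sq

theorem z_mem_N : c.z ∈ c.N := c.mem_N.mpr (Commute.refl _)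

theorem f_mem_N {a : PH} (ha : a ∈ kP) : c.f a ∈ c.N := c.mem_N.mpr (by
  show c.f a * c.f iP = c.f iP * c.f a
  rw [← c.map_mul _ _ ha iP_kP, ← c.map_mul _ _ iP_kP ha, iP_comm a])

theorem z_mem_K : c.z ∈ c.K := c.mem_K.mpr fun _ ha => (c.mem_N.mp (c.f_mem_N ha)).symm

theorem K_le_N : c.K ≤ c.N := fun _ hk => c.mem_N.mpr (c.mem_K.mp hk iP iP_kP)

/-- `n` acts on the copy as `p` -/
def Acts (n : G) (p : PH) : Prop := ∀ a ∈ kP, n * c.f a * n⁻¹ = c.f (p * a * p⁻¹)

theorem acts_f {a : PH} (ha : a ∈ kP) : c.Acts (c.f a) a := fun _ hb => (c.f_conj ha hb).symm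

theorem acts_K {k : G} (hk : k ∈ c.K) : c.Acts k 1 := fun a ha => by
  rw [one_mul, inv_one, mul_one, (c.mem_K.mp hk a ha).eq, mul_inv_cancel_right]

theorem acts_one : c.Acts 1 1 := c.acts_K c.K.one_mem

variable {c}

theorem Acts.mul {m n : G} {p q : PH} (hm : c.Acts m p) (hn : c.Acts n q) :
    c.Acts (m * n) (p * q) := fun a ha => by
  rw [show m * n * c.f a * (m * n)⁻¹ = m * (n * c.f a * n⁻¹) * m⁻¹ by group, hn a ha,
    hm _ ((conj_mem_kP q).mpr ha), show p * q * a * (p * q)⁻¹ = p * (q * a * q⁻¹) * p⁻¹ by group]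

theorem Acts.inv {m : G} {p : PH} (hm : c.Acts m p) : c.Acts m⁻¹ p⁻¹ := fun a ha => by
  have h := hm _ ((conj_mem_kP p⁻¹).mpr ha)
  rw [show p * (p⁻¹ * a * p⁻¹⁻¹) * p⁻¹ = a by group] at h
  conv_lhs => rw [← h]
  group

theorem Acts.pow {m : G} {p : PH} (hm : c.Acts m p) : ∀ k : ℕ, c.Acts (m ^ k) (p ^ k)
  | 0 => by rw [pow_zero, pow_zero]; exact c.acts_one
  | k + 1 => by rw [pow_succ, pow_succ]; exact (hm.pow k).mul hm

theorem Acts.iP_mul {m : G} {p : PH} (hm : c.Acts m p) : c.Acts m (p * iP) := fun a ha => by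
  rw [hm a ha]
  congr 1
  rw [show p * iP * a * (p * iP)⁻¹ = p * (iP * a * iP⁻¹) * p⁻¹ by group, iP_comm a, mul_inv_cancel_right]

theorem Acts.mem_N {n : G} {p : PH} (hn : c.Acts n p) : n ∈ c.N := c.mem_N.mpr (by
  have h := hn iP iP_kP
  rw [← iP_comm p, mul_inv_cancel_right] at h
  exact mul_inv_eq_iff_eq_mul.mp h)

theorem Acts.unique {n : G} {p q : PH} (hp : c.Acts n p) (hq : c.Acts n q) : q = p ∨ q = p * iP := by
  have h : ∀ a ∈ kP, Commute (p⁻¹ * q) a := fun a ha => by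
    have e := c.inj _ _ ((conj_mem_kP p).mpr ha) ((conj_mem_kP q).mpr ha) ((hp a ha).symm.trans (hq a ha))
    show p⁻¹ * q * a = a * (p⁻¹ * q)
    calc p⁻¹ * q * a = p⁻¹ * (q * a * q⁻¹) * q := by group
      _ = p⁻¹ * (p * a * p⁻¹) * q := by rw [e]
      _ = _ := by group
  rcases centralises_kP h with e | e
  · exact Or.inl (inv_mul_eq_one.mp e).symm
  · exact Or.inr (inv_mul_eq_iff_eq_mul.mp e)

theorem Acts.mem_K {n : G} {p : PH} (hn : c.Acts n p) (hp : p = 1 ∨ p = iP) : n ∈ c.K :=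
  c.mem_K.mpr fun a ha => by
    have h := hn a ha
    have e : p * a * p⁻¹ = a := by
      rcases hp with rfl | rfl
      · group
      · rw [iP_comm, mul_inv_cancel_right]
    rw [e] at h
    exact mul_inv_eq_iff_eq_mul.mp h

theorem Acts.commute {n : G} {p a : PH} (hn : c.Acts n p) (ha : a ∈ kP) :
    Commute n (c.f a) ↔ Commute p a := by
  constructor
  · intro h
    have e := hn a ha
    rw [h.eq, mul_inv_cancel_right] at e
    exact mul_inv_eq_iff_eq_mul.mp (c.inj _ _ ha ((conj_mem_kP p).mpr ha) e).symm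
  · intro h
    have e := hn a ha
    rw [h.eq, mul_inv_cancel_right] at e
    exact mul_inv_eq_iff_eq_mul.mp e

/-- a power that acts trivially gives a power of the action in the centre -/
theorem Acts.pow_cases {n : G} {p : PH} (hn : c.Acts n p) {k : ℕ} (h : n ^ k ∈ c.K) :
    p ^ k = 1 ∨ p ^ k = iP := by
  rcases (c.acts_K h).unique (hn.pow k) with e | e
  · exact Or.inl e
  · exact Or.inr (by rw [e, one_mul])

/-- an element with an inner action is in the product -/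
theorem Acts.split {n : G} {p : PH} (hn : c.Acts n p) (hp : p ∈ kP) : (c.f p)⁻¹ * n ∈ c.K :=
  ((c.acts_f hp).inv.mul hn).mem_K (Or.inl (inv_mul_cancel p))

/-- an element of odd order acts as an inner element -/
theorem Acts.inner_of_odd {n : G} {p : PH} (hn : c.Acts n p) {k : ℕ} (hk : Odd k) (h : n ^ k = 1) :
    p ∈ kP := by
  obtain ⟨r, rfl⟩ := hk
  have e : p ^ (2 * r + 1) ∈ kP := by
    rcases hn.pow_cases (h ▸ c.K.one_mem) with e | e <;> rw [e]
    exacts [kP.one_mem, iP_kP]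
  have h2 : p ^ (2 * r) ∈ kP := by
    rw [pow_mul, pow_two]; exact kP.pow_mem (Subgroup.mul_self_mem_of_index_two index_kP p) r
  rw [pow_succ] at e
  exact (kP.mul_mem_cancel_left h2).mp e

variable (c)
variable [Finite G]

theorem norm_eq : Subgroup.normalizer (c.L : Set G) = c.N := by
  refine le_antisymm (fun n hn => ?_) fun n hn =>
    StandardRankOne.centralizer_involution_le _ c.std c.z_mem_K c.orderOf_z (c.mem_N.mp hn).eq
  obtain ⟨x, hx, ex⟩ := (c.mem_L _).mp ((Subgroup.mem_normalizer_iff.mp hn c.z).1 (c.f_mem iP_kP))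
  have hxc : ∀ a ∈ kP, Commute x a := fun a ha => by
    obtain ⟨b, hb, eb⟩ := (c.mem_L _).mp ((Subgroup.mem_normalizer_iff''.mp hn (c.f a)).1 (c.f_mem ha))
    refine c.inj _ _ (kP.mul_mem hx ha) (kP.mul_mem ha hx) ?_
    rw [c.map_mul _ _ hx ha, c.map_mul _ _ ha hx, ex]
    have h := (c.mem_N.mp (c.f_mem_N hb)).eq
    calc n * c.z * n⁻¹ * c.f a = n * (c.z * (n⁻¹ * c.f a * n)) * n⁻¹ := by group
      _ = n * ((n⁻¹ * c.f a * n) * c.z) * n⁻¹ := by rw [← eb, h]
      _ = _ := by group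
  rcases centralises_kP hxc with rfl | rfl
  · exfalso
    rw [c.f_one] at ex
    exact c.z_ne (conj_eq_one_iff.mp ex.symm)
  · exact c.mem_N.mpr (mul_inv_eq_iff_eq_mul.mp ex.symm)

theorem exists_acts {n : G} (hn : n ∈ c.N) : ∃ p, c.Acts n p := by
  have hn' : n ∈ Subgroup.normalizer (c.L : Set G) := by rw [c.norm_eq]; exact hn
  have hch : ∀ a : ↥kP, ∃ b : ↥kP, c.f b = n * c.f a * n⁻¹ := fun a => by
    obtain ⟨b, hb, eb⟩ := (c.mem_L _).mp ((Subgroup.mem_normalizer_iff.mp hn' _).1 (c.f_mem a.2))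
    exact ⟨⟨b, hb⟩, eb⟩
  choose m hm using hch
  let φ : ↥kP →* ↥kP := MonoidHom.mk' m fun a b => Subtype.ext (c.inj _ _ (m _).2 (kP.mul_mem (m a).2 (m b).2) (by
    rw [hm, Subgroup.coe_mul, Subgroup.coe_mul, c.map_mul _ _ (m a).2 (m b).2, hm, hm, c.map_mul _ _ a.2 b.2]
    group))
  have hφ : Function.Injective φ := fun a b h => by
    have e : c.f (m a) = c.f (m b) := congrArg (fun x : ↥kP => c.f x) h
    rw [hm, hm] at e
    exact Subtype.ext (c.inj _ _ a.2 b.2 (mul_left_cancel (mul_right_cancel e)))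
  obtain ⟨p, hp⟩ := exists_conj_of_aut (MulEquiv.ofBijective φ (hφ.bijective_of_finite))
  exact ⟨p, fun a ha => by rw [← hm ⟨a, ha⟩, ← hp ⟨a, ha⟩]; rfl⟩

theorem conj_K {n k : G} (hn : n ∈ c.N) (hk : k ∈ c.K) : n * k * n⁻¹ ∈ c.K := by
  obtain ⟨p, hp⟩ := c.exists_acts hn
  exact ((hp.mul (c.acts_K hk)).mul hp.inv).mem_K (Or.inl (by group))

/-- an element carrying an involution of the centraliser into it normalises it -/
theorem mem_N_of_conj {g u : G} (hu : u ∈ c.K) (hu2 : orderOf u = 2) (hgu : g * u * g⁻¹ ∈ c.K) :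
    g ∈ c.N := by
  by_contra hg
  rw [← c.norm_eq, c.std.2.2.2] at hg
  have hodd := c.std.2.1.2 g hg
  have hmem : g * u * g⁻¹ ∈ Subgroup.centralizer (c.L : Set G) ⊓
      (Subgroup.centralizer (c.L : Set G)).map (MulAut.conj g).toMonoidHom := ⟨hgu, ⟨u, hu, rfl⟩⟩
  have h2 := Subgroup.orderOf_dvd_natCard _ hmem
  rw [← MulAut.conj_apply, MulEquiv.orderOf_eq, hu2] at h2
  exact (Nat.not_even_iff_odd.mpr hodd) (even_iff_two_dvd.mpr h2)

/-- what centralises an involution of the centraliser lies in the normaliser -/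
theorem cent_le {u : G} (hu : u ∈ c.K) (hu2 : orderOf u = 2) {x : G} (hx : Commute x u) : x ∈ c.N := by
  rw [← c.norm_eq]
  exact StandardRankOne.centralizer_involution_le _ c.std hu hu2 hx.eq

theorem conj_z_mem_K {g : G} (h : g * c.z * g⁻¹ ∈ c.K) : g * c.z * g⁻¹ = c.z := by
  have hg := c.mem_N.mp (c.mem_N_of_conj c.z_mem_K c.orderOf_z h)
  rw [hg.eq, mul_inv_cancel_right]

theorem conj_z_mem_N {g : G} (h : g * c.z * g⁻¹ = c.z) : g ∈ c.N :=
  c.mem_N.mpr (mul_inv_eq_iff_eq_mul.mp h)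

end Ctx

end CfsgLib.HNStd
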