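import Cfsg.Agent.Lib.HNStd.Words

/-!
Subgroups of the centraliser of element 1975 normalised by its inner part and with one involution.
-/

set_option autoImplicit false
set_option maxRecDepth 100000

namespace CfsgLib.HNStd

open CfsgLib.CosetEnum CfsgLib.DCoset CfsgLib.HN CfsgLib.HNType
open scoped Pointwise

/-- the inner part of the centraliser -/
noncomputable def CK : Subgroup PH := CX ⊓ kP

theorem mem_CK {x : PH} : x ∈ CK ↔ Commute x (el 1975) ∧ x ∈ kP :=
  Subgroup.mem_inf.trans (and_congr_left' mem_CX)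

theorem four_facts : el 614 ∈ kP ∧ el 614 * el 614 = el 690 ∧ el 1 ∉ kP ∧ el 1 * el 1 = 1 ∧
    el 1 * el 614 * (el 1)⁻¹ = el 614 * el 690 ∧ el 614 * iP = el 666 ∧
    el 614 * el 1975 = el 962 ∧ el 614 * el 690 = el 972 := by
  have h := four_ok
  simp only [fourOK, Bool.and_eq_true, Bool.not_eq_true'] at h
  obtain ⟨⟨⟨⟨⟨⟨⟨hK, hsq⟩, hK1⟩, hsq1⟩, hc⟩, h1⟩, h2⟩, h3⟩ := h
  have e := (eqS_iff (by decide) (by decide)).mp hc
  have e1 := (eqS_iff (by decide) (by decide)).mp h1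
  have e2 := (eqS_iff (by decide) (by decide)).mp h2
  have e3 := (eqS_iff (by decide) (by decide)).mp h3
  simp only [sP_cons, sP_nil, mul_one] at e e1 e2 e3
  refine ⟨(inK_iff (by norm_num)).mp hK, ?_, fun h => ?_, ?_, ?_, ?_, e2, e3⟩
  · rw [sq_eq_of_inner (by norm_num) hK, Nat.eq_of_beq_eq_true hsq]
  · rw [(inK_iff (by norm_num)).mpr h] at hK1; cases hK1
  · rw [sq_out (by norm_num) hK1, Nat.eq_of_beq_eq_true hsq1, ← iP_eq, iP_sq]
  · rw [e, ← mul_assoc, mul_inv_cancel_right]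
  · rw [iP_eq, e1]

theorem relindex_CK : Nat.card ↥CK = 15360 := by
  obtain ⟨-, -, h1, -⟩ := four_facts
  have hidx : (kP.subgroupOf CX).index = 2 := by
    rw [Subgroup.index_eq_two_iff]
    refine ⟨⟨el 1, T_le_CX (el_mem (by norm_num))⟩, fun b => ?_⟩
    simp only [Subgroup.mem_subgroupOf, Subgroup.coe_mul, Subgroup.mul_mem_iff_of_index_two index_kP,
      iff_false_right h1, xor_not_left, h1, iff_false]
  have h := (kP.subgroupOf CX).card_mul_index
  rw [hidx, card_CX] at h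
  rw [Subgroup.subgroupOf, ← Subgroup.card_map_of_injective CX.subtype_injective,
    Subgroup.map_comap_eq, Subgroup.range_subtype] at h
  show Nat.card ↥(CX ⊓ kP) = 15360
  omega

theorem el_CK {k : ℕ} (hk : k < 2048) (hK : inK k = true) : el k ∈ CK :=
  mem_CK.mpr ⟨central_three (Or.inr (Or.inr rfl)) _ (el_mem hk), (inK_iff hk).mp hK⟩

/-- the words of order three and five -/
theorem exists_pair {p : ℕ} (hp : p = 3 ∨ p = 5) : ∃ u v : PH, u ∈ CK ∧ v ∈ CK ∧ orderOf u = p ∧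
    orderOf v = p ∧ u * v * (u * v) = 1 ∧ u * v ≠ 1 ∧ u * v ≠ el 690 ∧ u * v ≠ el 1975 := by
  obtain ⟨U, V, h, hp'⟩ : ∃ U V, pairOK p U V = true ∧ Nat.Prime p := by
    rcases hp with rfl | rfl
    · exact ⟨_, _, three_ok, by norm_num⟩
    · exact ⟨_, _, five_ok, by norm_num⟩
  have : Fact p.Prime := ⟨hp'⟩
  simp only [pairOK, Bool.and_eq_true, Bool.not_eq_true'] at h
  obtain ⟨⟨⟨⟨⟨⟨⟨⟨⟨⟨⟨⟨⟨hU, hV⟩, iU⟩, iV⟩, cU⟩, cV⟩, pU⟩, pV⟩, u1⟩, v1⟩, a2⟩, a1⟩, a690⟩, a1975⟩ := h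
  have h19 := elW_ok (show 1975 < 2048 by norm_num)
  have h69 := elW_ok (show 690 < 2048 by norm_num)
  rw [eqL_iff (okW_append hU h19) (okW_append h19 hU), wordP_app, wordP_app, wordP_elW] at cU
  rw [eqL_iff (okW_append hV h19) (okW_append h19 hV), wordP_app, wordP_app, wordP_elW] at cV
  rw [eqL_iff (okW_powL hU p) rfl, wordP_powL] at pU
  rw [eqL_iff (okW_powL hV p) rfl, wordP_powL] at pV
  rw [eqL_not hU rfl] at u1
  rw [eqL_not hV rfl] at v1
  rw [eqL_iff (okW_append (okW_append hU hV) (okW_append hU hV)) rfl] at a2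
  rw [eqL_not (okW_append hU hV) rfl] at a1
  rw [eqL_not (okW_append hU hV) h69] at a690
  rw [eqL_not (okW_append hU hV) h19] at a1975
  simp only [wordP_app, wordP_elW] at a2 a1 a690 a1975
  exact ⟨wordP U, wordP V, mem_CK.mpr ⟨cU, (innerW_iff hU).mp iU⟩,
    mem_CK.mpr ⟨cV, (innerW_iff hV).mp iV⟩, orderOf_eq_prime pU u1, orderOf_eq_prime pV v1, a2, a1,
    a690, a1975⟩

theorem zpowers_sylow {p : ℕ} (hp : p = 3 ∨ p = 5) {y : ↥CK} (hy : orderOf y = p) :
    ¬ p ∣ (Subgroup.zpowers y).index := by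
  have h := (Subgroup.zpowers y).card_mul_index
  rw [Nat.card_zpowers, hy, relindex_CK] at h
  rcases hp with rfl | rfl <;> omega

/-- a normal subgroup with an element of order `p` contains all of them -/
theorem mem_normal_of_order {p : ℕ} (hp : p = 3 ∨ p = 5) {N : Subgroup ↥CK} [N.Normal] {y u : ↥CK}
    (hy : orderOf y = p) (hyN : y ∈ N) (hu : orderOf u = p) : u ∈ N := by
  have : Fact p.Prime := ⟨by rcases hp with rfl | rfl <;> norm_num⟩
  have hpg : ∀ {x : ↥CK}, orderOf x = p → IsPGroup p (Subgroup.zpowers x) := fun {x} hx =>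
    IsPGroup.of_card (n := 1) (by rw [Nat.card_zpowers, hx, pow_one])
  obtain ⟨c, hc⟩ := MulAction.exists_smul_eq ↥CK ((hpg hy).toSylow (zpowers_sylow hp hy))
    ((hpg hu).toSylow (zpowers_sylow hp hu))
  have hle : Subgroup.zpowers y ≤ N := Subgroup.zpowers_le.mpr hyN
  have hu' : u ∈ ((c • (hpg hy).toSylow (zpowers_sylow hp hy) : Sylow p ↥CK) : Subgroup ↥CK) := by
    rw [hc]; exact Subgroup.mem_zpowers u
  rw [Sylow.coe_subgroup_smul] at hu'
  obtain ⟨x, hx, rfl⟩ : ∃ x ∈ Subgroup.zpowers y, MulAut.conj c • x = u :=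
    ⟨_, Subgroup.mem_pointwise_smul_iff_inv_smul_mem.mp hu', smul_inv_smul (MulAut.conj c) u⟩
  exact ‹N.Normal›.conj_mem x (hle hx) c

theorem prime_cases {H : Type*} [Group H] [Finite H] {n : ℕ} (hH : Nat.card H ∣ n)
    (hn : ∀ p, p.Prime → p ∣ n → p = 2 ∨ p = 3 ∨ p = 5) (h2 : ¬ IsPGroup 2 H) :
    ∃ p, (p = 3 ∨ p = 5) ∧ ∃ y : H, orderOf y = p := by
  by_contra hne
  push_neg at hne
  refine h2 (IsPGroup.iff_card.mpr ?_)
  refine ⟨_, Nat.eq_prime_pow_of_unique_prime_dvd Nat.card_pos.ne' fun {d} hd hdd => ?_⟩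
  rcases hn d hd (hdd.trans hH) with h | h
  · exact h
  · have : Fact d.Prime := ⟨hd⟩
    obtain ⟨y, hy⟩ := exists_prime_orderOf_dvd_card' d hdd
    exact absurd hy (hne d h y)

theorem primes_15360 (p : ℕ) (hp : p.Prime) (h : p ∣ 30720) : p = 2 ∨ p = 3 ∨ p = 5 := by
  rw [show (30720 : ℕ) = 2 ^ 11 * (3 * 5) by norm_num] at h
  rcases hp.dvd_mul.mp h with h | h
  · exact Or.inl ((Nat.prime_dvd_prime_iff_eq hp Nat.prime_two).mp (hp.dvd_of_dvd_pow h))
  · rcases hp.dvd_mul.mp h with h | h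
    · exact Or.inr (Or.inl ((Nat.prime_dvd_prime_iff_eq hp Nat.prime_three).mp h))
    · exact Or.inr (Or.inr ((Nat.prime_dvd_prime_iff_eq hp (by norm_num)).mp h))

/-- a normal 2-subgroup of the centraliser lies in the Sylow subgroup -/
theorem le_T_of_normal {N : Subgroup PH} (hN : N ≤ CX) (h2 : IsPGroup 2 ↥N)
    (hnorm : ∀ c ∈ CX, ∀ x ∈ N, c * x * c⁻¹ ∈ N) : N ≤ T := by
  intro x hx
  obtain ⟨k, hk⟩ := h2 ⟨x, hx⟩
  obtain ⟨S, hS⟩ := exists_sylow_CX
  have : Fact (Nat.Prime 2) := ⟨Nat.prime_two⟩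
  haveI : (N.subgroupOf CX).Normal := ⟨fun a ha c => hnorm c c.2 a ha⟩
  have h2' : IsPGroup 2 ↥(N.subgroupOf CX) := h2.comap_of_injective CX.subtype CX.subtype_injective
  have h := h2'.le_sylow_of_normal S
    (show (⟨x, hN hx⟩ : ↥CX) ∈ N.subgroupOf CX from hx)
  rw [hS] at h
  exact h

/-- A subgroup of the inner centraliser normalised by it, whose only involution is `w` and which does
not contain the other central involution, is `{1, w}`. -/
theorem small_normal {w : ℕ} (hw : w = 690 ∨ w = 1975) {Y : Subgroup PH} (hY : Y ≤ CK)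
    (hn : ∀ c ∈ CK, ∀ y ∈ Y, c * y * c⁻¹ ∈ Y)
    (hinv : ∀ y ∈ Y, y * y = 1 → y = 1 ∨ y = el w) : ∀ y ∈ Y, y = 1 ∨ y = el w := by
  haveI : (Y.subgroupOf CK).Normal := ⟨fun a ha c => hn c c.2 a ha⟩
  have hYfin : Finite ↥Y := Finite.of_injective _ Subtype.val_injective
  have h2 : IsPGroup 2 ↥Y := by
    by_contra h2
    obtain ⟨p, hp, y, hy⟩ := prime_cases (n := 30720) ((Subgroup.card_dvd_of_le hY).trans
      (by rw [relindex_CK]; norm_num)) primes_15360 h2
    obtain ⟨u, v, hu, hv, ou, ov, hsq, h1, h690, h1975⟩ := exists_pair hp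
    have hy' : orderOf (⟨y.1, hY y.2⟩ : ↥CK) = p := by
      rw [← Subgroup.orderOf_coe, ← hy, ← Subgroup.orderOf_coe y]
    have key : ∀ {x : PH}, (hx : x ∈ CK) → orderOf x = p → x ∈ Y := fun {x} hx ox =>
      mem_normal_of_order hp (N := Y.subgroupOf CK) hy' y.2
        (u := ⟨x, hx⟩) (by rw [← Subgroup.orderOf_coe, ox])
    rcases hinv _ (Y.mul_mem (key hu ou) (key hv ov)) hsq with h | h
    · exact h1 h
    · rcases hw with rfl | rfl
      · exact h690 h
      · exact h1975 h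
  have hYT : ∀ y ∈ Y, y ∈ T := by
    intro y hy
    have : Fact (Nat.Prime 2) := ⟨Nat.prime_two⟩
    obtain ⟨P, hP⟩ : ∃ P : Sylow 2 ↥CK, (P : Subgroup ↥CK) = T.subgroupOf CK := by
      have hTC : Nat.card ↥(T.subgroupOf CK) = 2 ^ 10 := by
        have hidx : (kP.subgroupOf T).index = 2 := by
          rw [Subgroup.index_eq_two_iff]
          refine ⟨⟨el 1, el_mem (by norm_num)⟩, fun b => ?_⟩
          simp only [Subgroup.mem_subgroupOf, Subgroup.coe_mul,
            Subgroup.mul_mem_iff_of_index_two index_kP, four_facts.2.2.1, iff_false]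
          tauto
        have h := (kP.subgroupOf T).card_mul_index
        rw [hidx, card_T] at h
        rw [Subgroup.subgroupOf, ← Subgroup.card_map_of_injective T.subtype_injective,
          Subgroup.map_comap_eq, Subgroup.range_subtype] at h
        rw [Subgroup.subgroupOf, ← Subgroup.card_map_of_injective CK.subtype_injective,
          Subgroup.map_comap_eq, Subgroup.range_subtype,
          show CK ⊓ T = T ⊓ kP by
            rw [CK, inf_assoc, inf_comm kP T, ← inf_assoc, inf_eq_right.mpr T_le_CX]]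
        omega
      have hidx : ¬ 2 ∣ (T.subgroupOf CK).index := by
        have h := (T.subgroupOf CK).card_mul_index
        rw [hTC, relindex_CK] at h
        omega
      exact ⟨(IsPGroup.of_card hTC).toSylow hidx, rfl⟩
    have h2' : IsPGroup 2 ↥(Y.subgroupOf CK) := h2.comap_of_injective CK.subtype CK.subtype_injective
    have h := h2'.le_sylow_of_normal P
      (show (⟨y, hY hy⟩ : ↥CK) ∈ Y.subgroupOf CK from hy)
    rw [hP] at h
    exact h
  have hwlt : w < 2048 := by rcases hw with rfl | rfl <;> norm_num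
  have noroot : ∀ y ∈ Y, y * y ≠ el w := by
    intro y hy hyy
    obtain ⟨k, hk, rfl⟩ := exists_el (hYT y hy)
    have hK : inK k = true := (inK_iff hk).mpr (mem_CK.mp (hY hy)).2
    rw [sq_eq_of_inner hk hK] at hyy
    have hts := el_inj (tsq_lt2048 _) hwlt hyy
    obtain ⟨l, hl, hcls⟩ : ∃ l, l.all (sqOK w) = true ∧ Cert.allBelow 2048 (sqClassOK w l) = true := by
      rcases hw with rfl | rfl
      exacts [⟨_, sq690_ok, sqClass690_ok⟩, ⟨_, sq1975_ok, sqClass1975_ok⟩]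
    have h' := Cert.allBelow_spec hcls k hk
    simp only [sqClassOK, strict_eq, hK, hts, Nat.beq_refl, Bool.not_true, Bool.false_or,
      List.any_eq_true] at h'
    obtain ⟨⟨k', j, j', fl⟩, he, hk'⟩ := h'
    obtain rfl : k' = k := Nat.eq_of_beq_eq_true hk'
    have hs := List.all_eq_true.mp hl _ he
    simp only [sqOK, Bool.and_eq_true, Bool.not_eq_true', Nat.blt_eq] at hs
    obtain ⟨⟨⟨⟨⟨-, hj⟩, hj'⟩, hjK⟩, hjj⟩, ⟨hi2, hi1⟩, hiw⟩ := hs
    have hl4 : ∀ x ∈ ([k', j, k', j'] : List ℕ), x < 2048 := by simp [hk, hj, hj']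
    rw [eqS_iff (by simp [hj, hj']) (by simp)] at hjj
    simp only [sP_cons, sP_nil, mul_one] at hjj
    have hx : sP [k', j, k', j'] ∈ Y := by
      simp only [sP_cons, sP_nil, mul_one]
      rw [← inv_eq_of_mul_eq_one_right hjj]
      exact Y.mul_mem hy (by simpa [mul_assoc] using hn _ (el_CK hj hjK) _ hy)
    have happ : ∀ a b : List ℕ, sP (a ++ b) = sP a * sP b := fun a b => by
      rw [sP, sP, sP, List.map_append, List.prod_append]
    obtain ⟨i, hiY, hil, hie⟩ : ∃ i : List ℕ, sP i ∈ Y ∧ (∀ x ∈ i, x < 2048) ∧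
        (bif Nat.beq fl 0 then [k', j, k', j'] else [k', j, k', j'] ++ [k', j, k', j']) = i := by
      cases Nat.beq fl 0
      · exact ⟨_, by rw [happ]; exact Y.mul_mem hx hx, List.forall_mem_append.mpr ⟨hl4, hl4⟩, rfl⟩
      · exact ⟨_, hx, hl4, rfl⟩
    rw [hie] at hi2 hi1 hiw
    rw [eqS_iff (List.forall_mem_append.mpr ⟨hil, hil⟩) (by simp), happ, sP_nil] at hi2
    rw [eqS_not hil (by simp), sP_nil] at hi1
    rw [eqS_not hil (by simp [hwlt]), sP_cons, sP_nil, mul_one] at hiw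
    exact (hinv _ hiY hi2).elim hi1 hiw
  intro y hy
  obtain ⟨n, hn⟩ := h2 ⟨y, hy⟩
  have hn' : y ^ 2 ^ n = 1 := congrArg Subtype.val hn
  clear hn
  induction n generalizing y with
  | zero => rw [pow_zero, pow_one] at hn'; exact Or.inl hn'
  | succ n ih =>
    rcases ih (y * y) (Y.mul_mem hy hy) (by rw [← pow_two, ← pow_mul, ← pow_succ']; exact hn') with h | h
    · exact hinv y hy h
    · exact absurd h (noroot y hy)

/-- the elements of the centraliser whose commutators with its inner part lie in `{1, w}` -/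
theorem commutant {w : ℕ} (hw : w = 690 ∨ w = 1975) {μ : PH} (hμ : μ ∈ CX)
    (hc : ∀ h ∈ CK, μ * h * μ⁻¹ = h ∨ μ * h * μ⁻¹ = el w * h) :
    ∃ k, el k = μ ∧ k ∈ (bif Nat.beq w 690 then [0, 82, 103, 164, 564, 690, 807, 1975]
      else [0, 564, 614, 666, 690, 962, 972, 1975] : List ℕ) := by
  have hwlt : w < 2048 := by rcases hw with rfl | rfl <;> norm_num
  have hwc : ∀ x ∈ CX, Commute x (el w) := fun x hx => by
    rcases hw with rfl | rfl
    · exact commute_690_iff.mpr (mem_CX.mp hx)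
    · exact mem_CX.mp hx
  have hw2 : el w * el w = 1 := by
    rcases hw with rfl | rfl
    exacts [sq_el690, sq_el1975]
  have hckn : ∀ c ∈ CX, ∀ h ∈ CK, c * h * c⁻¹ ∈ CK := fun c hc h hh =>
    mem_CK.mpr ⟨mem_CX.mp (CX.mul_mem (CX.mul_mem hc (mem_CX.mpr (mem_CK.mp hh).1)) (CX.inv_mem hc)),
      (conj_mem_kP c).mpr (mem_CK.mp hh).2⟩
  let M : Subgroup PH :=
    { carrier := {x | x ∈ CX ∧ ∀ h ∈ CK, x * h * x⁻¹ = h ∨ x * h * x⁻¹ = el w * h}
      one_mem' := ⟨CX.one_mem, fun h _ => Or.inl (by group)⟩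
      mul_mem' := by
        rintro a b ⟨ha, ha'⟩ ⟨hb, hb'⟩
        refine ⟨CX.mul_mem ha hb, fun h hh => ?_⟩
        have e : a * b * h * (a * b)⁻¹ = a * (b * h * b⁻¹) * a⁻¹ := by group
        rw [e]
        rcases hb' h hh with e' | e' <;> rw [e']
        · exact ha' h hh
        · rw [show a * (el w * h) * a⁻¹ = a * el w * a⁻¹ * (a * h * a⁻¹) by group,
            (hwc a ha).eq, mul_inv_cancel_right]
          rcases ha' h hh with e'' | e'' <;> rw [e'']
          · exact Or.inr rfl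
          · exact Or.inl (by rw [← mul_assoc, hw2, one_mul])
      inv_mem' := by
        rintro a ⟨ha, ha'⟩
        refine ⟨CX.inv_mem ha, fun h hh => ?_⟩
        obtain ⟨h', hh', e⟩ : ∃ h' ∈ CK, a⁻¹ * h * a⁻¹⁻¹ = h' := ⟨_, hckn _ (CX.inv_mem ha) h hh, rfl⟩
        rcases ha' h' hh' with e' | e'
        · refine Or.inl ?_
          rw [e]
          calc h' = a * h' * a⁻¹ := e'.symm
            _ = h := by rw [← e]; group
        · refine Or.inr ?_
          rw [e]
          have e2 : h = el w * h' := by rw [← e', ← e]; group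
          rw [e2, ← mul_assoc, hw2, one_mul] }
  have hMn : ∀ c ∈ CX, ∀ x ∈ M, c * x * c⁻¹ ∈ M := by
    rintro c hc x ⟨hx, hx'⟩
    refine ⟨CX.mul_mem (CX.mul_mem hc hx) (CX.inv_mem hc), fun h hh => ?_⟩
    obtain ⟨h', hh', e⟩ : ∃ h' ∈ CK, c⁻¹ * h * c⁻¹⁻¹ = h' := ⟨_, hckn _ (CX.inv_mem hc) h hh, rfl⟩
    have e1 : c * x * c⁻¹ * h * (c * x * c⁻¹)⁻¹ = c * (x * h' * x⁻¹) * c⁻¹ := by rw [← e]; group
    rw [e1]
    rcases hx' h' hh' with e2 | e2 <;> rw [e2, ← e]
    · exact Or.inl (by group)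
    · refine Or.inr ?_
      calc c * (el w * (c⁻¹ * h * c⁻¹⁻¹)) * c⁻¹ = c * el w * c⁻¹ * h := by group
        _ = _ := by rw [(hwc c hc).eq, mul_inv_cancel_right]
  have h2 : IsPGroup 2 ↥M := by
    by_contra h2
    have hMle : M ≤ CX := fun x hx => hx.1
    obtain ⟨p, hp, y, hy⟩ := prime_cases (n := 30720)
      (by rw [← card_CX]; exact Subgroup.card_dvd_of_le hMle) primes_15360 h2
    have hodd : Odd p := by rcases hp with rfl | rfl <;> decide
    have hyp : y.1 ^ p = 1 := by rw [← hy, ← Subgroup.orderOf_coe, pow_orderOf_eq_one]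
    have hyK : y.1 ∈ CK := by
      refine mem_CK.mpr ⟨mem_CX.mp y.2.1, ?_⟩
      obtain ⟨r, hr⟩ := hodd
      have h2mem : ∀ x : PH, x * x ∈ kP := Subgroup.mul_self_mem_of_index_two index_kP
      have e : y.1 = (y.1 ^ (r + 1)) * (y.1 ^ (r + 1)) := by
        rw [← pow_add, show r + 1 + (r + 1) = p + 1 by omega, pow_succ, hyp, one_mul]
      rw [e]; exact h2mem _
    have hcen : ∀ h ∈ CK, Commute y.1 h := by
      intro h hh
      rcases y.2.2 h hh with e | e
      · exact mul_inv_eq_iff_eq_mul.mp e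
      · exfalso
        have hyw : Commute y.1 (el w) := hwc _ y.2.1
        have hn : ∀ n : ℕ, y.1 ^ n * h * (y.1 ^ n)⁻¹ = el w ^ n * h := by
          intro n
          induction n with
          | zero => simp
          | succ n ih =>
            calc y.1 ^ (n + 1) * h * (y.1 ^ (n + 1))⁻¹ = y.1 * (y.1 ^ n * h * (y.1 ^ n)⁻¹) * y.1⁻¹ := by
                  rw [pow_succ']; group
              _ = y.1 * el w ^ n * y.1⁻¹ * (y.1 * h * y.1⁻¹) := by rw [ih]; group
              _ = _ := by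
                  rw [(hyw.pow_right n).eq, mul_inv_cancel_right, e, pow_succ, mul_assoc]
        have := hn p
        obtain ⟨r, hr⟩ := hodd
        rw [hyp, inv_one, one_mul, mul_one, hr, pow_succ, pow_mul, pow_two, hw2, one_pow, one_mul] at this
        refine el_ne hwlt (by norm_num : (0 : ℕ) < 2048) (by rcases hw with rfl | rfl <;> norm_num) ?_
        rw [el_zero]
        exact mul_eq_right.mp this.symm
    obtain ⟨u, v, hu, hv, ou, ov, hsq, huv, -, -⟩ := exists_pair hp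
    haveI : (Subgroup.zpowers (⟨y.1, hyK⟩ : ↥CK)).Normal := ⟨fun a ha c => by
      obtain ⟨m, rfl⟩ := Subgroup.mem_zpowers_iff.mp ha
      have hc : Commute (⟨y.1, hyK⟩ : ↥CK) c := Subtype.ext (hcen c.1 c.2).eq
      rw [← ((hc.zpow_left m)).eq, mul_inv_cancel_right]
      exact Subgroup.zpow_mem _ (Subgroup.mem_zpowers _) m⟩
    have hy' : orderOf (⟨y.1, hyK⟩ : ↥CK) = p := by
      rw [← Subgroup.orderOf_coe, ← hy, ← Subgroup.orderOf_coe y]
    have key : ∀ {x : PH}, (hx : x ∈ CK) → orderOf x = p → ∃ m : ℤ, y.1 ^ m = x := fun {x} hx ox => by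
      obtain ⟨m, hm⟩ := Subgroup.mem_zpowers_iff.mp (mem_normal_of_order hp
        (N := Subgroup.zpowers (⟨y.1, hyK⟩ : ↥CK)) hy' (Subgroup.mem_zpowers _) (u := ⟨x, hx⟩)
        (by rw [← Subgroup.orderOf_coe, ox]))
      exact ⟨m, congrArg Subtype.val hm⟩
    obtain ⟨m, rfl⟩ := key hu ou
    obtain ⟨n, rfl⟩ := key hv ov
    refine huv ?_
    have e : (y.1 ^ (m + n)) ^ p = 1 := by
      rw [← zpow_natCast, ← zpow_mul, mul_comm, zpow_mul, zpow_natCast, hyp, one_zpow]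
    rw [← zpow_add] at hsq ⊢
    obtain ⟨r, hr⟩ := hodd
    rw [hr, pow_succ, pow_mul, pow_two, hsq, one_pow, one_mul] at e
    exact e
  have hMle : M ≤ CX := fun x (hx : x ∈ M) => hx.1
  obtain ⟨k, hk, rfl⟩ := exists_el (le_T_of_normal hMle h2 hMn
    (show μ ∈ M from ⟨hμ, hc⟩))
  refine ⟨k, rfl, ?_⟩
  obtain ⟨ts, allowed, hok, hal⟩ : ∃ ts al, Cert.allBelow 2048 (testOK w ts al) = true ∧
      (bif Nat.beq w 690 then [0, 82, 103, 164, 564, 690, 807, 1975]
        else [0, 564, 614, 666, 690, 962, 972, 1975] : List ℕ) = al := by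
    rcases hw with rfl | rfl
    exacts [⟨_, _, test690_ok, rfl⟩, ⟨_, _, test1975_ok, rfl⟩]
  rw [hal]
  have h' := Cert.allBelow_spec hok k hk
  simp only [testOK, strict_eq, Bool.or_eq_true, List.any_eq_true, Bool.and_eq_true,
    Bool.not_eq_true', Nat.blt_eq] at h'
  rcases h' with ⟨m, hm, hmk⟩ | ⟨s, -, ⟨⟨hs, hsK⟩, h1⟩, h2'⟩
  · rwa [← Nat.eq_of_beq_eq_true hmk]
  · exfalso
    rw [eqS_not (by simp [hk, hs]) (by simp [hk, hs])] at h1
    rw [eqS_not (by simp [hk, hs]) (by simp [hk, hs, hwlt])] at h2'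
    simp only [sP_cons, sP_nil, mul_one] at h1 h2'
    rcases hc _ (el_CK hs hsK) with e | e
    · exact h1 (mul_inv_eq_iff_eq_mul.mp e)
    · exact h2' (by rw [← mul_assoc]; exact mul_inv_eq_iff_eq_mul.mp e)

/-- the elements acting on the inner centraliser modulo `{1, 690}` are involutions -/
theorem commutant_690 {μ : PH} (hμ : μ ∈ CX)
    (hc : ∀ h ∈ CK, μ * h * μ⁻¹ = h ∨ μ * h * μ⁻¹ = el 690 * h) : μ * μ = 1 := by
  obtain ⟨k, rfl, hk⟩ := commutant (Or.inl rfl) hμ hc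
  have hall : ∀ m ∈ ([0, 82, 103, 164, 564, 690, 807, 1975] : List ℕ),
      m < 2048 ∧ inK m = true ∧ sylTSq m = 0 := by decide +kernel
  obtain ⟨hk', hK, hts⟩ := hall k hk
  rw [sq_eq_of_inner hk' hK, hts, el_zero]

/-- the elements acting on the inner centraliser modulo `{1, 1975}` -/
theorem commutant_1975 {μ : PH} (hμ : μ ∈ CX)
    (hc : ∀ h ∈ CK, μ * h * μ⁻¹ = h ∨ μ * h * μ⁻¹ = el 1975 * h) :
    ∃ a, (a = 1 ∨ a = iP ∨ a = el 690 ∨ a = el 1975) ∧ (μ = a ∨ μ = el 614 * a) := by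
  obtain ⟨-, -, -, -, -, h1, h2, h3⟩ := four_facts
  obtain ⟨k, rfl, hk⟩ := commutant (Or.inr rfl) hμ hc
  have hk' : k ∈ ([0, 564, 614, 666, 690, 962, 972, 1975] : List ℕ) := hk
  simp only [List.mem_cons, List.not_mem_nil, or_false] at hk'
  rcases hk' with rfl | rfl | rfl | rfl | rfl | rfl | rfl | rfl
  · exact ⟨1, Or.inl rfl, Or.inl el_zero⟩
  · exact ⟨iP, Or.inr (Or.inl rfl), Or.inl iP_eq.symm⟩
  · exact ⟨1, Or.inl rfl, Or.inr (mul_one _).symm⟩
  · exact ⟨iP, Or.inr (Or.inl rfl), Or.inr h1.symm⟩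
  · exact ⟨el 690, Or.inr (Or.inr (Or.inl rfl)), Or.inl rfl⟩
  · exact ⟨el 1975, Or.inr (Or.inr (Or.inr rfl)), Or.inr h2.symm⟩
  · exact ⟨el 690, Or.inr (Or.inr (Or.inl rfl)), Or.inr h3.symm⟩
  · exact ⟨el 1975, Or.inr (Or.inr (Or.inr rfl)), Or.inl rfl⟩

end CfsgLib.HNStd
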