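import Cfsg.Agent.Lib.HNType.Fusion

/-!
Numbers of square roots of the central involutions in the possible extensions of the Sylow subgroup.
-/

set_option autoImplicit false
set_option maxRecDepth 100000
set_option maxHeartbeats 4000000

namespace CfsgLib.HNStd

open CfsgLib.CosetEnum CfsgLib.DCoset CfsgLib.HN CfsgLib.HNType

/-- entry `n` is a root: `outer` admits outer elements, `tw` twists their squares, and the high
part of `n` is the exponent of the extra root of the central involution -/
noncomputable def sqHit (outer tw : Bool) (v v' : ℕ) (n : ℕ) : Bool := strict (n % 2048) fun k =>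
  bif inK k then Nat.beq (sylTSq k) (bif Nat.beq (n / 2048) 0 then v else v')
  else outer && Nat.beq (sylTSq k) (bif tw then v else v')

/-- the number of roots -/
noncomputable def sqCnt (outer tw : Bool) (m v v' : ℕ) : ℕ :=
  ((List.range (2048 * m)).filter (sqHit outer tw v v')).length

/-- the central involution has another number of roots -/
noncomputable def sqDiffer (outer tw : Bool) (m w w' : ℕ) : Bool :=
  !Nat.beq (sqCnt outer tw m 564 0) (sqCnt outer tw m w w')

/-- the ten differences -/
noncomputable def sqDiffOK : Bool := [1, 2].all fun m =>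
  sqDiffer false false m 690 1975 && sqDiffer false false m 1975 690 && sqDiffer true true m 690 1975 &&
  sqDiffer true true m 1975 690 && sqDiffer true false m 690 1975

theorem sqDiff_ok : sqDiffOK = true := by decide +kernel

theorem sqCnt_ne {outer tw : Bool} {m w w' : ℕ} (hm : m = 1 ∨ m = 2)
    (hw : w = 690 ∧ w' = 1975 ∨ w = 1975 ∧ w' = 690)
    (hcase : (outer = false ∧ tw = false) ∨ (outer = true ∧ tw = true) ∨
      (outer = true ∧ tw = false ∧ w = 690)) :
    sqCnt outer tw m 564 0 ≠ sqCnt outer tw m w w' := by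
  intro e
  have h := sqDiff_ok
  simp only [sqDiffOK, List.all_eq_true, Bool.and_eq_true] at h
  obtain ⟨⟨⟨⟨h1, h2⟩, h3⟩, h4⟩, h5⟩ := h m (by rcases hm with rfl | rfl <;> simp)
  have key : ∀ o t, sqDiffer o t m w w' = true → o = outer → t = tw → False := fun o t hh ho ht => by
    subst ho ht
    rw [sqDiffer, e, Nat.beq_refl] at hh
    cases hh
  rcases hcase with ⟨ho, ht⟩ | ⟨ho, ht⟩ | ⟨ho, ht, h6⟩
  · rcases hw with ⟨rfl, rfl⟩ | ⟨rfl, rfl⟩
    exacts [key _ _ h1 ho.symm ht.symm, key _ _ h2 ho.symm ht.symm]
  · rcases hw with ⟨rfl, rfl⟩ | ⟨rfl, rfl⟩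
    exacts [key _ _ h3 ho.symm ht.symm, key _ _ h4 ho.symm ht.symm]
  · rcases hw with ⟨rfl, rfl⟩ | ⟨rfl, rfl⟩
    · exact key _ _ h5 ho.symm ht.symm
    · exact absurd h6 (by norm_num)

end CfsgLib.HNStd
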