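import Mathlib

/-!
A standard double cover of the Higman-Sims group: certified data on the group on 1408 points.
-/

set_option autoImplicit false
set_option linter.style.longLine false
set_option maxRecDepth 100000

namespace CfsgLib.HNStd

/-- a representative, two words of odd order commuting with it, their orders and a conjugator -/
def witData : List (ℕ × List ℕ × ℕ × List ℕ × ℕ × List ℕ) :=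
  [
    (1,[2,4,2,2,0,2,4,0,3,4,3,3,4,3,2,4,3,4,2,1],15,[0,3,0,2,2,2,0,2,2,4,2,2,4,2,1,2,2,1],7,[0,2,2,4,2,2,0,4]),
    (101,[3,4,3,3,0,3,0,2,2,4,2,2,1,3,4,3,4,1,2,1,3,3,1,2,1,2,0,3,3,0,2,2,4,2,0,2,1,3,1,2,2,4,2,2,1,3,1,2,1],5,[4,2,2,4,3,3,0,4,2,4,2,2,1,2,1,3,3,4,2,1,3,1,0,2,2,0,2,2,0,2,2,0,3,3,4,3,1,3,1,3,4,3,1,2,4,2,2],5,[0,0,3,4,1,4,4,3,4,1,4,4,3,4,1,4,4,4,2,2,1,0,0,0,3,4,1,4,4,3,4,1,4,4,3,4,1,4,4,1,0,3,3,4,0,0,3,4,1,4,4,3,4,1,4,4,3,4,1,4,4,4,2,2,1,0,0,0,3,4,1,4,4,3,4,1,4,4,3,4,1,4,4,1,0,3,3,4,3,3,1,1,0,3,1,4,3,0,2,0,1,0,3,4,1,4,4,3,4,1,4,4,3,4,1,4,4,1,0,1,3,1,2,4,3,4,1,4,4,3,4,1,4,4,3,4,1,4,4,4,3,0,2,0,1,0,0,0,3,4,1,4,4,3,4,1,4,4,3,4,1,4,4,4,2,2,1,0,0,0,3,4,1,4,4,3,4,1,4,4,3,4,1,4,4,1,0,3,3,4,0,0,3,4,1,4,4,3,4,1,4,4,3,4,1,4,4,4,2,2,1,0,0,0,3,4,1,4,4,3,4,1,4,4,3,4,1,4,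4,1,0,3,3,4,4,3,0,2,0,1,0,3,4,1,4,4,3,4,1,4,4,3,4,1,4,4,1,0,1,3,1,2,4,3,4,1,4,4,3,4,1,4,4,3,4,1,4,4,4,3,0,2,0,1,0,0,0,3,4,1,4,4,3,4,1,4,4,3,4,1,4,4,4,2,2,1,0,0,0,3,4,1,4,4,3,4,1,4,4,3,4,1,4,4,1,0,3,3,4,0,0,3,4,1,4,4,3,4,1,4,4,3,4,1,4,4,4,2,2,1,0,0,0,3,4,1,4,4,3,4,1,4,4,3,4,1,4,4,1,0,3,3,4,0,2,1,0,0,2,2,4,3,0,2,0,1,0,3,4,1,4,4,3,4,1,4,4,3,4,1,4,4,1,0,1,3,1,2,4,3,4,1,4,4,3,4,1,4,4,3,4,1,4,4,4,3,0,2,0,1,0,0,0,3,4,1,4,4,3,4,1,4,4,3,4,1,4,4,4,2,2,1,0,0,0,3,4,1,4,4,3,4,1,4,4,3,4,1,4,4,1,0,3,3,4,0,0,3,4,1,4,4,3,4,1,4,4,3,4,1,4,4,4,2,2,1,0,0,0,3,4,1,4,4,3,4,1,4,4,3,4,1,4,4,1,0,3,3,4,4,3,0,2,0,1,0,3,4,1,4,4,3,4,1,4,4,3,4,1,4,4,1,0,1,3,1,2,4,3,4,1,4,4,3,4,1,4,4,3,4,1,4,4,4,3,0,2,0,1,0,0,0,3,4,1,4,4,3,4,1,4,4,3,4,1,4,4,4,2,2,1,0,0,0,3,4,1,4,4,3,4,1,4,4,3,4,1,4,4,1,0,3,3,4,0,0,3,4,1,4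,4,3,4,1,4,4,3,4,1,4,4,4,2,2,1,0,0,0,3,4,1,4,4,3,4,1,4,4,3,4,1,4,4,1,0,3,3,4,3,3,1,1,0,3,1,4,3,0,2,0,1,0,3,4,1,4,4,3,4,1,4,4,3,4,1,4,4,1,0,1,3,1,2,4,3,4,1,4,4,3,4,1,4,4,3,4,1,4,4,4,3,0,2,0,1,0,0,0,3,4,1,4,4,3,4,1,4,4,3,4,1,4,4,4,2,2,1,0,0,0,3,4,1,4,4,3,4,1,4,4,3,4,1,4,4,1,0,3,3,4,0,0,3,4,1,4,4,3,4,1,4,4,3,4,1,4,4,4,2,2,1,0,0,0,3,4,1,4,4,3,4,1,4,4,3,4,1,4,4,1,0,3,3,4,4,3,0,2,0,1,0,3,4,1,4,4,3,4,1,4,4,3,4,1,4,4,1,0,1,3,1,2,4,3,4,1,4,4,3,4,1,4,4,3,4,1,4,4,4,3,0,2,0,1,0,0,0,3,4,1,4,4,3,4,1,4,4,3,4,1,4,4,4,2,2,1,0,0,0,3,4,1,4,4,3,4,1,4,4,3,4,1,4,4,1,0,3,3,4,0,0,3,4,1,4,4,3,4,1,4,4,3,4,1,4,4,4,2,2,1,0,0,0,3,4,1,4,4,3,4,1,4,4,3,4,1,4,4,1,0,3,3,4,0,2,1,0,0,2,2,4,3,0,2,0,1,0,3,4,1,4,4,3,4,1,4,4,3,4,1,4,4,1,0,1,3,1,2,4,3,4,1,4,4,3,4,1,4,4,3,4,1,4,4,4,3,0,2,0,1,0,0,0,3,4,1,4,4,3,4,1,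4,4,3,4,1,4,4,4,2,2,1,0,0,0,3,4,1,4,4,3,4,1,4,4,3,4,1,4,4,1,0,3,3,4,0,0,3,4,1,4,4,3,4,1,4,4,3,4,1,4,4,4,2,2,1,0,0,0,3,4,1,4,4,3,4,1,4,4,3,4,1,4,4,1,0,3,3,4,4,3,0,2,0,1,0,3,4,1,4,4,3,4,1,4,4,3,4,1,4,4,1,0,1,3,1,2,4,3,4,1,4,4,3,4,1,4,4,3,4,1,4,4,4,3,0,2,0,1,0,0,0,3,4,1,4,4,3,4,1,4,4,3,4,1,4,4,4,2,2,1,0,0,0,3,4,1,4,4,3,4,1,4,4,3,4,1,4,4,1,0,3,3,4,0,0,3,4,1,4,4,3,4,1,4,4,3,4,1,4,4,4,2,2,1,0,0,0,3,4,1,4,4,3,4,1,4,4,3,4,1,4,4,1,0,3,3,4,3,3,1,1,0,3,1,3,3,1,1,0,3,1,4,3,0,2,0,1,0,3,4,1,4,4,3,4,1,4,4,3,4,1,4,4,1,0,1,3,1,2,4,3,4,1,4,4,3,4,1,4,4,3,4,1,4,4,4,3,0,2,0,1,0,0,0,3,4,1,4,4,3,4,1,4,4,3,4,1,4,4,4,2,2,1,0,0,0,3,4,1,4,4,3,4,1,4,4,3,4,1,4,4,1,0,3,3,4,0,0,3,4,1,4,4,3,4,1,4,4,3,4,1,4,4,4,2,2,1,0,0,0,3,4,1,4,4,3,4,1,4,4,3,4,1,4,4,1,0,3,3,4,4,3,0,2,0,1,0,3,4,1,4,4,3,4,1,4,4,3,4,1,4,4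,1,0,1,3,1,2,4,3,4,1,4,4,3,4,1,4,4,3,4,1,4,4,4,3,0,2,0,1,0,0,0,3,4,1,4,4,3,4,1,4,4,3,4,1,4,4,4,2,2,1,0,0,0,3,4,1,4,4,3,4,1,4,4,3,4,1,4,4,1,0,3,3,4,0,0,3,4,1,4,4,3,4,1,4,4,3,4,1,4,4,4,2,2,1,0,0,0,3,4,1,4,4,3,4,1,4,4,3,4,1,4,4,1,0,3,3,4,0,2,1,0,0,2,2,4,3,0,2,0,1,0,3,4,1,4,4,3,4,1,4,4,3,4,1,4,4,1,0,1,3,1,2,4,3,4,1,4,4,3,4,1,4,4,3,4,1,4,4,4,3,0,2,0,1,0,0,0,3,4,1,4,4,3,4,1,4,4,3,4,1,4,4,4,2,2,1,0,0,0,3,4,1,4,4,3,4,1,4,4,3,4,1,4,4,1,0,3,3,4,0,0,3,4,1,4,4,3,4,1,4,4,3,4,1,4,4,4,2,2,1,0,0,0,3,4,1,4,4,3,4,1,4,4,3,4,1,4,4,1,0,3,3,4,4,3,0,2,0,1,0,3,4,1,4,4,3,4,1,4,4,3,4,1,4,4,1,0,1,3,1,2,4,3,4,1,4,4,3,4,1,4,4,3,4,1,4,4,4,3,0,2,0,1,0,0,0,3,4,1,4,4,3,4,1,4,4,3,4,1,4,4,4,2,2,1,0,0,0,3,4,1,4,4,3,4,1,4,4,3,4,1,4,4,1,0,3,3,4,0,0,3,4,1,4,4,3,4,1,4,4,3,4,1,4,4,4,2,2,1,0,0,0,3,4,1,4,4,3,4,1,4,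4,3,4,1,4,4,1,0,3,3,4,3,3,1,1,0,3,1,4,3,0,2,0,1,0,3,4,1,4,4,3,4,1,4,4,3,4,1,4,4,1,0,1,3,1,2,4,3,4,1,4,4,3,4,1,4,4,3,4,1,4,4,4,3,0,2,0,1,0,0,0,3,4,1,4,4,3,4,1,4,4,3,4,1,4,4,4,2,2,1,0,0,0,3,4,1,4,4,3,4,1,4,4,3,4,1,4,4,1,0,3,3,4,0,0,3,4,1,4,4,3,4,1,4,4,3,4,1,4,4,4,2,2,1,0,0,0,3,4,1,4,4,3,4,1,4,4,3,4,1,4,4,1,0,3,3,4,4,3,0,2,0,1,0,3,4,1,4,4,3,4,1,4,4,3,4,1,4,4,1,0,1,3,1,2,4,3,4,1,4,4,3,4,1,4,4,3,4,1,4,4,4,3,0,2,0,1,0,0,0,3,4,1,4,4,3,4,1,4,4,3,4,1,4,4,4,2,2,1,0,0,0,3,4,1,4,4,3,4,1,4,4,3,4,1,4,4,1,0,3,3,4,0,0,3,4,1,4,4,3,4,1,4,4,3,4,1,4,4,4,2,2,1,0,0,0,3,4,1,4,4,3,4,1,4,4,3,4,1,4,4,1,0,3,3,4,0,2,1,0,0,2,2,4,3,0,2,0,1,0,3,4,1,4,4,3,4,1,4,4,3,4,1,4,4,1,0,1,3,1,2,4,3,4,1,4,4,3,4,1,4,4,3,4,1,4,4,4,3,0,2,0,1,0,0,0,3,4,1,4,4,3,4,1,4,4,3,4,1,4,4,4,2,2,1,0,0,0,3,4,1,4,4,3,4,1,4,4,3,4,1,4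,4,1,0,3,3,4,0,0,3,4,1,4,4,3,4,1,4,4,3,4,1,4,4,4,2,2,1,0,0,0,3,4,1,4,4,3,4,1,4,4,3,4,1,4,4,1,0,3,3,4,4,3,0,2,0,1,0,3,4,1,4,4,3,4,1,4,4,3,4,1,4,4,1,0,1,3,1,2,4,3,4,1,4,4,3,4,1,4,4,3,4,1,4,4,4,3,0,2,0,1,0,0,0,3,4,1,4,4,3,4,1,4,4,3,4,1,4,4,4,2,2,1,0,0,0,3,4,1,4,4,3,4,1,4,4,3,4,1,4,4,1,0,3,3,4,0,0,3,4,1,4,4,3,4,1,4,4,3,4,1,4,4,4,2,2,1,0,0,0,3,4,1,4,4,3,4,1,4,4,3,4,1,4,4,1,0,3,3,4,3,3,1,1,0,3,1,4,3,0,2,0,1,0,3,4,1,4,4,3,4,1,4,4,3,4,1,4,4,1,0,1,3,1,2,4,3,4,1,4,4,3,4,1,4,4,3,4,1,4,4,4,3,0,2,0,1,0,4,2,4,3,4]),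
    (21,[0,2,2,0,2,2,2,0,3,3,4,3,4,1,3,3,3,1,2,4,2,4,3,2,4,3,4,3,4,3,3,4,3,4,3,4,3,4,3,4,3,3,4,3,4,1,2,1],3,[3,4,2,4,2,2,0,3,4,0,4,1,2,1,3,3,4,3,4,2,3,0,2,0,2,2,2,4,2,2,0,3,0,3,4,1,2,4,3,3,4,3,1,2],3,[0,2,2,2,4,2,0,2,0,2,4,3])]

/-- inner roots of the central involution, with a word conjugating the representative to them -/
def rootData : List (ℕ × List ℕ) :=
  [
    (21,[]),
    (24,[0,4,2,0,2,4,2,4,2]),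
    (38,[0,4,2,0,4,2,0,4,2]),
    (43,[0,4,2,0,2,2,4,3]),
    (117,[0,4,2,2,0,4,2]),
    (128,[3,3,0,4,2,2]),
    (159,[4,3,0,4,3,4,2]),
    (171,[0,2,0,2,0,2,0,2]),
    (179,[3,4,2,2,2,4,3,4,2]),
    (184,[2,2,2,0,3,4,3,0,4,3,0,2,2]),
    (192,[2,2,2,0,3,3,0,4,3,0,3,3]),
    (241,[2,2,2,0,3,3,0,4,3,4,3,3]),
    (263,[0,2,4,3,3,0,4]),
    (277,[3,4,2,2,2,0,2,4]),
    (299,[2,4,2,0,2,2,0,3,3,0,3,0,2]),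
    (387,[4,3,0,2,0,2,2,4,2,0]),
    (489,[0,3,4,2,4,2,2,2,0,4]),
    (557,[0,2,0,2]),
    (583,[3,0,4,3,3,0,4]),
    (596,[2,0,3,0,3,4]),
    (695,[0,4,2,4,3,0,4]),
    (708,[3,3,0,2,4,3,4]),
    (734,[3,4,2,0,2,4]),
    (791,[0,2,0,2,4,3,4,2,4]),
    (798,[3,4,2,0,4,2,4]),
    (977,[3,0,3,0]),
    (1027,[0,3,4,2,4,3,4,3,0]),
    (1075,[2,2,2,0,3,0,4,2,4,2,2]),
    (1135,[2,0,2,2,4,2,2,2,0,3,4]),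
    (1146,[0,2,0,2,0,3,3,0]),
    (1154,[0,3,0,2,0,2,4,2,4,2,2,0,4]),
    (1173,[0,2,4,3,0,2,2,4,3]),
    (1180,[0,4,2,0,3,0,4]),
    (1197,[2,4,2,0,2,2,4,3,4,3,0,3,4]),
    (1221,[2,2,2,0,3,3,0,3,4,3,3]),
    (1236,[2,2,0,2,2,4,3,0,3,4]),
    (1254,[2,4,2,4,3,3]),
    (1261,[2,2,0,2,0,2,0,4,2,2,0]),
    (1263,[0,2,0,3,0,3,4,2,2,4,2]),
    (1294,[4,3,4,3,3,0]),
    (1300,[2,2,0,2,0,3,0,2]),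
    (1308,[2,0,2,2,4,3,3,0,2,4,2,2,4]),
    (1326,[2,2,4,2,0,3,4,3,0,2,0,2]),
    (1350,[2,0,2,2,4,2,2,4,2,4,2,4]),
    (1352,[2,0,3,0,4,3,0,2,2]),
    (1365,[2,2,0,2,0,3,3,0,2,0,4,3]),
    (1369,[0,2,2,0,3,0,2,2,0,2]),
    (1380,[4,2,2,0,2,4,2,4,2,0,4]),
    (1390,[0,3,0,4,2,4,2,4,3,3]),
    (1391,[3,3,4,3,0,3,3,4,2,2,2]),
    (1402,[3,4,2,2,4,2]),
    (1404,[2,0,2,2,4,2,2,0,2,0,3,4]),
    (1410,[3,4,2,4,2,4,3]),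
    (1420,[2,4,3,4,2,4,2]),
    (1423,[0,3,0,2,0,2,2,0,3,3]),
    (1438,[0,2,0,2,4,2,0,4,2,0]),
    (1519,[2,2,2,0,3,3,0,3,3,0]),
    (1522,[2,4,3,3,0,3,4,3,0,2,2,2]),
    (1527,[2,4,3,0,3,0,4,3,4]),
    (1546,[0,2,4,3,0,3,0,4]),
    (1573,[3,3,4,3,0,3,4,3,4,3]),
    (1584,[2,4,3,0,2,2,0,2,4,3]),
    (1607,[2,2,4,2,0,3,0,3]),
    (1611,[2,2,0,4,2,0,3,3,0,3,3,0,4]),
    (1616,[2,4,2,0,4,2,0,2,2,0]),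
    (1617,[0,4,2,4,3,3,0,2,4,2]),
    (1624,[0,2,4,3,0,2,2,0,3]),
    (1636,[3,4,2,4,2,0,3]),
    (1640,[2,2,4,2,0,3,4,3,0,4,3]),
    (1647,[2,2,0,2,0,3,4,3,3,4,3,0]),
    (1649,[4,3,4,2,4]),
    (1650,[2,0,2,2,4,3,3,0,2,0,2,4,2]),
    (1658,[0,2,2,0,4,3,0,2,2,4]),
    (1659,[0,3,3,0,4,3,3,0,2]),
    (1671,[3,4,2,2,0,2,4,2,4,2,0]),
    (1672,[0,2,0,4,2,0,4,2,4]),
    (1818,[0,2,0,2,0,3,0,2]),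
    (1967,[4,2,0,2,2,0,3,3]),
    (2015,[0,2,0,4,2,0,3,3,4,2]),
    (2034,[3,3,4,3,0,3,3,4,3,4,3,0])]

/-- inner words centralising a representative and moving element 1975 -/
def moveWords : List (ℕ × List ℕ) :=
  [
    (1,[2,4,3,4,2,1]),
    (2,[2,2,0,3,3,0,2,4,0,2,1,3,3,1,2,4,2]),
    (5,[2,0,4,3,3,3,3,4,1,3,3,1]),
    (11,[0,3,3,0,2,0,2,1,4,3,1,3,4,3,1]),
    (20,[2,0,2,4,3,3,0,3,1,3,1,3,4,1]),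
    (21,[0,4,3,3,0,2,4,0,3,1,2,4,1,2,4,1]),
    (28,[0,2,0,2,0,3,0,4,3,3,1,2,4,2,2,1]),
    (82,[3,0,2,2,4,3,3,1,4,3,3,1,3,3,3,1]),
    (101,[0,2,2,2,0,2,0,4,2,4,0,3,3,4,2,4,1,3,3,1,3]),
    (117,[4,3,3,4,2,4,2,2,0,4,2,4,2,1,2,2,4,1]),
    (165,[2,0,2,2,0,3,3,4,2,1,4,2,1,3,3,3,1,3,3]),
    (178,[4,3,0,4,2,2,4,3,3,4,2,2,1,3,1]),
    (184,[2,0,2,2,4,3,3,4,2,4,2,2,4,2]),
    (229,[0,4,3,0,3,0,3,3,0,2,4,1,3,3,1,3]),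
    (628,[4,2,2,4,2,0,4,2,2,4,2,2,2,4,3,3,3,4,3,3,1,3]),
    (699,[0,2,0,4,3,3,3,3,4,2,2]),
    (1064,[3,4,3,3,0,3,0,4,3,4,0,2,4,3,4,2,2,1,2,2,4]),
    (1784,[2,2,2,4,2,0,3,3,1,3,3,4,3,1,2,1])]

/-- a conjugate, the index of its representative and the conjugating element -/
def moveData : List (ℕ × ℕ × ℕ) :=
  [
    (1,0,0), (2,1,0), (5,2,0), (11,3,0), (20,4,0), (21,5,0),
    (24,5,7), (28,6,0), (38,5,1), (39,6,1), (43,5,4), (45,6,4),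
    (82,7,0), (84,3,2), (101,8,0), (103,7,2), (109,8,2), (117,9,0),
    (128,9,4), (146,8,9), (158,8,2), (159,9,11), (164,7,2), (165,10,0),
    (167,4,2), (170,6,1), (171,5,1), (178,11,0), (179,5,18), (184,12,0),
    (186,10,2), (192,12,2), (200,11,42), (201,6,0), (208,0,4), (211,11,30),
    (213,6,7), (225,11,2), (229,13,0), (234,0,7), (241,12,2), (242,11,9),
    (247,10,2), (261,6,68), (263,5,0), (270,1,21), (274,6,22), (276,11,9),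
    (277,5,9), (282,13,9), (284,6,3), (286,11,1), (293,6,52), (296,1,12),
    (299,12,0), (305,6,80), (311,1,3), (312,6,16), (319,13,4), (323,6,31),
    (324,1,7), (326,1,11), (330,6,81), (332,1,36), (333,6,60), (338,11,11),
    (341,6,80), (344,11,42), (351,0,0), (354,11,3), (361,6,13), (362,6,32),
    (363,1,52), (366,0,7), (367,1,12), (370,11,30), (377,6,57), (383,11,4),
    (387,12,14), (389,11,6), (397,11,0), (401,10,7), (406,11,5), (414,6,189),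
    (416,6,53), (419,1,32), (422,6,40), (425,0,4), (427,1,4), (428,6,25),
    (429,1,21), (449,6,68), (453,10,7), (454,6,38), (489,9,11), (512,8,0),
    (524,2,3), (539,2,11), (545,2,4), (557,9,0), (576,2,40), (583,9,4),
    (596,9,27), (628,14,0), (632,2,15), (668,14,16), (675,3,41), (695,9,9),
    (696,3,16), (699,15,0), (708,9,2), (714,2,0), (725,3,4), (734,9,9),
    (758,14,3), (774,8,4), (791,9,3), (798,9,27), (801,8,28), (803,14,3),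
    (807,7,0), (821,8,10), (826,2,3), (845,8,26), (860,15,2), (876,8,28),
    (885,15,8), (889,3,16), (924,15,3), (926,8,12), (929,3,12), (936,3,41),
    (956,2,4), (965,14,4), (977,9,2), (978,15,4), (984,14,1), (995,14,1),
    (999,3,28), (1015,8,26), (1017,3,0), (1025,14,16), (1027,9,8), (1028,15,0),
    (1030,14,7), (1039,8,12), (1040,3,4), (1046,14,12), (1051,4,41), (1061,13,4),
    (1064,16,0), (1066,0,44), (1071,11,14), (1072,4,16), (1075,12,49), (1077,6,40),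
    (1084,11,37), (1090,1,0), (1094,6,13), (1099,11,3), (1101,16,12), (1107,6,22),
    (1110,11,14), (1115,6,6), (1127,13,15), (1132,6,41), (1135,12,4), (1141,13,28),
    (1146,5,11), (1147,16,25), (1149,11,8), (1150,13,2), (1154,12,28), (1157,16,1),
    (1161,13,30), (1167,11,13), (1173,5,4), (1174,11,4), (1177,13,3), (1180,5,24),
    (1181,4,12), (1183,10,0), (1192,11,11), (1197,12,10), (1201,6,59), (1202,1,3),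
    (1203,13,7), (1207,13,9), (1212,1,4), (1213,16,1), (1221,12,26), (1222,6,53),
    (1231,6,32), (1236,12,44), (1239,6,52), (1249,13,12), (1252,13,3), (1254,5,3),
    (1257,16,16), (1261,12,46), (1263,5,6), (1265,4,16), (1267,6,60), (1268,1,68),
    (1275,6,29), (1277,4,4), (1288,4,21), (1294,5,15), (1298,6,57), (1300,12,95),
    (1302,13,8), (1305,16,9), (1306,6,29), (1308,12,7), (1312,4,41), (1324,6,106),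
    (1325,6,81), (1326,12,9), (1328,1,24), (1332,1,36), (1334,11,1), (1338,10,4),
    (1346,6,66), (1348,10,4), (1350,12,9), (1351,4,21), (1352,5,20), (1353,11,37),
    (1354,13,98), (1359,6,11), (1362,4,7), (1365,12,21), (1367,6,106), (1369,5,20),
    (1375,16,4), (1380,12,12), (1382,1,7), (1386,16,0), (1390,5,8), (1391,12,26),
    (1393,4,0), (1394,13,14), (1400,6,38), (1402,5,18), (1403,11,12), (1404,12,49),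
    (1408,13,30), (1410,5,9), (1415,13,8), (1416,16,12), (1418,6,66), (1420,5,15),
    (1423,12,21), (1438,5,7), (1439,6,59), (1440,13,7), (1443,6,15), (1451,11,8),
    (1454,6,69), (1458,6,25), (1464,11,6), (1478,6,15), (1480,4,4), (1483,6,7),
    (1487,1,68), (1504,6,16), (1505,13,2), (1517,11,2), (1518,6,69), (1519,12,39),
    (1520,16,4), (1522,12,7), (1527,5,34), (1528,1,40), (1533,16,16), (1535,1,16),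
    (1539,13,28), (1544,11,13), (1546,5,24), (1547,4,12), (1551,6,24), (1560,1,52),
    (1561,6,31), (1570,13,12), (1573,12,10), (1577,1,11), (1580,13,14), (1583,13,15),
    (1584,5,13), (1585,6,41), (1589,1,15), (1593,1,32), (1594,6,11), (1606,6,20),
    (1607,12,44), (1611,12,28), (1613,6,6), (1614,16,25), (1616,12,46), (1617,5,6),
    (1624,5,3), (1627,13,46), (1628,4,7), (1629,1,40), (1636,5,8), (1640,12,95),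
    (1641,16,9), (1646,13,46), (1647,12,4), (1648,13,0), (1649,5,11), (1650,12,12),
    (1654,6,189), (1658,5,44), (1659,5,13), (1670,13,98), (1671,12,14), (1672,5,44),
    (1673,1,15), (1677,16,34), (1682,4,2), (1689,6,24), (1693,11,12), (1696,1,41),
    (1766,14,12), (1779,8,4), (1784,17,0), (1788,14,6), (1790,17,3), (1794,3,28),
    (1795,14,6), (1809,2,16), (1818,9,3), (1824,17,4), (1834,2,40), (1847,8,10),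
    (1851,2,11), (1852,17,3), (1867,2,15), (1876,14,0), (1881,15,2), (1890,15,8),
    (1901,15,12), (1914,15,3), (1915,3,12), (1920,15,12), (1922,8,9), (1929,17,1),
    (1940,14,7), (1941,17,4), (1944,15,4), (1951,3,14), (1955,17,1), (1956,3,2),
    (1962,14,4), (1967,9,8), (1970,2,41), (1981,15,9), (1984,15,28), (1993,15,9),
    (1995,2,16), (2002,17,0), (2003,15,28), (2008,3,14), (2010,2,41), (2012,0,44),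
    (2015,5,34), (2018,13,49), (2021,13,44), (2022,6,4), (2028,11,5), (2030,13,49),
    (2031,6,20), (2032,1,16), (2034,12,39), (2036,6,3), (2040,13,44), (2045,16,34),
    (2046,1,24), (2047,1,41)]

/-- roots of element 690: a multiplier, its inverse, and whether to square -/
def sqData690 : List (ℕ × ℕ × ℕ × ℕ) :=
  [
    (27,6,64,0), (33,6,64,0), (35,6,64,0), (125,4,266,0), (151,4,266,0), (248,6,64,0),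
    (309,6,64,0), (415,6,64,0), (444,6,64,0), (455,6,64,0), (458,6,64,0), (579,4,266,0),
    (614,4,266,0), (638,4,266,0), (666,4,266,0), (688,6,64,0), (771,6,64,0), (775,4,266,0),
    (781,6,64,0), (795,4,266,0), (805,6,64,0), (833,4,266,0), (837,6,64,0), (881,6,64,0),
    (901,6,64,0), (912,6,64,0), (962,4,266,0), (972,4,266,0), (975,6,64,0), (986,6,64,0),
    (1000,4,266,0), (1010,6,64,0), (1134,6,64,0), (1179,6,64,0), (1341,6,64,0), (1347,6,64,0),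
    (1360,6,64,0), (1368,6,64,0), (1371,6,64,0), (1398,6,64,0), (1401,6,64,0), (1406,6,64,0),
    (1419,6,64,0), (1422,6,64,0), (1442,6,64,0), (1492,6,64,0), (1501,6,64,0), (1514,6,64,0),
    (1521,6,64,0), (1602,6,64,0), (1630,6,64,0), (1665,6,64,0), (1666,6,64,0), (1688,6,64,0),
    (1691,6,64,0), (1754,6,64,0), (1807,6,64,0), (1819,4,266,0), (1821,6,64,0), (1888,6,64,0),
    (1902,6,64,0), (1950,4,266,0), (1977,4,266,0), (1992,4,266,0)]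

/-- roots of element 1975 -/
def sqData1975 : List (ℕ × ℕ × ℕ × ℕ) :=
  [
    (95,11,11,0), (142,9,719,0), (499,11,11,0), (551,9,719,0), (567,9,719,0), (602,9,719,0),
    (610,11,11,0), (619,9,719,0), (723,9,719,0), (773,9,719,0), (816,9,719,0), (958,11,11,0),
    (1052,21,263,0), (1055,2,2,0), (1063,24,1438,0), (1073,21,263,0), (1079,2,2,0), (1100,27,35,0),
    (1109,2,2,0), (1137,2,2,0), (1144,2,2,0), (1158,27,35,0), (1186,2,2,0), (1205,21,263,0),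
    (1210,21,263,0), (1224,2,2,0), (1232,27,35,0), (1237,2,2,0), (1245,2,2,0), (1264,21,263,0),
    (1282,2,2,0), (1310,2,2,0), (1313,21,263,0), (1381,21,263,0), (1387,21,263,0), (1395,2,2,0),
    (1407,24,1438,0), (1413,2,2,0), (1417,24,1438,0), (1424,27,35,0), (1425,2,2,0), (1485,2,2,0),
    (1565,2,2,0), (1579,24,1438,0), (1725,9,719,0), (1738,9,719,0), (1791,9,719,0), (1991,9,719,0)]

/-- two elements of order three centralising element 1975 with product an involution -/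
def threeA : List ℕ := [0,3,0,3,3,0,3,0,3,0,4,3,4,1,3,1,3,1,3,3,1,3,3,1]
/-- the second -/
def threeB : List ℕ := [0,2,2,0,3,3,0,4,2,1,3,4,2,2,1,2,2,1,0,2,2,0,3,3,0,4,2,1,3,4,2,2,1,2,2,1]
/-- two elements of order five -/
def fiveA : List ℕ := [0,2,2,0,2,2,2,4,3,0,4,3,4,2,4,1,2,1,3,1,3,0,2,2,0,2,2,2,4,3,0,4,3,4,2,4,1,2,1,3,1,3]
/-- the second -/
def fiveB : List ℕ := [0,3,0,2,2,2,4,2,4,2,4,2,0,4,3,3,4,3,3,1,3,3,4,2,2,2,0,3,4,3,4,2,2,2,4,2,4,2,2,4,3,4,3,1,3,3,1,2,1]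

/-- elements testing the commutators modulo element 690 -/
def testers690 : List ℕ := [4,2]
/-- elements testing the commutators modulo element 1975 -/
def testers1975 : List ℕ := [9,2]

/-- a point fixed by element 1975 -/
def fixPt : ℕ := 32

end CfsgLib.HNStd
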