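import Cfsg.Agent.Lib.HNStd.Base
import Cfsg.Agent.Lib.ZStar.Main
import Cfsg.Agent.Lib.Invol.Dihedral

/-!
The central involution of the copy is conjugate to a central involution of the copy, and the
centraliser of the copy has one involution.
-/

set_option autoImplicit false
set_option maxRecDepth 100000

namespace CfsgLib.HNStd

open CfsgLib.DCoset CfsgLib.HN CfsgLib.HNType

theorem orderOf_conj {G : Type*} [Group G] (g x : G) : orderOf (g * x * g⁻¹) = orderOf x := by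
  rw [← MulAut.conj_apply, MulEquiv.orderOf_eq]

namespace Ctx

variable {G : Type*} [Group G] (c : Ctx G)

/-- `w` acts as an inner involution off the centre -/
def IsA (w : G) : Prop := ∃ q ∈ kP, q * q = 1 ∧ q ≠ 1 ∧ q ≠ iP ∧ c.Acts w q

/-- `g` carries the central involution to a central involution of the copy and back -/
structure Pair (g : G) (x x' : PH) : Prop where
  hx : x = el 690 ∨ x = el 1975
  hx' : x' = el 690 ∨ x' = el 1975
  fwd : g * c.z * g⁻¹ = c.f x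
  bwd : g⁻¹ * c.z * g = c.f x'

variable {c}

theorem Pair.symm {g : G} {x x' : PH} (h : c.Pair g x x') : c.Pair g⁻¹ x' x :=
  ⟨h.hx', h.hx, by rw [inv_inv]; exact h.bwd, by rw [inv_inv]; exact h.fwd⟩

theorem central_kP {x : PH} (h : x = el 690 ∨ x = el 1975) : x ∈ kP := by
  rcases h with rfl | rfl
  exacts [el690_kP, el1975_kP]

theorem central_sq {x : PH} (h : x = el 690 ∨ x = el 1975) : x * x = 1 := by
  rcases h with rfl | rfl
  exacts [sq_el690, sq_el1975]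

theorem central_ne {x : PH} (h : x = el 690 ∨ x = el 1975) : x ≠ 1 ∧ x ≠ iP := by
  rw [iP_eq, ← el_zero]
  rcases h with rfl | rfl <;> exact ⟨el_ne (by norm_num) (by norm_num) (by norm_num),
    el_ne (by norm_num) (by norm_num) (by norm_num)⟩

theorem central_comm {x y : PH} (h : x = el 690 ∨ x = el 1975) : Commute y x ↔ Commute y (el 1975) := by
  rcases h with rfl | rfl
  exacts [commute_690_iff, Iff.rfl]

theorem IsA.of_inner_sq {s : G} (hs : s * s = 1) (hne : s ∉ c.K) {h : PH} (hh : h ∈ kP)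
    (ha : c.Acts s (h * h)) : c.IsA s := by
  have h4 : h ^ 4 = h * h * (h * h) := by simp [pow_succ, mul_assoc]
  have hsq : h * h * (h * h) = 1 := by
    rcases (c.acts_one).unique (hs ▸ ha.mul ha : c.Acts 1 (h * h * (h * h))) with e | e
    · exact e
    · exact absurd (h4.trans (e.trans (one_mul iP))) (pow_four_ne hh)
  exact ⟨h * h, kP.mul_mem hh hh, hsq, fun e => hne (ha.mem_K (Or.inl e)),
    fun e => hne (ha.mem_K (Or.inr e)), ha⟩

variable [Finite G]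

theorem exists_fused_A [IsSimpleGroup G] (hG : ¬ IsMulCommutative G) :
    ∃ g : G, g * c.z * g⁻¹ ∈ c.N ∧ c.IsA (g * c.z * g⁻¹) := by
  classical
  obtain ⟨g, hgN, hgz⟩ : ∃ g : G, g * c.z * g⁻¹ ∈ c.N ∧ g * c.z * g⁻¹ ≠ c.z := by
    by_contra hne
    push_neg at hne
    have hiso : Cfsg.IsIsolatedInvolution c.z :=
      ⟨c.orderOf_z, fun g hg => hne g (c.mem_N.mpr hg.symm)⟩
    have hcore := CfsgLib.ZStar.commutatorsInCore_of_isolated hiso
    haveI : (Cfsg.pPrimeCore 2 G).Normal := CfsgLib.Transfer.pPrimeCore_normal 2 G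
    rcases (inferInstance : (Cfsg.pPrimeCore 2 G).Normal).eq_bot_or_eq_top with h | h
    · have htc : c.z ∈ Subgroup.center G := Subgroup.mem_center_iff.mpr fun g => by
        have h1 : c.z * g * c.z⁻¹ * g⁻¹ = 1 := Subgroup.mem_bot.mp (h ▸ hcore g)
        rw [mul_inv_eq_one, mul_inv_eq_iff_eq_mul] at h1
        exact h1.symm
      rcases (inferInstance : (Subgroup.center G).Normal).eq_bot_or_eq_top with hc | hc
      · exact c.z_ne (Subgroup.mem_bot.mp (hc ▸ htc))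
      · exact hG ⟨⟨fun a b => (Subgroup.mem_center_iff.mp (hc ▸ Subgroup.mem_top a) b).symm⟩⟩
    · have hco := CfsgLib.Transfer.pPrimeCore_coprime (G := G) 2
      rw [h, Subgroup.card_top] at hco
      have hd : 2 ∣ Nat.card G := c.orderOf_z ▸ orderOf_dvd_natCard c.z
      have h2 := Nat.dvd_gcd hd (dvd_refl 2)
      rw [hco] at h2
      exact absurd h2 (by norm_num)
  obtain ⟨w, hw⟩ : ∃ w, g * c.z * g⁻¹ = w := ⟨_, rfl⟩
  rw [hw] at hgN hgz
  obtain ⟨p, hp⟩ := c.exists_acts hgN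
  have hw2 : w * w = 1 := by
    rw [← hw, show g * c.z * g⁻¹ * (g * c.z * g⁻¹) = g * (c.z * c.z) * g⁻¹ by group, c.z_sq]; group
  have hp2 : p * p = 1 ∨ p * p = iP := by
    rcases (c.acts_one).unique (hw2 ▸ hp.mul hp : c.Acts 1 (p * p)) with e | e
    · exact Or.inl e
    · exact Or.inr (e.trans (one_mul iP))
  have hp1 : p ≠ 1 ∧ p ≠ iP := by
    constructor <;> intro e <;> refine hgz ?_ <;> rw [← hw]
    · exact c.conj_z_mem_K (hw ▸ hp.mem_K (Or.inl e))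
    · exact c.conj_z_mem_K (hw ▸ hp.mem_K (Or.inr e))
  by_cases hA : p ∈ kP ∧ p * p = 1
  · exact ⟨g, hw ▸ hgN, hw ▸ ⟨p, hA.1, hA.2, hp1.1, hp1.2, hp⟩⟩
  obtain ⟨W⟩ : Nonempty (Wit p) := by
    refine exists_wit ?_
    by_cases hpK : p ∈ kP
    · exact Or.inr ⟨hpK, hp2.resolve_left fun h => hA ⟨hpK, h⟩⟩
    · exact Or.inl ⟨hpK, hp2.resolve_right fun h => no_outer_root hpK h⟩
  -- two elements of odd order commuting with it
  have move : ∀ {x : PH} {n : ℕ}, x ∈ kP → Commute x p → Odd n → x ^ n = 1 →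
      ∃ h ∈ kP, c.Acts (g⁻¹ * c.f x * g) h := by
    intro x n hx hc hn hxn
    have hcw : Commute (c.f x) w := ((hp.commute hx).mpr hc.symm).symm
    have hN : g⁻¹ * c.f x * g ∈ c.N := c.mem_N.mpr (by
      show g⁻¹ * c.f x * g * c.z = c.z * (g⁻¹ * c.f x * g)
      calc g⁻¹ * c.f x * g * c.z = g⁻¹ * (c.f x * (g * c.z * g⁻¹)) * g := by group
        _ = g⁻¹ * ((g * c.z * g⁻¹) * c.f x) * g := by rw [hw, hcw.eq]
        _ = _ := by group)
    obtain ⟨h, hh⟩ := c.exists_acts hN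
    refine ⟨h, hh.inner_of_odd hn ?_, hh⟩
    rw [show g⁻¹ * c.f x * g = g⁻¹ * c.f x * g⁻¹⁻¹ by group, conj_pow, ← c.f_pow hx, hxn, c.f_one]
    group
  obtain ⟨P', hP', aP⟩ := move W.hP W.cP W.odd_n W.Pn
  obtain ⟨Q', hQ', aQ⟩ := move W.hQ W.cQ W.odd_m W.Qm
  obtain ⟨a, ha⟩ : ∃ a, W.P * W.Q * (W.P * W.Q) = a := ⟨_, rfl⟩
  have haK : a ∈ kP := ha ▸ kP.mul_mem (kP.mul_mem W.hP W.hQ) (kP.mul_mem W.hP W.hQ)
  have hfa : c.f a = c.f W.P * c.f W.Q * (c.f W.P * c.f W.Q) := by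
    rw [← c.map_mul _ _ W.hP W.hQ, ← c.map_mul _ _ (kP.mul_mem W.hP W.hQ) (kP.mul_mem W.hP W.hQ), ha]
  have hga : c.Acts (g⁻¹ * c.f a * g) (P' * Q' * (P' * Q')) := by
    have := (aP.mul aQ).mul (aP.mul aQ)
    rwa [show g⁻¹ * c.f W.P * g * (g⁻¹ * c.f W.Q * g) * (g⁻¹ * c.f W.P * g * (g⁻¹ * c.f W.Q * g)) =
      g⁻¹ * c.f a * g by rw [hfa]; group] at this
  have hcomm : Commute (c.f a) w := by
    refine ((hp.commute haK).mpr ?_).symm
    exact ha ▸ ((W.cP.mul_left W.cQ).mul_left (W.cP.mul_left W.cQ)).symm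
  have hcc : (c.f W.c)⁻¹ * w * c.f W.c = c.f a * w := by
    have e1 : W.c⁻¹ * (p * W.c * p⁻¹) = a := by
      calc W.c⁻¹ * (p * W.c * p⁻¹) = W.c⁻¹ * p * W.c * p⁻¹ := by group
        _ = a := by rw [W.conj, ha, mul_inv_cancel_right]
    calc (c.f W.c)⁻¹ * w * c.f W.c = (c.f W.c)⁻¹ * (w * c.f W.c * w⁻¹) * w := by group
      _ = _ := by rw [hp _ W.hc, ← c.f_inv W.hc, ← c.map_mul _ _ (kP.inv_mem W.hc)
            ((conj_mem_kP p).mpr W.hc), e1]
  obtain ⟨g', hg'⟩ : ∃ g', g⁻¹ * (c.f W.c)⁻¹ * g = g' := ⟨_, rfl⟩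
  have hz' : g' * c.z * g'⁻¹ = g⁻¹ * c.f a * g * c.z := by
    calc g' * c.z * g'⁻¹ = g⁻¹ * ((c.f W.c)⁻¹ * (g * c.z * g⁻¹) * c.f W.c) * g := by rw [← hg']; group
      _ = g⁻¹ * (c.f a * (g * c.z * g⁻¹)) * g := by rw [hw, hcc]
      _ = _ := by group
  have hzz : g⁻¹ * c.f a * g * c.z * (g⁻¹ * c.f a * g * c.z) = 1 := by
    rw [← hz', show g' * c.z * g'⁻¹ * (g' * c.z * g'⁻¹) = g' * (c.z * c.z) * g'⁻¹ by group, c.z_sq]
    group
  have hacts : c.Acts (g⁻¹ * c.f a * g * c.z) (P' * Q' * (P' * Q')) := by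
    have := hga.mul (c.acts_K c.z_mem_K)
    rwa [mul_one] at this
  refine ⟨g', hz' ▸ hacts.mem_N, hz' ▸ IsA.of_inner_sq hzz (fun hK => ?_) (kP.mul_mem hP' hQ') hacts⟩
  have e := c.conj_z_mem_K (hz' ▸ hK)
  rw [hz'] at e
  have h1 : g⁻¹ * c.f a * g = 1 := mul_right_cancel (e.trans (one_mul c.z).symm)
  refine c.f_ne_one haK (ha ▸ W.a_ne) ?_
  calc c.f a = g * (g⁻¹ * c.f a * g) * g⁻¹ := by group
    _ = 1 := by rw [h1]; group

theorem acts_1975 {w : G} {q : PH} (hq : c.Acts w q) (h : q = el 690 ∨ q = el 1975) :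
    c.Acts w (el 1975) := by
  rcases h with rfl | rfl
  · have := hq.iP_mul; rwa [el_690_mul] at this
  · exact hq

/-- normalise a fused involution of the first kind to act as element 1975 -/
theorem IsA.normalise {w : G} (h : c.IsA w) :
    ∃ d ∈ kP, c.Acts (c.f d * w * (c.f d)⁻¹) (el 1975) := by
  obtain ⟨q, hq, hq2, hq1, hqi, hw⟩ := h
  obtain ⟨d, hd⟩ := inner_involution hq hq2 hq1
  obtain ⟨d', hd'K, hd'⟩ : ∃ d' ∈ kP, d' * q * d'⁻¹ = el 690 ∨ d' * q * d'⁻¹ = el 1975 := by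
    have h' : d * q * d⁻¹ = el 690 ∨ d * q * d⁻¹ = el 1975 := by
      refine hd.resolve_left fun e => hqi ?_
      rw [← iP_eq] at e
      calc q = d⁻¹ * (d * q * d⁻¹) * d := by group
        _ = iP := by rw [e, mul_assoc, iP_comm, inv_mul_cancel_left]
    by_cases hdK : d ∈ kP
    · exact ⟨d, hdK, h'⟩
    refine ⟨el 1 * d, (Subgroup.mul_mem_iff_of_index_two index_kP).mpr
      (iff_of_false four_facts.2.2.1 hdK), ?_⟩
    have hcT : ∀ z, z = 690 ∨ z = 1975 → el 1 * el z * (el 1)⁻¹ = el z := fun z hz => by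
      rw [(central_three (Or.inr hz) _ (el_mem (by norm_num : (1 : ℕ) < 2048))).eq, mul_inv_cancel_right]
    have e : el 1 * d * q * (el 1 * d)⁻¹ = el 1 * (d * q * d⁻¹) * (el 1)⁻¹ := by group
    rw [e]
    rcases h' with h' | h' <;> rw [h']
    · exact Or.inl (hcT 690 (Or.inl rfl))
    · exact Or.inr (hcT 1975 (Or.inr rfl))
  exact ⟨d', hd'K, acts_1975 (((c.acts_f hd'K).mul hw).mul (c.acts_f hd'K).inv) hd'⟩

/-- the partner of a conjugate of the first kind is of the first kind -/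
theorem partner_A {g : G} {w : G} (hg : g * c.z * g⁻¹ = w) (hw : c.Acts w (el 1975)) :
    g⁻¹ * c.z * g ∈ c.N ∧ c.IsA (g⁻¹ * c.z * g) := by
  obtain ⟨a, b, haT, hbT, haK, hbK, ha2, hb2, hab⟩ := exists_quat
  have hcen := central_three (Or.inr (Or.inr rfl))
  have hN : ∀ {x : PH}, x ∈ kP → x ∈ T → g⁻¹ * c.f x * g ∈ c.N := fun {x} hx hxT => by
    have hc : Commute (c.f x) w := ((hw.commute hx).mpr (hcen x hxT).symm).symm
    refine c.mem_N.mpr ?_
    show g⁻¹ * c.f x * g * c.z = c.z * (g⁻¹ * c.f x * g)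
    calc g⁻¹ * c.f x * g * c.z = g⁻¹ * (c.f x * (g * c.z * g⁻¹)) * g := by group
      _ = g⁻¹ * ((g * c.z * g⁻¹) * c.f x) * g := by rw [hg, hc.eq]
      _ = _ := by group
  obtain ⟨α, hα⟩ := c.exists_acts (hN haK haT)
  obtain ⟨β, hβ⟩ := c.exists_acts (hN hbK hbT)
  have hsq : ∀ {x : PH}, x ∈ kP → x * x = iP →
      g⁻¹ * c.f x * g * (g⁻¹ * c.f x * g) = g⁻¹ * c.z * g := fun {x} hx h => by
    rw [show g⁻¹ * c.f x * g * (g⁻¹ * c.f x * g) = g⁻¹ * (c.f x * c.f x) * g by group,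
      ← c.map_mul _ _ hx hx, h]
    rfl
  obtain ⟨h, hh, hacts⟩ : ∃ h ∈ kP, c.Acts (g⁻¹ * c.z * g) (h * h) := by
    by_cases hαK : α ∈ kP
    · exact ⟨α, hαK, hsq haK ha2 ▸ hα.mul hα⟩
    by_cases hβK : β ∈ kP
    · exact ⟨β, hβK, hsq hbK hb2 ▸ hβ.mul hβ⟩
    refine ⟨α * β, (Subgroup.mul_mem_iff_of_index_two index_kP).mpr (iff_of_false hαK hβK),
      hsq (kP.mul_mem haK hbK) hab ▸ ?_⟩
    have e := (hα.mul hβ).mul (hα.mul hβ)
    rwa [show g⁻¹ * c.f a * g * (g⁻¹ * c.f b * g) * (g⁻¹ * c.f a * g * (g⁻¹ * c.f b * g)) =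
      g⁻¹ * c.f (a * b) * g * (g⁻¹ * c.f (a * b) * g) by rw [c.map_mul _ _ haK hbK]; group] at e
  refine ⟨hacts.mem_N, IsA.of_inner_sq ?_ (fun hK => ?_) hh hacts⟩
  · rw [show g⁻¹ * c.z * g * (g⁻¹ * c.z * g) = g⁻¹ * (c.z * c.z) * g by group, c.z_sq]; group
  · have e := c.conj_z_mem_K (g := g⁻¹) (by rwa [inv_inv])
    have hgN : g ∈ c.N := (inv_mem_iff (x := g)).mp (c.conj_z_mem_N e)
    have hwz : w = c.z := by rw [← hg, (c.mem_N.mp hgN).eq, mul_inv_cancel_right]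
    rcases (c.acts_K c.z_mem_K).unique (hwz ▸ hw) with e2 | e2
    · exact (central_ne (Or.inr rfl)).1 e2
    · exact (central_ne (Or.inr rfl)).2 (e2.trans (one_mul iP))

/-- an involution of the centraliser commuting with such a conjugate is the central one -/
theorem invol_eq {g w : G} (hg : g * c.z * g⁻¹ = w) (hz' : c.Acts (g⁻¹ * c.z * g) (el 1975))
    {u : G} (hu : u ∈ c.K) (hu2 : u * u = 1) (hu1 : u ≠ 1) (huw : Commute u w) : u = c.z := by
  have hou := CfsgLib.Invol.orderOf_two_of_mul_self hu2 hu1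
  have hgN : g ∉ c.N := fun h => by
    have e : g⁻¹ * c.z * g = c.z := by
      rw [mul_assoc, ← (c.mem_N.mp h).eq, inv_mul_cancel_left]
    rcases (c.acts_K c.z_mem_K).unique (e ▸ hz') with e2 | e2
    · exact (central_ne (Or.inr rfl)).1 e2
    · exact (central_ne (Or.inr rfl)).2 (e2.trans (one_mul iP))
  have nK : ∀ {v : G}, v ∈ c.K → orderOf v = 2 → g⁻¹ * v * g ∉ c.K := fun {v} hv ho h => by
    refine hgN ((inv_mem_iff (x := g)).mp (c.mem_N_of_conj hv ho ?_))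
    rwa [inv_inv]
  have hu'N : g⁻¹ * u * g ∈ c.N := c.mem_N.mpr (by
    show g⁻¹ * u * g * c.z = c.z * (g⁻¹ * u * g)
    calc g⁻¹ * u * g * c.z = g⁻¹ * (u * (g * c.z * g⁻¹)) * g := by group
      _ = g⁻¹ * ((g * c.z * g⁻¹) * u) * g := by rw [hg, huw.eq]
      _ = _ := by group)
  obtain ⟨μ, hμ⟩ := c.exists_acts hu'N
  have hμ2 : μ * μ = 1 ∨ μ * μ = iP := by
    have e : g⁻¹ * u * g * (g⁻¹ * u * g) = 1 := by
      rw [show g⁻¹ * u * g * (g⁻¹ * u * g) = g⁻¹ * (u * u) * g by group, hu2]; group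
    rcases (c.acts_one).unique (e ▸ hμ.mul hμ : c.Acts 1 (μ * μ)) with h | h
    · exact Or.inl h
    · exact Or.inr (h.trans (one_mul iP))
  have hzu : Commute u c.z := c.mem_N.mp (c.K_le_N hu)
  have hc19 : Commute μ (el 1975) := by
    have hcc : g⁻¹ * u * g * (g⁻¹ * c.z * g) * (g⁻¹ * u * g)⁻¹ = g⁻¹ * c.z * g := by
      rw [show g⁻¹ * u * g * (g⁻¹ * c.z * g) * (g⁻¹ * u * g)⁻¹ = g⁻¹ * (u * c.z * u⁻¹) * g by group,
        hzu.eq, mul_inv_cancel_right]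
    rcases hz'.unique (hcc ▸ (hμ.mul hz').mul hμ.inv) with e | e
    · exact mul_inv_eq_iff_eq_mul.mp e
    · exfalso
      rw [el_1975_mul] at e
      refine not_conj_690_1975 μ⁻¹ ?_
      rw [← e]; group
  have key : ∀ {v : G}, v ∈ c.K → v * v = 1 → g⁻¹ * v * g ∈ c.K → v = 1 := fun {v} hv hv2 h => by
    by_contra hv1
    exact nK hv (CfsgLib.Invol.orderOf_two_of_mul_self hv2 hv1) h
  by_cases h1 : μ = 1 ∨ μ = iP
  · exact absurd (key hu hu2 (hμ.mem_K h1)) hu1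
  push_neg at h1
  by_cases h2 : μ = el 690 ∨ μ = el 1975
  · have hm : c.Acts (g⁻¹ * u * g * (g⁻¹ * c.z * g)) 1 := by
      have h := hμ.mul hz'
      have hp : μ * el 1975 = 1 ∨ μ * el 1975 = iP := by
        rcases h2 with rfl | rfl
        · exact Or.inr (by rw [← el_690_mul, ← mul_assoc, sq_el690, one_mul])
        · exact Or.inl sq_el1975
      exact c.acts_K (h.mem_K hp)
    have he : u * c.z = 1 := key (c.K.mul_mem hu c.z_mem_K)
      (by rw [show u * c.z * (u * c.z) = u * (c.z * u) * c.z by group, ← hzu.eq,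
        show u * (u * c.z) * c.z = u * u * (c.z * c.z) by group, hu2, c.z_sq, one_mul])
      (by
        rw [show g⁻¹ * (u * c.z) * g = g⁻¹ * u * g * (g⁻¹ * c.z * g) by group]
        exact hm.mem_K (Or.inl rfl))
    exact (mul_eq_one_iff_eq_inv.mp he).trans c.z_inv
  push_neg at h2
  obtain ⟨y, hy, hyμ, hy1, -⟩ := exists_move hμ2 hc19 h1.1 h1.2 h2.1 h2.2
  exfalso
  have hc : Commute (g * c.f y * g⁻¹) u := by
    have h := ((hμ.commute hy).mpr hyμ.symm).eq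
    show g * c.f y * g⁻¹ * u = u * (g * c.f y * g⁻¹)
    calc g * c.f y * g⁻¹ * u = g * (c.f y * (g⁻¹ * u * g)) * g⁻¹ := by group
      _ = _ := by rw [← h]; group
  have hN := (c.mem_N.mp (c.cent_le hu hou hc)).eq
  have hcz : Commute (g⁻¹ * c.z * g) (c.f y) := by
    show g⁻¹ * c.z * g * c.f y = c.f y * (g⁻¹ * c.z * g)
    calc g⁻¹ * c.z * g * c.f y = g⁻¹ * (c.z * (g * c.f y * g⁻¹)) * g := by group
      _ = _ := by rw [← hN]; group
  exact hy1 ((hz'.commute hy).mp hcz).eq.symm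

/-- a conjugate acting as element 1975 with partner alike lies in the copy -/
theorem eq_f_of_acts {g : G} (hg : c.Acts (g * c.z * g⁻¹) (el 1975))
    (hg' : c.Acts (g⁻¹ * c.z * g) (el 1975)) :
    ∃ x, (x = el 690 ∨ x = el 1975) ∧ g * c.z * g⁻¹ = c.f x := by
  obtain ⟨w, hw⟩ : ∃ w, g * c.z * g⁻¹ = w := ⟨_, rfl⟩
  rw [hw] at hg ⊢
  have hk : (c.f (el 1975))⁻¹ * w ∈ c.K := hg.split el1975_kP
  have hcw : Commute w (c.f (el 1975)) := (hg.commute el1975_kP).mpr (Commute.refl _)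
  have hf2 : (c.f (el 1975))⁻¹ = c.f (el 1975) := by
    refine inv_eq_of_mul_eq_one_right ?_
    rw [← c.map_mul _ _ el1975_kP el1975_kP, sq_el1975, c.f_one]
  have hw2 : w * w = 1 := by
    rw [← hw, show g * c.z * g⁻¹ * (g * c.z * g⁻¹) = g * (c.z * c.z) * g⁻¹ by group, c.z_sq]; group
  by_cases h1 : (c.f (el 1975))⁻¹ * w = 1
  · exact ⟨el 1975, Or.inr rfl, (inv_mul_eq_one.mp h1).symm⟩
  refine ⟨el 690, Or.inl rfl, ?_⟩
  have hz := invol_eq hw hg' hk (by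
      rw [hf2, show c.f (el 1975) * w * (c.f (el 1975) * w) = c.f (el 1975) * (w * c.f (el 1975)) * w by
        group, hcw.eq, show c.f (el 1975) * (c.f (el 1975) * w) * w =
          c.f (el 1975) * c.f (el 1975) * (w * w) by group, hw2, mul_one,
        ← c.map_mul _ _ el1975_kP el1975_kP, sq_el1975, c.f_one]) h1
    (hcw.symm.inv_left.mul_left (Commute.refl w))
  rw [inv_mul_eq_iff_eq_mul] at hz
  rw [hz, z, ← c.map_mul _ _ el1975_kP iP_kP, el_1975_mul]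

/-- a conjugate of the first kind gives a pair -/
theorem pair_of_A {g : G} (hA : c.IsA (g * c.z * g⁻¹)) :
    ∃ (d e : PH) (x x' : PH), d ∈ kP ∧ e ∈ kP ∧ c.Pair (c.f d * g * (c.f e)⁻¹) x x' := by
  obtain ⟨d, hd, hact⟩ := hA.normalise
  have e1 : c.f d * g * c.z * (c.f d * g)⁻¹ = c.f d * (g * c.z * g⁻¹) * (c.f d)⁻¹ := by group
  rw [← e1] at hact
  obtain ⟨-, hA'⟩ := partner_A rfl hact
  obtain ⟨e, he, hact'⟩ := hA'.normalise
  obtain ⟨g1, hg1⟩ : ∃ g1, c.f d * g * (c.f e)⁻¹ = g1 := ⟨_, rfl⟩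
  have hfe := (c.mem_N.mp (c.f_mem_N he)).eq
  have hact1 : c.Acts (g1 * c.z * g1⁻¹) (el 1975) := by
    have : g1 * c.z * g1⁻¹ = c.f d * g * c.z * (c.f d * g)⁻¹ := by
      calc g1 * c.z * g1⁻¹ = c.f d * g * ((c.f e)⁻¹ * (c.z * c.f e)) * (c.f d * g)⁻¹ := by
            rw [← hg1]; group
        _ = _ := by rw [← hfe, inv_mul_cancel_left]
    rwa [this]
  have hact1' : c.Acts (g1⁻¹ * c.z * g1) (el 1975) := by
    have : g1⁻¹ * c.z * g1 = c.f e * ((c.f d * g)⁻¹ * c.z * (c.f d * g)) * (c.f e)⁻¹ := by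
      rw [← hg1]; group
    rwa [this]
  obtain ⟨x, hx, ex⟩ := eq_f_of_acts hact1 hact1'
  obtain ⟨x', hx', ex'⟩ := eq_f_of_acts (g := g1⁻¹) (by rwa [inv_inv]) (by rwa [inv_inv])
  rw [inv_inv] at ex'
  subst hg1
  exact ⟨d, e, x, x', hd, he, ⟨hx, hx', ex, ex'⟩⟩

theorem exists_pair [IsSimpleGroup G] (hG : ¬ IsMulCommutative G) :
    ∃ g x x', c.Pair g x x' := by
  obtain ⟨g, -, hA⟩ := c.exists_fused_A hG
  obtain ⟨_, _, x, x', _, _, h⟩ := pair_of_A hA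
  exact ⟨_, x, x', h⟩

theorem Pair.unique_invol {g : G} {x x' : PH} (h : c.Pair g x x') {u : G} (hu : u ∈ c.K)
    (hu2 : u * u = 1) : u = 1 ∨ u = c.z := by
  by_cases hu1 : u = 1
  · exact Or.inl hu1
  refine Or.inr (invol_eq h.fwd ?_ hu hu2 hu1 (c.mem_K.mp hu x (central_kP h.hx)))
  rw [h.bwd]
  exact acts_1975 (c.acts_f (central_kP h.hx')) h.hx'

end Ctx

end CfsgLib.HNStd
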