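import Cfsg.Agent.Lib.HNStd.KData
import Cfsg.Agent.Lib.HNType.FiveQ

/-!
The centraliser of the second involution and its inner part: the checks.
-/

set_option autoImplicit false
set_option maxRecDepth 100000

namespace CfsgLib.HNStd

open CfsgLib.CosetEnum CfsgLib.DCoset CfsgLib.HN CfsgLib.HNType CfsgLib.HNType.Five

/-- a conjugate of an atom by a representative -/
def pieceW (p : ℕ × ℕ) : List ℕ := [31 + p.1, p.2, 16 + p.1]

/-- a product of such conjugates -/
def expW (l : List (ℕ × ℕ)) : List ℕ := l.flatMap pieceW

/-- the letters of a word in the atoms -/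
def flatW (l : List ℕ) : List ℕ := l.flatMap fun j => fiveW.getD j []

/-- a word in the atoms is inner -/
noncomputable def innerA (l : List ℕ) : Bool := innerW (flatW l)

/-- the pieces are conjugates of `e` or `b` -/
def pieceOK (l : List (ℕ × ℕ)) : Bool :=
  l.all fun p => Nat.blt p.1 15 && (Nat.beq p.2 6 || Nat.beq p.2 8)

/-- the generators of the centraliser of `a` -/
noncomputable def genOK : Bool :=
  ((List.range 19).all fun j =>
    genIn.any (fun e => Nat.beq e.1 (12 + j)) || genOut.any fun e => Nat.beq e.1 (12 + j)) &&
  (genIn.all fun e => Nat.blt e.1 47 && innerA [e.1] && pieceOK e.2 && eqW [e.1] (expW e.2)) &&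
  (genOut.all fun e => Nat.blt e.1 47 && !innerA [e.1] && pieceOK e.2 && eqW [e.1, 12] (expW e.2)) &&
  !innerA [12] && innerA [5] && innerA [6] && innerA [8] && innerA [9] && innerA [7] &&
  !innerA [4] && !innerA (yW d0Idx)

theorem gen_ok : genOK = true := by decide +kernel

/-- every outer involution has a member of the class of `d` anticommuting with it -/
noncomputable def antiOK : Bool :=
  [1, 101].all fun r => antiData.any fun e =>
    Nat.beq e.1 r && lets e.2 &&
      eqW (elW r ++ (winv e.2 ++ yW d0Idx ++ e.2))
        (winv e.2 ++ yW d0Idx ++ e.2 ++ (elW r ++ [0, 0]))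

theorem anti_ok : antiOK = true := by decide +kernel

/-- in the second branch an element commuting with `a` and `b` is in the group of order 48 -/
noncomputable def kernOK : Bool :=
  qCases.all fun e => e.2.2.2.2.all fun k =>
    let v := yW e.1
    let gq := yW k.1 ++ substB qWord v
    let c := yW k.2.2.1 ++ k.2.1
    let c' := winv k.2.1 ++ yW k.2.2.2.1
    lList.all fun m => !commW (c' ++ yW m ++ c) v || inE v gq (c' ++ yW m ++ c)

theorem kern_ok : kernOK = true := by decide +kernel

end CfsgLib.HNStd
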