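import Cfsg.Agent.Lib.HNStd.KCert

/-!
The centraliser of the second involution and its inner part: meaning of the checks.
-/

set_option autoImplicit false
set_option maxRecDepth 100000

namespace CfsgLib.HNStd

open CfsgLib.CosetEnum CfsgLib.DCoset CfsgLib.HN CfsgLib.HNType CfsgLib.HNType.Five

theorem good_flat {l : List ℕ} (hl : Good l) : okW (flatW l) = true := by
  rw [okW_iff]
  intro c hc
  obtain ⟨j, hj, hcj⟩ := List.mem_flatMap.mp hc
  exact (tab_facts.2.1 j (hl j hj)).1 c hcj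

theorem AW_flat : ∀ l : List ℕ, AW l = wordP (flatW l)
  | [] => rfl
  | j :: l => by
    rw [flatW, List.flatMap_cons, wordP_app, ← flatW, ← AW_flat l, AW, List.map_cons, List.prod_cons]
    rfl

theorem innerA_iff {l : List ℕ} (hl : Good l) : innerA l = true ↔ AW l ∈ kP := by
  rw [AW_flat, innerA, innerW_iff (good_flat hl)]

theorem innerA_not {l : List ℕ} (hl : Good l) : innerA l = false ↔ AW l ∉ kP := by
  rw [← Bool.not_eq_true, innerA_iff hl]

theorem kP_facts : pa ∈ kP ∧ pb ∈ kP ∧ Five.pe ∈ kP ∧ pr ∈ kP ∧ pq ∈ kP ∧ pz ∉ kP ∧ yP d0Idx ∉ kP ∧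
    AW [12] ∉ kP := by
  have h := gen_ok
  simp only [genOK, Bool.and_eq_true, Bool.not_eq_true'] at h
  obtain ⟨⟨⟨⟨⟨⟨⟨⟨-, h12⟩, h5⟩, h6⟩, h8⟩, h9⟩, h7⟩, h4⟩, hd⟩ := h
  have g1 : ∀ j, j < 47 → Good [j] := fun j hj => good_cons hj good_nil
  exact ⟨(innerA_iff (g1 5 (by norm_num))).mp h5, (innerA_iff (g1 6 (by norm_num))).mp h6,
    (innerA_iff (g1 8 (by norm_num))).mp h8, (innerA_iff (g1 9 (by norm_num))).mp h9,
    (innerA_iff (g1 7 (by norm_num))).mp h7, (innerA_not (g1 4 (by norm_num))).mp h4,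
    (innerA_not (good_yW (by decide))).mp hd, (innerA_not (g1 12 (by norm_num))).mp h12⟩

theorem good_piece {p : ℕ × ℕ} (hp : p.1 < 15) (h : p.2 = 6 ∨ p.2 = 8) : Good (pieceW p) :=
  good_cons (by omega) (good_cons (by omega) (good_cons (by omega) good_nil))

theorem AW_piece {i c : ℕ} (hi : i < 15) : AW (pieceW (i, c)) = (AW [16 + i])⁻¹ * AW [c] * AW [16 + i] := by
  rw [pieceW, AW_cons, AW_cons c, (inv_eq_of_mul_eq_one_right (coset_facts.2.2 i hi).2.1), mul_assoc]

theorem good_exp {l : List (ℕ × ℕ)} (hl : pieceOK l = true) : Good (expW l) := fun j hj => by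
  simp only [pieceOK, List.all_eq_true, Bool.and_eq_true, Bool.or_eq_true, Nat.blt_eq] at hl
  obtain ⟨p, hp, hjp⟩ := List.mem_flatMap.mp hj
  obtain ⟨h1, h2⟩ := hl p hp
  exact good_piece h1 (h2.imp Nat.eq_of_beq_eq_true Nat.eq_of_beq_eq_true) j hjp

/-- an element of `C(a)` is in any subgroup containing the conjugates of `e` and `b` and atom 12 -/
theorem cent_induction {S : Subgroup PH} (hp : ∀ i < 15, ∀ c, c = 6 ∨ c = 8 →
      (AW [16 + i])⁻¹ * AW [c] * AW [16 + i] ∈ S) (h12 : AW [12] ∈ S) {x : PH} (hx : Commute x pa) :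
    x ∈ S := by
  have hexp : ∀ l, pieceOK l = true → AW (expW l) ∈ S := by
    intro l
    induction l with
    | nil => intro _; exact S.one_mem
    | cons p l ih =>
      intro h
      simp only [pieceOK, List.all_cons, Bool.and_eq_true, Bool.or_eq_true, Nat.blt_eq] at h
      rw [expW, List.flatMap_cons, AW_append, ← expW]
      refine S.mul_mem ?_ (ih h.2)
      obtain ⟨i, c⟩ := p
      rw [AW_piece h.1.1]
      exact hp i h.1.1 c (h.1.2.imp Nat.eq_of_beq_eq_true Nat.eq_of_beq_eq_true)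
  have hatom : ∀ j, 12 ≤ j → j < 31 → AW [j] ∈ S := by
    intro j h1 h2
    have h := gen_ok
    simp only [genOK, Bool.and_eq_true, List.all_eq_true, List.mem_range, Bool.or_eq_true,
      List.any_eq_true, Nat.blt_eq, Bool.not_eq_true'] at h
    obtain ⟨⟨⟨⟨⟨⟨⟨⟨⟨⟨hall, hin⟩, hout⟩, -⟩, -⟩, -⟩, -⟩, -⟩, -⟩, -⟩, -⟩ := h
    rcases hall (j - 12) (by omega) with ⟨e, he, hj⟩ | ⟨e, he, hj⟩
    · obtain ⟨⟨⟨hlt, -⟩, hok⟩, heq⟩ := hin e he
      obtain rfl : e.1 = j := by have := Nat.eq_of_beq_eq_true hj; omega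
      rw [(eqW_iff (good_cons hlt good_nil) (good_exp hok)).mp heq]
      exact hexp _ hok
    · obtain ⟨⟨⟨hlt, -⟩, hok⟩, heq⟩ := hout e he
      obtain rfl : e.1 = j := by have := Nat.eq_of_beq_eq_true hj; omega
      have e' := (eqW_iff (good_cons hlt (good_cons (by norm_num) good_nil)) (good_exp hok)).mp heq
      rw [AW_cons] at e'
      rw [show AW [e.1] = AW (expW e.2) * (AW [12])⁻¹ by rw [← e', mul_inv_cancel_right]]
      exact S.mul_mem (hexp _ hok) (S.inv_mem h12)
  obtain ⟨n, hn, rfl⟩ := exists_y hx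
  have hw : ∀ l : List ℕ, (∀ j ∈ l, 12 ≤ j ∧ j < 31) → AW l ∈ S := by
    intro l
    induction l with
    | nil => intro _; exact S.one_mem
    | cons j l ih =>
      intro h
      rw [List.forall_mem_cons] at h
      rw [AW_cons]
      exact S.mul_mem (hatom j h.1.1 h.1.2) (ih h.2)
  refine hw (yW n) fun j hj => ?_
  simp only [yW, List.mem_append, List.mem_map, List.mem_singleton] at hj
  rcases hj with ⟨i, hi, rfl⟩ | rfl
  · have := syl_lt (show n / 15 < 2048 by omega) i hi
    omega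
  · omega

/-- an outer involution is conjugate to one of two representatives -/
theorem outer_class {p : PH} (hK : p ∉ kP) (h : p * p = 1) :
    ∃ r c, (r = 1 ∨ r = 101) ∧ p = c⁻¹ * el r * c := by
  obtain ⟨c, hc⟩ := exists_conj_T (x := p) (by
    rw [show p ^ 4 = (p * p) * (p * p) by simp [pow_succ, mul_assoc], h]; exact one_mul 1)
  obtain ⟨k, hk, ek⟩ := exists_el hc
  have hsq : el k * el k = c * (p * p) * c⁻¹ := by rw [ek]; group
  have hKk : inK k = false := by
    rw [← Bool.not_eq_true, inK_iff hk, ek, conj_mem_kP]; exact hK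
  rw [h, mul_one, mul_inv_cancel] at hsq
  have hts : sylTSq k = 564 := el_inj (tsq_lt2048 _) (by norm_num) (by
    rw [← (el_spec hk).tsq, hKk, cond_false, hsq, one_mul, iP_eq])
  have h' := Cert.allBelow_spec outClass_ok k hk
  simp only [outClassOK, strict_eq, hKk, hts, Bool.false_or, Nat.beq_refl, Bool.not_true,
    List.any_eq_true] at h'
  obtain ⟨⟨k', g, r⟩, hu, hk'⟩ := h'
  obtain rfl : k' = k := Nat.eq_of_beq_eq_true hk'
  have hu' := List.all_eq_true.mp fusConj_ok _ hu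
  simp only [outConjOK, Bool.and_eq_true, List.any_eq_true, List.all_eq_true, List.mem_range,
    Nat.blt_eq] at hu'
  obtain ⟨⟨⟨-, hw⟩, ⟨e, hem, her⟩⟩, heq⟩ := hu'
  have hr := List.all_eq_true.mp fusReps_cases e hem
  rw [Nat.eq_of_beq_eq_true her, Bool.or_eq_true] at hr
  have hr2 : r = 1 ∨ r = 101 := hr.imp Nat.eq_of_beq_eq_true Nat.eq_of_beq_eq_true
  have hrlt : r < 2048 := by rcases hr2 with rfl | rfl <;> norm_num
  have hg : wordP g * el k' = el r * wordP g := eq_of_base fun b hb => by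
    rw [img_mul, img_mul, el, img_sProd (el_key hk).1, img_word hw]
    have e1 : ((wordP g).1.unop (bp hb) : ℕ) = space.C.run (basePt b) g := img_word hw (bp hb)
    have e2 : ((el r).1.unop (bp hb) : ℕ) = sylKey r b := (el_key hrlt).2 b hb
    rw [e1, e2]
    exact Nat.eq_of_beq_eq_true (heq b hb)
  refine ⟨r, wordP g * c, hr2, ?_⟩
  calc p = c⁻¹ * ((wordP g)⁻¹ * (wordP g * el k')) * c := by rw [inv_mul_cancel_left, ek]; group
    _ = _ := by rw [hg]; group

/-- an outer involution has a conjugate of `d` anticommuting with it -/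
theorem exists_anti {p : PH} (hK : p ∉ kP) (h : p * p = 1) :
    ∃ c : PH, c⁻¹ * yP d0Idx * c * p = p * (c⁻¹ * yP d0Idx * c) * iP := by
  obtain ⟨r, d, hr, rfl⟩ := outer_class hK h
  have h' := anti_ok
  simp only [antiOK, List.all_eq_true, List.any_eq_true, Bool.and_eq_true] at h'
  obtain ⟨e, -, ⟨her, hw⟩, heq⟩ := h' r (by rcases hr with rfl | rfl <;> simp)
  obtain ⟨x, hx⟩ : ∃ x, (AW e.2)⁻¹ * yP d0Idx * AW e.2 = x := ⟨_, rfl⟩
  have hrlt : r < 2048 := by rcases hr with rfl | rfl <;> norm_num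
  have hel : lets (elW r) = true := by rw [lets]; exact elW_ok hrlt
  have gx : Good (winv e.2 ++ yW d0Idx ++ e.2) :=
    good_append (good_append (good_winv hw) (good_yW (by decide))) (good_lets hw)
  have eq1 := (eqW_iff (good_append (good_lets hel) gx)
    (good_append gx (good_append (good_lets hel) (good_lets (by decide : lets [0, 0] = true))))).mp heq
  rw [AW_append (elW r), AW_append (winv e.2 ++ yW d0Idx ++ e.2), AW_append (elW r), AW_lets hel,
    wordP_elW, iP_AW, AW_append, AW_append, AW_winv hw, ← yP, hx] at eq1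
  refine ⟨AW e.2 * d, ?_⟩
  rw [show (AW e.2 * d)⁻¹ * yP d0Idx * (AW e.2 * d) = d⁻¹ * ((AW e.2)⁻¹ * yP d0Idx * AW e.2) * d by group,
    hx]
  have e2 : x * el r = el r * x * iP := by
    rw [eq1]
    simp only [mul_assoc, iP_sq, mul_one]
  calc d⁻¹ * x * d * (d⁻¹ * el r * d) = d⁻¹ * (x * el r) * d := by group
    _ = d⁻¹ * (el r * x * iP) * d := by rw [e2]
    _ = d⁻¹ * el r * x * (iP * d) := by group
    _ = _ := by rw [iP_comm]; group

end CfsgLib.HNStd
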