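import Cfsg.Agent.Lib.HNType.FiveRot
import Mathlib.GroupTheory.Transfer

/-!
The second branch with a root of the central involution: the transfer to a group of order two puts
the configuration into a subgroup of index two.
-/

set_option autoImplicit false

namespace CfsgLib.HNStd

open CfsgLib.HNType

/-- the second branch with a root, inside the centraliser of an element of order six -/
structure KRot {H : Type*} [Group H] (T : H → Prop) (In : H → Prop) (t A B w R κ : H) : Prop where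
  cw : ∀ x, Commute x w
  w6 : w ^ 6 = 1
  w_sq : ∀ j, j < 6 → w ^ j * w ^ j = 1 → j = 0 ∨ j = 3
  z1 : w ^ 3 ≠ 1
  AA : A * A = 1
  BB : B * B = 1
  tt : t * t = 1
  AB : Commute A B
  tA : Commute t A
  tB : Commute t B
  Rt : Commute R t
  R3 : R ^ 3 = 1
  rotA : R⁻¹ * A * R = B
  rotB : R⁻¹ * B * R = A * B
  T_conj : ∀ g x, T x → T (g * x * g⁻¹)
  T_sq : ∀ x, T x → x * x = 1
  T_one : ¬ T 1
  T_z : ¬ T (w ^ 3)
  T_t : T t
  T_A : T A
  T_Az : T (A * w ^ 3)
  T_tz : ¬ T (t * w ^ 3)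
  T_tA : ¬ T (t * A)
  t1 : t ≠ 1
  tz : t ≠ w ^ 3
  A1 : A ≠ 1
  Az : A ≠ w ^ 3
  BA : B ≠ A
  κ_sq : κ * κ = A
  κt : Commute κ t
  κB : κ * B * κ⁻¹ = A * B
  In_mul : ∀ x y, Commute x A → Commute y A → (In (x * y) ↔ (In x ↔ In y))
  In_κ : ¬ In κ
  outerT : ∀ x, Commute x A → T x → In x
  move : ∀ x, Commute x A → In x → x * B * x⁻¹ = B ∨ x * B * x⁻¹ = B * w ^ 3
  moves : ∃ x, Commute x A ∧ In x ∧ x * B * x⁻¹ ≠ B
  cent : ∀ x, Commute x A → In x → ∀ j : ℕ, x * t = t * w ^ j * x → InE t A B w x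
  kinds : ∀ x, Commute x A → In x → x * x = 1 → T x → InE t A B w x
  kern : ∀ x, Commute x A → In x → Commute x B → InE t A B w x
  other : ∃ x, Commute x A ∧ In x ∧ x * x = 1 ∧ ¬ InE t A B w x
  out : ∃ L, Commute L t ∧ ∀ u, (u = 1 ∨ u = A ∨ u = B ∨ u = A * B) → ∀ j : ℕ, L * A * L⁻¹ ≠ u * w ^ j

namespace KRot

variable {H : Type*} [Group H] {T In : H → Prop} {t A B w R κ : H}

/-- equal up to the central involution -/
def Mz (w u v : H) : Prop := u = v ∨ u = v * w ^ 3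

section

variable (d : KRot T In t A B w R κ)
include d

theorem zc (x : H) : Commute x (w ^ 3) := (d.cw x).pow_right 3

theorem zz : w ^ 3 * w ^ 3 = 1 := by rw [← pow_add]; exact d.w6

theorem mz_symm {u v : H} (h : Mz w u v) : Mz w v u := by
  rcases h with rfl | rfl
  · exact Or.inl rfl
  · exact Or.inr (by rw [mul_assoc, d.zz, mul_one])

theorem mz_trans {u v s : H} (h : Mz w u v) (h' : Mz w v s) : Mz w u s := by
  rcases h with rfl | rfl
  · exact h'
  rcases h' with rfl | rfl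
  · exact Or.inr rfl
  · exact Or.inl (by rw [mul_assoc, d.zz, mul_one])

theorem mz_mul {u v u' v' : H} (h : Mz w u v) (h' : Mz w u' v') : Mz w (u * u') (v * v') := by
  rcases h with rfl | rfl <;> rcases h' with rfl | rfl
  · exact Or.inl rfl
  · exact Or.inr (mul_assoc _ _ _).symm
  · exact Or.inr (by rw [mul_assoc, ← (d.zc u').eq, ← mul_assoc])
  · exact Or.inl (by rw [mul_assoc v, ← mul_assoc (w ^ 3), ← (d.zc v').eq, mul_assoc v', d.zz, mul_one])

theorem mz_conj (x : H) {u v : H} (h : Mz w u v) : Mz w (x * u * x⁻¹) (x * v * x⁻¹) := by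
  rcases h with rfl | rfl
  · exact Or.inl rfl
  · refine Or.inr ?_
    calc x * (v * w ^ 3) * x⁻¹ = x * v * (w ^ 3 * x⁻¹) := by group
      _ = _ := by rw [← (d.zc x⁻¹).eq]; group

theorem In_one : In 1 := by
  have h := d.In_mul 1 1 (Commute.one_left _) (Commute.one_left _)
  rw [one_mul] at h
  exact h.mpr Iff.rfl

theorem κA : Commute κ A := by rw [← d.κ_sq]; exact (Commute.refl κ).mul_right (Commute.refl κ)

theorem κA' : κ * A * κ⁻¹ = A := by rw [d.κA.eq, mul_inv_cancel_right]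

theorem not_In_κinv : ¬ In κ⁻¹ := fun h => d.In_κ (by
  have h' := d.In_mul κ κ⁻¹ d.κA d.κA.inv_left
  rw [mul_inv_cancel] at h'
  exact (h'.mp d.In_one).mpr h)

theorem not_mz_B_AB : ¬ Mz w B (A * B) := by
  rintro (h | h)
  · exact d.A1 (by rw [eq_comm, mul_eq_right] at h; exact h)
  · refine d.Az ?_
    calc A = A * B * w ^ 3 * (w ^ 3)⁻¹ * B⁻¹ := by group
      _ = B * (w ^ 3)⁻¹ * B⁻¹ := by rw [← h]
      _ = (w ^ 3)⁻¹ := by rw [(d.zc B).inv_right.eq, mul_inv_cancel_right]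
      _ = _ := inv_eq_of_mul_eq_one_right d.zz

/-- the elements fixing `A` -/
theorem cases_CA {x : H} (hx : Commute x A) :
    (In x ∧ Mz w (x * B * x⁻¹) B) ∨ (¬ In x ∧ In (x * κ⁻¹) ∧ Mz w (x * B * x⁻¹) (A * B)) := by
  by_cases h : In x
  · exact Or.inl ⟨h, d.move x hx h⟩
  have h2 : In (x * κ⁻¹) := (d.In_mul x κ⁻¹ hx d.κA.inv_left).mpr (iff_of_false h d.not_In_κinv)
  refine Or.inr ⟨h, h2, ?_⟩
  have hc : Commute (x * κ⁻¹) A := hx.mul_left d.κA.inv_left
  have e : x * B * x⁻¹ = A * (x * κ⁻¹ * B * (x * κ⁻¹)⁻¹) := by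
    calc x * B * x⁻¹ = x * κ⁻¹ * (κ * B * κ⁻¹) * (x * κ⁻¹)⁻¹ := by group
      _ = x * κ⁻¹ * A * (x * κ⁻¹)⁻¹ * (x * κ⁻¹ * B * (x * κ⁻¹)⁻¹) := by rw [d.κB]; group
      _ = _ := by rw [hc.eq, mul_inv_cancel_right]
  rw [e]
  exact d.mz_mul (Or.inl rfl) (d.move _ hc h2)

theorem rot_z (u : H) : R⁻¹ * (u * w ^ 3) * R = R⁻¹ * u * R * w ^ 3 := by
  calc R⁻¹ * (u * w ^ 3) * R = R⁻¹ * u * (w ^ 3 * R) := by group
    _ = _ := by rw [← (d.zc R).eq, ← mul_assoc]

theorem rot_AB : R⁻¹ * (A * B) * R = A := by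
  calc R⁻¹ * (A * B) * R = R⁻¹ * A * R * (R⁻¹ * B * R) := by group
    _ = A := by rw [d.rotA, d.rotB, ← mul_assoc, ← d.AB.eq, mul_assoc, d.BB, mul_one]

/-- an element fixing `B` and moving `A` by the central involution -/
theorem exists_zeta : ∃ ζ : H, ζ * B * ζ⁻¹ = B ∧ ζ * A * ζ⁻¹ = A * w ^ 3 ∧
    ∃ y, Commute y A ∧ In y ∧ y * B * y⁻¹ = B * w ^ 3 ∧ ζ = R⁻¹ * y * R := by
  obtain ⟨y, hyA, hyI, hyB⟩ := d.moves
  have hyB' := (d.move y hyA hyI).resolve_left hyB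
  refine ⟨_, ?_, ?_, y, hyA, hyI, hyB', rfl⟩
  · calc R⁻¹ * y * R * B * (R⁻¹ * y * R)⁻¹ = R⁻¹ * (y * (R * B * R⁻¹) * y⁻¹) * R := by group
      _ = R⁻¹ * (y * A * y⁻¹) * R := by rw [← d.rotA]; group
      _ = B := by rw [hyA.eq, mul_inv_cancel_right, d.rotA]
  · calc R⁻¹ * y * R * A * (R⁻¹ * y * R)⁻¹ = R⁻¹ * (y * (R * A * R⁻¹) * y⁻¹) * R := by group
      _ = R⁻¹ * (y * (A * B) * y⁻¹) * R := by
        conv_lhs => rw [← d.rot_AB]
        group
      _ = R⁻¹ * (y * A * y⁻¹ * (y * B * y⁻¹)) * R := by group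
      _ = R⁻¹ * (A * B * w ^ 3) * R := by rw [hyA.eq, mul_inv_cancel_right, hyB', ← mul_assoc A]
      _ = _ := by rw [d.rot_z, d.rot_AB]

theorem dich {x : H} (hx : Mz w (x * A * x⁻¹) A) :
    Mz w (x * B * x⁻¹) B ∨ Mz w (x * B * x⁻¹) (A * B) := by
  have key : ∀ y, Commute y A → Mz w (y * B * y⁻¹) B ∨ Mz w (y * B * y⁻¹) (A * B) := fun y hy => by
    rcases d.cases_CA hy with h | h
    exacts [Or.inl h.2, Or.inr h.2.2]
  rcases hx with h | h
  · exact key x (mul_inv_eq_iff_eq_mul.mp h)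
  obtain ⟨ζ, hζB, hζA, -⟩ := d.exists_zeta
  have hc : Commute (ζ⁻¹ * x) A := by
    show ζ⁻¹ * x * A = A * (ζ⁻¹ * x)
    calc ζ⁻¹ * x * A = ζ⁻¹ * (x * A * x⁻¹) * x := by group
      _ = ζ⁻¹ * (ζ * A * ζ⁻¹) * x := by rw [h, hζA]
      _ = _ := by group
  have e : ζ * (ζ⁻¹ * x * B * (ζ⁻¹ * x)⁻¹) * ζ⁻¹ = x * B * x⁻¹ := by group
  have eAB : Mz w (ζ * (A * B) * ζ⁻¹) (A * B) := Or.inr (by
    calc ζ * (A * B) * ζ⁻¹ = ζ * A * ζ⁻¹ * (ζ * B * ζ⁻¹) := by group
      _ = A * (w ^ 3 * B) := by rw [hζA, hζB, mul_assoc]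
      _ = _ := by rw [← (d.zc B).eq, mul_assoc])
  rcases key _ hc with h' | h'
  · refine Or.inl ?_
    have := d.mz_conj ζ h'
    rwa [e, hζB] at this
  · refine Or.inr ?_
    have := d.mz_trans (d.mz_conj ζ h') eAB
    rwa [e] at this

theorem sq_cases {j : ℕ} (h : w ^ j * w ^ j = 1) : w ^ j = 1 ∨ w ^ j = w ^ 3 := by
  have hp : w ^ j = w ^ (j % 6) := by
    conv_lhs => rw [← Nat.mod_add_div j 6, pow_add, pow_mul, d.w6, one_pow, mul_one]
  rw [hp] at h ⊢
  rcases d.w_sq _ (Nat.mod_lt _ (by norm_num)) h with e | e <;> rw [e]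
  · exact Or.inl (pow_zero w)
  · exact Or.inr rfl

/-- the elements fixing `A` up to the central involution -/
def fix : Subgroup H where
  carrier := {x | Mz w (x * A * x⁻¹) A}
  one_mem' := Or.inl (by group)
  mul_mem' := fun {x y} (hx : Mz w (x * A * x⁻¹) A) (hy : Mz w (y * A * y⁻¹) A) => by
    show Mz w (x * y * A * (x * y)⁻¹) A
    rw [show x * y * A * (x * y)⁻¹ = x * (y * A * y⁻¹) * x⁻¹ by group]
    exact d.mz_trans (d.mz_conj x hy) hx
  inv_mem' := fun {x} (hx : Mz w (x * A * x⁻¹) A) => by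
    have h := d.mz_symm (d.mz_conj x⁻¹ hx)
    rw [show x⁻¹ * (x * A * x⁻¹) * x⁻¹⁻¹ = A by group] at h
    exact h

theorem mem_fix {x : H} : x ∈ d.fix ↔ Mz w (x * A * x⁻¹) A := Iff.rfl

theorem conj_AB {x : H} (hx : x ∈ d.fix) {v : H} (h : Mz w (x * B * x⁻¹) v) :
    Mz w (x * (A * B) * x⁻¹) (A * v) := by
  rw [show x * (A * B) * x⁻¹ = x * A * x⁻¹ * (x * B * x⁻¹) by group]
  exact d.mz_mul hx h

open scoped _root_.Classical in
/-- moving `B` -/
noncomputable def chi : ↥d.fix →* ℤˣ :=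
  MonoidHom.mk' (fun x => if Mz w ((x : H) * B * (x : H)⁻¹) B then 1 else -1) fun x y => by
    have hne : ∀ {u : H}, Mz w u (A * B) → ¬ Mz w u B := fun h h' =>
      d.not_mz_B_AB (d.mz_trans (d.mz_symm h') h)
    have e : ((x * y : ↥d.fix) : H) * B * ((x * y : ↥d.fix) : H)⁻¹ =
        (x : H) * ((y : H) * B * (y : H)⁻¹) * (x : H)⁻¹ := by
      rw [Subgroup.coe_mul]; group
    have hA2 : A * (A * B) = B := by rw [← mul_assoc, d.AA, one_mul]
    rcases d.dich x.2 with hx | hx <;> rcases d.dich y.2 with hy | hy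
    · rw [if_pos hx, if_pos hy, if_pos (e ▸ d.mz_trans (d.mz_conj _ hy) hx), one_mul]
    · rw [if_pos hx, if_neg (hne hy),
        if_neg (hne (e ▸ d.mz_trans (d.mz_conj _ hy) (d.conj_AB x.2 hx))), one_mul]
    · rw [if_neg (hne hx), if_pos hy, if_neg (hne (e ▸ d.mz_trans (d.mz_conj _ hy) hx)), mul_one]
    · have h2 := d.mz_trans (d.mz_conj (x : H) hy) (d.conj_AB x.2 hx)
      rw [hA2] at h2
      rw [if_neg (hne hx), if_neg (hne hy), if_pos (e ▸ h2)]
      decide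

theorem chi_one_of {x : ↥d.fix} (h : Mz w ((x : H) * B * (x : H)⁻¹) B) : d.chi x = 1 := by
  classical
  exact if_pos h

/-- a member of the class in the subgroup does not move `B` -/
theorem chi_T {x : ↥d.fix} (hT : T (x : H)) : d.chi x = 1 := by
  refine d.chi_one_of ((d.dich x.2).resolve_right fun hB => ?_)
  rcases (d.mem_fix.mp x.2) with hA | hA
  · have hc : Commute (x : H) A := mul_inv_eq_iff_eq_mul.mp hA
    exact d.not_mz_B_AB (d.mz_trans (d.mz_symm (d.move _ hc (d.outerT _ hc hT))) hB)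
  obtain ⟨g, hg⟩ : ∃ g, (x : H) = g := ⟨_, rfl⟩
  rw [hg] at hA hB hT
  have hgi : g⁻¹ = g := inv_eq_of_mul_eq_one_right (d.T_sq _ hT)
  have back : g * (g * B * g⁻¹) * g⁻¹ = B := by
    calc g * (g * B * g⁻¹) * g⁻¹ = g * g * B * (g * g)⁻¹ := by group
      _ = B := by rw [d.T_sq _ hT]; group
  have hAg : g * A * g⁻¹ = A * w ^ 3 := hA
  have hzg : g * w ^ 3 * g⁻¹ = w ^ 3 := by rw [(d.zc g).eq, mul_inv_cancel_right]
  have fin : g * (g * B * g⁻¹) * g⁻¹ = B * w ^ 3 := by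
    rcases hB with hB | hB
    · calc g * (g * B * g⁻¹) * g⁻¹ = g * A * g⁻¹ * (g * B * g⁻¹) := by
            conv_lhs => rw [hB]
            group
        _ = A * (w ^ 3 * A) * B := by rw [hAg, hB]; group
        _ = A * A * (w ^ 3 * B) := by rw [← (d.zc A).eq]; group
        _ = _ := by rw [d.AA, one_mul, (d.zc B).eq]
    · calc g * (g * B * g⁻¹) * g⁻¹ = g * A * g⁻¹ * (g * B * g⁻¹) * (g * w ^ 3 * g⁻¹) := by
            conv_lhs => rw [hB]
            group
        _ = A * (w ^ 3 * A) * B * (w ^ 3 * w ^ 3) := by rw [hAg, hB, hzg]; group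
        _ = A * A * (w ^ 3 * B) := by rw [d.zz, mul_one, ← (d.zc A).eq]; group
        _ = _ := by rw [d.AA, one_mul, (d.zc B).eq]
  rw [back, left_eq_mul] at fin
  exact d.z1 fin

variable [Finite H]

/-- the transfer -/
noncomputable def V : H →* ℤˣ := MonoidHom.transfer d.chi

theorem V_T {g : H} (hT : T g) : d.V g = 1 := by
  classical
  letI := Fintype.ofFinite (Quotient (MulAction.orbitRel (Subgroup.zpowers g) (H ⧸ d.fix)))
  rw [V, MonoidHom.transfer_eq_prod_quotient_orbitRel_zpowers_quot]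
  refine Finset.prod_eq_one fun q _ => ?_
  obtain ⟨p, hp⟩ : ∃ p, Function.minimalPeriod (fun c => g • c) q.out = p := ⟨_, rfl⟩
  rcases Nat.even_or_odd p with ⟨r, hr⟩ | ⟨r, hr⟩
  · have e : g ^ p = 1 := by rw [hr, ← two_mul, pow_mul, pow_two, d.T_sq g hT, one_pow]
    exact (congrArg d.chi (Subtype.ext (by simp [hp, e]))).trans d.chi.map_one
  · have e : g ^ p = g := by rw [hr, pow_succ, pow_mul, pow_two, d.T_sq g hT, one_pow, one_mul]
    refine d.chi_T ?_
    show T (q.out.out⁻¹ * g ^ Function.minimalPeriod (fun c => g • c) q.out * q.out.out)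
    rw [hp, e]
    simpa using d.T_conj q.out.out⁻¹ g hT

theorem κ_fix : κ ∈ d.fix := Or.inl d.κA'

theorem fixed_mem {h : H} (hh : h⁻¹ * κ * h ∈ d.fix) : h ∈ d.fix := by
  obtain ⟨a, ha⟩ : ∃ a, h * A * h⁻¹ = a := ⟨_, rfl⟩
  have hTa : T a := ha ▸ d.T_conj h A d.T_A
  have hTaz : T (a * w ^ 3) := by
    have := d.T_conj h _ d.T_Az
    rwa [show h * (A * w ^ 3) * h⁻¹ = h * A * (w ^ 3 * h⁻¹) by group, ← (d.zc h⁻¹).eq,
      ← mul_assoc, ha] at this
  have hκa : Mz w (κ * a * κ⁻¹) a := by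
    have := d.mz_conj h (d.mem_fix.mp hh)
    rw [show h * (h⁻¹ * κ * h * A * (h⁻¹ * κ * h)⁻¹) * h⁻¹ = κ * (h * A * h⁻¹) * κ⁻¹ by group,
      ha] at this
    exact this
  have hac : Commute a A := by
    have e : κ * (κ * a * κ⁻¹) * κ⁻¹ = a := by
      rcases hκa with e1 | e1
      · rw [e1, e1]
      · have e2 : κ * (a * w ^ 3) * κ⁻¹ = κ * a * κ⁻¹ * w ^ 3 := by
          rw [mul_assoc _ κ⁻¹ (w ^ 3), (d.zc κ⁻¹).eq]; group
        rw [e1, e2, e1, mul_assoc, d.zz, mul_one]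
    have e' : A * a * A⁻¹ = a := by
      calc A * a * A⁻¹ = κ * (κ * a * κ⁻¹) * κ⁻¹ := by rw [← d.κ_sq]; group
        _ = a := e
    exact (show Commute A a from mul_inv_eq_iff_eq_mul.mp e').symm
  obtain ⟨u, hu, j, hj⟩ := d.kinds a hac (d.outerT a hac hTa) (d.T_sq a hTa) hTa
  have hu2 : u * u = 1 ∧ Commute t u := by
    rcases hu with rfl | rfl | rfl | rfl
    · exact ⟨one_mul 1, Commute.one_right t⟩
    · exact ⟨d.AA, d.tA⟩
    · exact ⟨d.BB, d.tB⟩
    · refine ⟨?_, d.tA.mul_right d.tB⟩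
      calc A * B * (A * B) = A * (B * A) * B := by group
        _ = A * A * (B * B) := by rw [← d.AB.eq]; group
        _ = 1 := by rw [d.AA, d.BB, one_mul]
  have hsq : ∀ {v : H}, v * v = 1 → a = v * w ^ j → Mz w a v := fun {v} hv e => by
    have h2 := d.T_sq a hTa
    rw [e, show v * w ^ j * (v * w ^ j) = v * (w ^ j * v) * w ^ j by group,
      ← ((d.cw v).pow_right j).eq, show v * (v * w ^ j) * w ^ j = v * v * (w ^ j * w ^ j) by group,
      hv, one_mul] at h2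
    rcases d.sq_cases h2 with e' | e' <;> rw [e, e']
    · exact Or.inl (mul_one v)
    · exact Or.inr rfl
  have hboth : ∀ {v : H}, Mz w a v → T v ∧ T (v * w ^ 3) := fun {v} h => by
    rcases h with h | h
    · exact ⟨h ▸ hTa, h ▸ hTaz⟩
    · exact ⟨by have := hTaz; rwa [h, mul_assoc, d.zz, mul_one] at this, h ▸ hTa⟩
  have hrotT : ∀ {x : H}, ¬ T x → ¬ T (R⁻¹ * x * R) := fun {x} hx h => hx (by
    rw [show x = R * (R⁻¹ * x * R) * R⁻¹ by group]
    exact d.T_conj R _ h)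
  have hrt : ∀ v : H, R⁻¹ * (t * v) * R = t * (R⁻¹ * v * R) := fun v => by
    calc R⁻¹ * (t * v) * R = (R⁻¹ * t) * v * R := by group
      _ = _ := by rw [d.Rt.inv_left.eq]; group
  have hTB : ¬ T (t * B) := by
    have := hrotT d.T_tA
    rwa [hrt, d.rotA] at this
  have hTAB : ¬ T (t * (A * B)) := by
    have := hrotT hTB
    rwa [hrt, d.rotB] at this
  have hm : Mz w a A ∨ Mz w a B ∨ Mz w a (A * B) := by
    rcases hj with hj | hj
    · have h := hsq hu2.1 hj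
      rcases hu with rfl | rfl | rfl | rfl
      exacts [absurd (hboth h).1 d.T_one, Or.inl h, Or.inr (Or.inl h), Or.inr (Or.inr h)]
    · have h := hsq (v := t * u) (by
        rw [show t * u * (t * u) = t * (u * t) * u by group, ← hu2.2.eq,
          show t * (t * u) * u = t * t * (u * u) by group, d.tt, hu2.1, one_mul]) hj
      exfalso
      rcases hu with rfl | rfl | rfl | rfl
      · rw [mul_one] at h; exact d.T_tz (hboth h).2
      · exact d.T_tA (hboth h).1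
      · exact hTB (hboth h).1
      · exact hTAB (hboth h).1
  rw [d.mem_fix, ha]
  rcases hm with h | h | h
  · exact h
  · exfalso
    have := d.mz_trans (d.mz_symm h) (d.mz_trans (d.mz_symm hκa) (d.mz_conj κ h))
    rw [d.κB] at this
    exact d.not_mz_B_AB this
  · exfalso
    have := d.mz_trans (d.mz_symm h) (d.mz_trans (d.mz_symm hκa) (d.mz_conj κ h))
    rw [show κ * (A * B) * κ⁻¹ = κ * A * κ⁻¹ * (κ * B * κ⁻¹) by group, d.κA', d.κB, ← mul_assoc,
      d.AA, one_mul] at this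
    exact d.not_mz_B_AB (d.mz_symm this)

theorem chi_κ : d.chi ⟨κ, d.κ_fix⟩ = -1 := by
  classical
  refine if_neg fun h => d.not_mz_B_AB ?_
  have := d.mz_symm h
  rwa [show ((⟨κ, d.κ_fix⟩ : ↥d.fix) : H) * B * ((⟨κ, d.κ_fix⟩ : ↥d.fix) : H)⁻¹ = A * B from d.κB]
    at this

theorem V_κ : d.V κ = -1 := by
  classical
  letI := Fintype.ofFinite (Quotient (MulAction.orbitRel (Subgroup.zpowers κ) (H ⧸ d.fix)))
  rw [V, MonoidHom.transfer_eq_prod_quotient_orbitRel_zpowers_quot]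
  obtain ⟨c0, hc0⟩ : ∃ c0 : H ⧸ d.fix, c0 = ((1 : H) : H ⧸ d.fix) := ⟨_, rfl⟩
  have hfix0 : κ • c0 = c0 := by
    rw [hc0, MulAction.Quotient.smul_coe, smul_eq_mul, mul_one, QuotientGroup.eq, mul_one]
    exact d.fix.inv_mem d.κ_fix
  obtain ⟨q0, hq0⟩ : ∃ q0 : Quotient (MulAction.orbitRel (Subgroup.zpowers κ) (H ⧸ d.fix)),
      q0 = Quotient.mk'' c0 := ⟨_, rfl⟩
  have hq0o : q0.out = c0 := by
    have h := MulAction.orbitRel_apply.mp (Quotient.exact' ((Quotient.out_eq' q0).trans hq0))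
    obtain ⟨⟨y, hy⟩, e⟩ := MulAction.mem_orbit_iff.mp h
    rw [← e]
    obtain ⟨m, rfl⟩ := Subgroup.mem_zpowers_iff.mp hy
    exact (show κ ^ m • c0 = c0 from
      (MulAction.stabilizer H c0).zpow_mem (MulAction.mem_stabilizer_iff.mpr hfix0) m)
  have hper : ∀ c : H ⧸ d.fix, Function.minimalPeriod (fun x => κ • x) c ∣ 4 := fun c => by
    refine Function.IsPeriodicPt.minimalPeriod_dvd ?_
    show (fun x => κ • x)^[4] c = c
    simp only [Function.iterate_succ, Function.iterate_zero, Function.comp_apply, id_eq, ← mul_smul]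
    rw [show κ * (κ * (κ * κ)) = κ * κ * (κ * κ) by group, d.κ_sq, d.AA, one_smul]
  rw [Fintype.prod_eq_single q0]
  · have hp : Function.minimalPeriod (fun x => κ • x) q0.out = 1 := by
      rw [hq0o]; exact Function.minimalPeriod_eq_one_iff_isFixedPt.mpr hfix0
    have hd : q0.out.out ∈ d.fix := by
      have h : ((q0.out.out : H) : H ⧸ d.fix) = ((1 : H) : H ⧸ d.fix) := by
        rw [QuotientGroup.out_eq', hq0o, hc0]
      rw [QuotientGroup.eq, mul_one] at h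
      exact inv_mem_iff.mp h
    refine ((congrArg d.chi (a₂ := (⟨_, hd⟩ : ↥d.fix)⁻¹ * ⟨κ, d.κ_fix⟩ * ⟨_, hd⟩) (Subtype.ext ?_)).trans ?_)
    · simp [hp]
    · rw [map_mul, map_mul, map_inv, mul_comm, ← mul_assoc, mul_inv_cancel, one_mul, d.chi_κ]
  · intro q hq
    obtain ⟨p, hp⟩ : ∃ p, Function.minimalPeriod (fun x => κ • x) q.out = p := ⟨_, rfl⟩
    rcases Nat.even_or_odd p with ⟨r, hr⟩ | hr
    · rcases Nat.even_or_odd r with ⟨s, hs⟩ | ⟨s, hs⟩
      · have e : κ ^ p = 1 := by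
          rw [hr, hs, show s + s + (s + s) = 2 * 2 * s by ring, pow_mul, pow_mul, pow_two κ, d.κ_sq,
            pow_two, d.AA, one_pow]
        refine (congrArg d.chi (Subtype.ext ?_)).trans d.chi.map_one
        simp [hp, e]
      · have e : κ ^ p = A := by
          rw [hr, hs, show 2 * s + 1 + (2 * s + 1) = 2 * (2 * s + 1) by ring, pow_mul, pow_two κ, d.κ_sq,
            pow_succ, pow_mul, pow_two, d.AA, one_pow, one_mul]
        refine d.chi_T ?_
        show T (q.out.out⁻¹ * κ ^ Function.minimalPeriod (fun x => κ • x) q.out * q.out.out)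
        rw [hp, e]
        simpa using d.T_conj q.out.out⁻¹ A d.T_A
    · have h1 : p = 1 := by
        have h4 := hp ▸ hper q.out
        have := Nat.le_of_dvd (by norm_num) h4
        obtain ⟨r, hr⟩ := hr
        interval_cases p <;> omega
      exfalso
      have hf : κ • q.out = q.out := Function.minimalPeriod_eq_one_iff_isFixedPt.mp (hp.trans h1)
      have hm : q.out.out⁻¹ * κ * q.out.out ∈ d.fix := by
        have h2 : κ • (((q.out.out : H)) : H ⧸ d.fix) = ((q.out.out : H) : H ⧸ d.fix) := by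
          rw [QuotientGroup.out_eq']; exact hf
        rw [MulAction.Quotient.smul_coe, smul_eq_mul, QuotientGroup.eq] at h2
        have h3 := d.fix.inv_mem h2
        rwa [mul_inv_rev, inv_inv, ← mul_assoc] at h3
      have h3 := d.fixed_mem hm
      refine hq ?_
      rw [hq0, ← Quotient.out_eq' q]
      congr 1
      rw [hc0, ← QuotientGroup.out_eq' q.out, QuotientGroup.eq, mul_one]
      exact d.fix.inv_mem h3

theorem V_rot (x : H) : d.V (R⁻¹ * x * R) = d.V x := by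
  rw [map_mul, map_mul, map_inv, mul_comm, ← mul_assoc, mul_inv_cancel, one_mul]

theorem V_w : d.V w = 1 := by
  have h3 : d.V (w ^ 3) = 1 := by
    rw [show w ^ 3 = A * (A * w ^ 3) by rw [← mul_assoc, d.AA, one_mul], map_mul, d.V_T d.T_A,
      d.V_T d.T_Az, one_mul]
  have h4 : d.V (w ^ 4) = 1 := by
    have h := congrArg d.V (show (w ^ 4) ^ 3 = 1 by rw [← pow_mul, show 4 * 3 = 6 * 2 from rfl, pow_mul, d.w6, one_pow])
    rw [map_one, map_pow, pow_succ, Int.units_sq, one_mul] at h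
    exact h
  refine (congrArg d.V (show w = w ^ 4 * w ^ 3 by
    rw [← pow_add, show 4 + 3 = 6 + 1 from rfl, pow_succ, d.w6, one_mul])).trans ?_
  rw [map_mul, h3, h4, one_mul]

theorem V_B : d.V B = 1 := by
  exact (congrArg d.V d.rotA).symm.trans ((d.V_rot A).trans (d.V_T d.T_A))

theorem V_R : d.V R = 1 := by
  have h := congrArg d.V d.R3
  rwa [map_one, map_pow, pow_succ, Int.units_sq, one_mul] at h

theorem V_InE {x : H} (h : InE t A B w x) : d.V x = 1 := by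
  obtain ⟨u, hu, j, hj⟩ := h
  have hu1 : d.V u = 1 := by
    rcases hu with rfl | rfl | rfl | rfl
    exacts [map_one _, d.V_T d.T_A, d.V_B, by rw [map_mul, d.V_T d.T_A, d.V_B, one_mul]]
  rcases hj with rfl | rfl <;> simp [map_mul, map_pow, hu1, d.V_w, d.V_T d.T_t]

/-- the part not moved out of the chart lies in the kernel -/
theorem V_In {x : H} (hx : Commute x A) (hI : In x) : d.V x = 1 := by
  obtain ⟨ζ, hζB, hζA, y, hyA, hyI, hyB, rfl⟩ := d.exists_zeta
  have hVy : d.V y = 1 := by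
    obtain ⟨ζ, hζ⟩ : ∃ ζ, R⁻¹ * y * R = ζ := ⟨_, rfl⟩
    rw [hζ] at hζB hζA
    obtain ⟨η, hη⟩ : ∃ η, R⁻¹ * ζ * R = η := ⟨_, rfl⟩
    have hηA : η * A * η⁻¹ = A * w ^ 3 := by
      calc η * A * η⁻¹ = R⁻¹ * (ζ * (R * A * R⁻¹) * ζ⁻¹) * R := by rw [← hη]; group
        _ = R⁻¹ * (ζ * A * ζ⁻¹ * (ζ * B * ζ⁻¹)) * R := by
          conv_lhs => rw [← d.rot_AB]
          group
        _ = R⁻¹ * (A * B * w ^ 3) * R := by rw [hζA, hζB, mul_assoc A (w ^ 3) B, ← (d.zc B).eq, ← mul_assoc A]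
        _ = _ := by rw [d.rot_z, d.rot_AB]
    have hηB : η * B * η⁻¹ = B * w ^ 3 := by
      calc η * B * η⁻¹ = R⁻¹ * (ζ * (R * B * R⁻¹) * ζ⁻¹) * R := by rw [← hη]; group
        _ = R⁻¹ * (ζ * A * ζ⁻¹) * R := by
          conv_lhs => rw [← d.rotA]
          group
        _ = _ := by rw [hζA, d.rot_z, d.rotA]
    have hzinv : ∀ {v : H}, η * v * η⁻¹ = v * w ^ 3 → η⁻¹ * v * η = v * w ^ 3 := fun {v} h => by
      calc η⁻¹ * v * η = η⁻¹ * (v * w ^ 3) * (w ^ 3 * η) := by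
            rw [show η⁻¹ * (v * w ^ 3) * (w ^ 3 * η) = η⁻¹ * v * (w ^ 3 * w ^ 3) * η by group, d.zz]
            group
        _ = η⁻¹ * (η * v * η⁻¹) * (η * w ^ 3) := by rw [h, ← (d.zc η).eq]
        _ = _ := by group
    have hz1 : ∀ (g v : H), g * (v * w ^ 3) * g⁻¹ = g * v * g⁻¹ * w ^ 3 := fun g v => by
      rw [mul_assoc _ g⁻¹ (w ^ 3), (d.zc g⁻¹).eq]; group
    have hcA : Commute (y * ζ * η⁻¹) A := by
      refine mul_inv_eq_iff_eq_mul.mp ?_
      calc y * ζ * η⁻¹ * A * (y * ζ * η⁻¹)⁻¹ = y * (ζ * (η⁻¹ * A * η) * ζ⁻¹) * y⁻¹ := by group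
        _ = y * (A * w ^ 3 * w ^ 3) * y⁻¹ := by rw [hzinv hηA, hz1, hζA]
        _ = A := by rw [mul_assoc A, d.zz, mul_one, hyA.eq, mul_inv_cancel_right]
    have hcB : Commute (y * ζ * η⁻¹) B := by
      refine mul_inv_eq_iff_eq_mul.mp ?_
      calc y * ζ * η⁻¹ * B * (y * ζ * η⁻¹)⁻¹ = y * (ζ * (η⁻¹ * B * η) * ζ⁻¹) * y⁻¹ := by group
        _ = y * B * y⁻¹ * w ^ 3 := by rw [hzinv hηB, hz1, hζB, hz1]
        _ = B := by rw [hyB, mul_assoc, d.zz, mul_one]
    have hI' : In (y * ζ * η⁻¹) := by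
      rcases d.cases_CA hcA with h | ⟨-, -, h⟩
      · exact h.1
      · rw [hcB.eq, mul_inv_cancel_right] at h
        exact absurd h d.not_mz_B_AB
    have h := d.V_InE (d.kern _ hcA hI' hcB)
    rw [map_mul, map_mul, map_inv, ← hη, d.V_rot, mul_inv_cancel_right] at h
    exact h
  rcases d.move x hx hI with h | h
  · exact d.V_InE (d.kern x hx hI (mul_inv_eq_iff_eq_mul.mp h))
  · have hc : Commute (x * y⁻¹) B := by
      refine mul_inv_eq_iff_eq_mul.mp ?_
      have hy' : y⁻¹ * B * y = B * w ^ 3 := by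
        calc y⁻¹ * B * y = y⁻¹ * (y * B * y⁻¹ * w ^ 3) * y := by
              rw [hyB, mul_assoc B (w ^ 3), d.zz, mul_one]
          _ = B * (y⁻¹ * w ^ 3 * y) := by group
          _ = _ := by rw [mul_assoc y⁻¹, ← (d.zc y).eq, inv_mul_cancel_left]
      calc x * y⁻¹ * B * (x * y⁻¹)⁻¹ = x * (y⁻¹ * B * y) * x⁻¹ := by group
        _ = x * B * (w ^ 3 * x⁻¹) := by rw [hy']; group
        _ = x * B * x⁻¹ * w ^ 3 := by rw [← (d.zc x⁻¹).eq]; group
        _ = B := by rw [h, mul_assoc, d.zz, mul_one]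
    have hyi : In y⁻¹ := by
      have h' := d.In_mul y y⁻¹ hyA hyA.inv_left
      rw [mul_inv_cancel] at h'
      exact (h'.mp d.In_one).mp hyI
    have h' := d.V_InE (d.kern _ (hx.mul_left hyA.inv_left)
      ((d.In_mul x y⁻¹ hx hyA.inv_left).mpr (iff_of_true hI hyi)) hc)
    rwa [map_mul, map_inv, hVy, inv_one, mul_one] at h'

theorem false : False := by
  obtain ⟨L0, hL0t, hL0⟩ := d.out
  obtain ⟨L, hLV, hLt, hL⟩ : ∃ L, d.V L = 1 ∧ Commute L t ∧
      ∀ u, (u = 1 ∨ u = A ∨ u = B ∨ u = A * B) → ∀ j : ℕ, L * A * L⁻¹ ≠ u * w ^ j := by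
    rcases Int.units_eq_one_or (d.V L0) with h | h
    · exact ⟨L0, h, hL0t, hL0⟩
    · refine ⟨L0 * κ, by rw [map_mul, h, d.V_κ]; decide, hL0t.mul_left d.κt, fun u hu j e => hL0 u hu j ?_⟩
      rw [← e]
      calc L0 * A * L0⁻¹ = L0 * (κ * A * κ⁻¹) * L0⁻¹ := by rw [d.κA']
        _ = _ := by group
  obtain ⟨t', ht⟩ : ∃ x : ↥d.V.ker, (x : H) = t := ⟨⟨t, MonoidHom.mem_ker.mpr (d.V_T d.T_t)⟩, rfl⟩
  obtain ⟨A', hA⟩ : ∃ x : ↥d.V.ker, (x : H) = A := ⟨⟨A, MonoidHom.mem_ker.mpr (d.V_T d.T_A)⟩, rfl⟩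
  obtain ⟨B', hB⟩ : ∃ x : ↥d.V.ker, (x : H) = B := ⟨⟨B, MonoidHom.mem_ker.mpr d.V_B⟩, rfl⟩
  obtain ⟨w', hw⟩ : ∃ x : ↥d.V.ker, (x : H) = w := ⟨⟨w, MonoidHom.mem_ker.mpr d.V_w⟩, rfl⟩
  obtain ⟨R', hR⟩ : ∃ x : ↥d.V.ker, (x : H) = R := ⟨⟨R, MonoidHom.mem_ker.mpr d.V_R⟩, rfl⟩
  have hc : ∀ {x y : ↥d.V.ker}, Commute (x : H) (y : H) → Commute x y := fun h => Subtype.ext h.eq
  have hinE : ∀ {x : ↥d.V.ker}, InE t A B w (x : H) → InE t' A' B' w' x := by
    rintro x ⟨u, hu, j, hj⟩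
    obtain ⟨u', hu', hu''⟩ : ∃ u' : ↥d.V.ker, (u' : H) = u ∧ (u' = 1 ∨ u' = A' ∨ u' = B' ∨ u' = A' * B') := by
      rcases hu with rfl | rfl | rfl | rfl
      · exact ⟨1, rfl, Or.inl rfl⟩
      · exact ⟨A', hA, Or.inr (Or.inl rfl)⟩
      · exact ⟨B', hB, Or.inr (Or.inr (Or.inl rfl))⟩
      · exact ⟨A' * B', by rw [Subgroup.coe_mul, hA, hB], Or.inr (Or.inr (Or.inr rfl))⟩
    refine ⟨u', hu'', j, ?_⟩
    rcases hj with hj | hj
    · exact Or.inl (Subtype.ext (by simpa [hu', hw] using hj))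
    · exact Or.inr (Subtype.ext (by simpa [hu', hw, ht] using hj))
  have hInE' : ∀ {x : ↥d.V.ker}, InE t' A' B' w' x → InE t A B w (x : H) := by
    rintro x ⟨u, hu, j, hj⟩
    refine ⟨(u : H), ?_, j, ?_⟩
    · rcases hu with rfl | rfl | rfl | rfl
      exacts [Or.inl rfl, Or.inr (Or.inl hA), Or.inr (Or.inr (Or.inl hB)),
        Or.inr (Or.inr (Or.inr (by rw [Subgroup.coe_mul, hA, hB])))]
    · rcases hj with rfl | rfl
      · exact Or.inl (by simp [hw])
      · exact Or.inr (by simp [hw, ht])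
  have hIn : ∀ {x : ↥d.V.ker}, Commute (x : H) A → In (x : H) := fun {x} hx => by
    rcases d.cases_CA hx with h | ⟨-, h, -⟩
    · exact h.1
    · exfalso
      have h' := d.V_In (hx.mul_left d.κA.inv_left) h
      rw [map_mul, map_inv, MonoidHom.mem_ker.mp x.2, d.V_κ] at h'
      exact absurd h' (by decide)
  have hcA : ∀ {x : ↥d.V.ker}, Commute x A' → Commute (x : H) A := fun {x} h => by
    have := congrArg Subtype.val h.eq
    rwa [Subgroup.coe_mul, Subgroup.coe_mul, hA] at this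
  have he : ∀ {a b : ↥d.V.ker}, (a : H) = b → a = b := fun h => Subtype.ext h
  refine RotData.false (G := ↥d.V.ker) (T := fun x => T (x : H)) (t := t') (A := A') (B := B') (w := w')
    (R := R') {
      w6 := he (by simpa [hw] using d.w6)
      w_sq := fun j hj h => d.w_sq j hj (by simpa [hw] using congrArg Subtype.val h)
      AA := he (by simpa [hA] using d.AA)
      BB := he (by simpa [hB] using d.BB)
      tt := he (by simpa [ht] using d.tt)
      AB := hc (by rw [hA, hB]; exact d.AB)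
      tA := hc (by rw [hA, ht]; exact d.tA)
      tB := hc (by rw [hB, ht]; exact d.tB)
      Aw := hc (by rw [hA, hw]; exact d.cw A)
      Bw := hc (by rw [hB, hw]; exact d.cw B)
      tw := hc (by rw [ht, hw]; exact d.cw t)
      Rw := hc (by rw [hR, hw]; exact d.cw R)
      Rt := hc (by rw [hR, ht]; exact d.Rt)
      rotA := he (by simpa [hR, hA, hB] using d.rotA)
      rotB := he (by simpa [hR, hA, hB] using d.rotB)
      T_conj := fun g x hx => by simpa using d.T_conj (g : H) _ hx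
      T_t := by rw [ht]; exact d.T_t
      T_A := by rw [hA]; exact d.T_A
      T_Az := by simpa [hA, hw] using d.T_Az
      T_tz := by simpa [ht, hw] using d.T_tz
      T_tA := by simpa [ht, hA] using d.T_tA
      t1 := fun h => d.t1 (ht.symm.trans (congrArg Subtype.val h))
      tz := fun h => d.tz (ht.symm.trans ((congrArg Subtype.val h).trans (by simp [hw])))
      A1 := fun h => d.A1 (hA.symm.trans (congrArg Subtype.val h))
      Az := fun h => d.Az (hA.symm.trans ((congrArg Subtype.val h).trans (by simp [hw])))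
      BA := fun h => d.BA (hB.symm.trans ((congrArg Subtype.val h).trans hA))
      move := fun x _ hx => by
        rcases d.move _ (hcA hx) (hIn (hcA hx)) with h | h
        · exact Or.inl (he (by simpa [hB] using h))
        · exact Or.inr (he (by simpa [hB, hw] using h))
      moves := ?_
      cent := fun x _ hx j h => hinE (d.cent _ (hcA hx) (hIn (hcA hx)) j (by
        simpa [ht, hw] using congrArg Subtype.val h))
      kinds := fun x _ hx hxx hT => hinE (d.kinds _ (hcA hx) (hIn (hcA hx)) (by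
        simpa using congrArg Subtype.val hxx) hT)
      other := ?_
      out := ?_ }
  · obtain ⟨x, hxA, hxI, hxB⟩ := d.moves
    refine ⟨⟨x, MonoidHom.mem_ker.mpr (d.V_In hxA hxI)⟩, hc (by rw [hw]; exact d.cw _),
      hc (by rw [hA]; exact hxA), fun h => hxB (by simpa [hB] using congrArg Subtype.val h)⟩
  · obtain ⟨x, hxA, hxI, hxx, hxE⟩ := d.other
    exact ⟨⟨x, MonoidHom.mem_ker.mpr (d.V_In hxA hxI)⟩, hc (by rw [hw]; exact d.cw _),
      hc (by rw [hA]; exact hxA), he (by simpa using hxx), fun h => hxE (hInE' h)⟩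
  · refine ⟨⟨L, MonoidHom.mem_ker.mpr hLV⟩, hc (by rw [hw]; exact d.cw _), hc (by rw [ht]; exact hLt),
      fun u hu j h => hL (u : H) ?_ j (by simpa [hA, hw] using congrArg Subtype.val h)⟩
    rcases hu with rfl | rfl | rfl | rfl
    exacts [Or.inl rfl, Or.inr (Or.inl hA), Or.inr (Or.inr (Or.inl hB)),
      Or.inr (Or.inr (Or.inr (by rw [Subgroup.coe_mul, hA, hB])))]

end

end KRot

end CfsgLib.HNStd
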