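import Cfsg.Agent.Lib.HNStd.KSwap
import Cfsg.Agent.Lib.HNStd.KRot
import Cfsg.Agent.Lib.HNType.FiveQ

/-!
The second branch in a centraliser with a root does not occur.
-/

set_option autoImplicit false
set_option maxRecDepth 100000
set_option maxHeartbeats 3200000

namespace CfsgLib.HNStd

open CfsgLib.CosetEnum CfsgLib.DCoset CfsgLib.HN CfsgLib.HNType CfsgLib.HNType.Five

variable {Q : Type*} [Group Q] {t : Q}

theorem KS.second_branch_absurd [Finite Q] {F : KF t} {γ : Q} (hγ : KS F γ) {n : ℕ} (hn : n < 30720)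
    (hv : F.j (yP n) = γ * F.j pb * γ⁻¹) (hTv : KT F (yP n)) (hTva : ¬ KT F (yP n * pa))
    {e : ℕ × List ℕ × List ℕ × List (ℕ × ℕ × ℕ) × List (ℕ × List ℕ × ℕ × ℕ × ℕ × List (ℕ × List ℕ))}
    (he : e ∈ qCases) (hen : e.1 = n) : False := by
  obtain ⟨n', dv, cva, zl, qq⟩ := e
  dsimp only at hen
  subst hen
  have h := List.all_eq_true.mp qCases_ok _ he
  have he0 := he
  simp only [qCaseOK, Bool.and_eq_true, Nat.blt_eq] at h
  obtain ⟨⟨⟨⟨⟨⟨⟨-, hdv⟩, hcva⟩, hvd⟩, hvaz⟩, hzi⟩, hqz⟩, hqq⟩ := h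
  obtain ⟨c5, c6, c7, c8, c9, c11, haa, hbb, hab, haq, hbq, hzq, hza, hzb, hae, he5, he1, ha1, hai,
    hb1, hba, hq1, hq3, haW, haWe, hqW, hqWe, heb, hr10, har, hbr, hrq, hrz, hF, hgu, hg0, hg1, hxa,
    hx2, hwb, hq2, lza, lzt, hzae, hzte, hlz, hlq, hmove⟩ := base_facts
  obtain ⟨-, hr3, -, hzz, hz1, hzA, hzi', hzia, hlist⟩ := extra_facts
  obtain ⟨hw3, hw4, hw6, hwsq⟩ := zq_facts
  have gv := good_yW hn
  have d0l : d0Idx < 30720 := by decide
  have hTd0 : KT F (yP d0Idx) := by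
    have h := (eqW_iff gv (good_append (good_append (good_winv hdv) (good_yW d0l)) (good_lets hdv))).mp hvd
    rw [AW_append, AW_append, AW_winv hdv] at h
    rw [← kt_conj (AW dv), yP, ← h]
    exact hTv
  have hTz : ¬ KT F pz := by
    have h := (eqW_iff (good_append gv (good_cons (by norm_num) good_nil))
      (good_append (good_winv hcva) (good_cons (by norm_num) (good_lets hcva)))).mp hvaz
    rw [AW_append, AW_append, AW_winv hcva, AW_cons 4 cva, ← mul_assoc] at h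
    intro hh
    refine hTva ?_
    show KT F (AW (yW n') * AW [5])
    rw [h]
    exact (kt_conj (AW cva) pz).mpr hh
  obtain ⟨k, hk, hkz, -, j0, hcase⟩ := hγ.image_z gv hv hzi
  obtain ⟨-, hyes⟩ | ⟨hmem, -⟩ := hcase
  · exact hTz hyes
  simp only [List.all_eq_true, Bool.or_eq_true, Bool.not_eq_true', List.any_eq_true] at hqz hqq
  rcases hqz _ hmem with h5 | ⟨⟨k', w', my, my2, h1, wit⟩, hmem', hk'⟩
  · exact absurd h5 (by simp)
  obtain rfl : k' = k := Nat.eq_of_beq_eq_true hk'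
  have h := hqq _ hmem'
  simp only [qSubOK, Bool.and_eq_true, Nat.blt_eq, List.all_eq_true, List.mem_range, Bool.or_eq_true,
    Bool.not_eq_true', List.contains_iff_mem, List.any_eq_true] at h
  obtain ⟨⟨⟨⟨⟨⟨⟨⟨⟨⟨⟨-, hw'⟩, hmy⟩, hmy2⟩, hcc⟩, hcg⟩, hcq⟩, -⟩, hall⟩, hh1⟩, hh1v⟩,
    ⟨wi, hwi, ⟨hwiL, hwi2⟩, hwiE⟩⟩ := h
  have g1 : ∀ j, j < 47 → Good [j] := fun j hj => good_cons hj good_nil
  have gk := good_yW hk
  obtain ⟨qv, hqvd⟩ : ∃ qv, qv = substB qWord (yW n') := ⟨_, rfl⟩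
  rw [← hqvd] at hcq hall hwiE
  have gqv : Good qv := hqvd ▸ good_substB hqW gv
  obtain ⟨gq, hgqd⟩ : ∃ gq, gq = yW k' ++ qv := ⟨_, rfl⟩
  rw [← hgqd] at hall hwiE
  have hgqd' : gq = yW k' ++ substB qWord (yW n') := by rw [hgqd, hqvd]
  have ggq : Good gq := hgqd ▸ good_append gk gqv
  have hq' : F.j (AW qv) = γ * F.j pq * γ⁻¹ := by
    rw [hqvd, AW_substB hqW, ← yP, hγ.toKPre.image_word hv, ← AW_evEB hqW, hqWe]
  obtain ⟨C, hC⟩ : ∃ C, C = AW (yW my ++ w') := ⟨_, rfl⟩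
  have gc : Good (yW my ++ w') := good_append (good_yW hmy) (good_lets hw')
  have gc' : Good (winv w' ++ yW my2) := good_append (good_winv hw') (good_yW hmy2)
  have hC' : AW (winv w' ++ yW my2) = C⁻¹ := by
    have h := (eqW_iff (good_append gc gc') good_nil).mp hcc
    rw [AW_append, AW_nil, ← hC] at h
    exact (inv_eq_of_mul_eq_one_right h).symm
  have hg : yP k' = C⁻¹ * (pa * iP) * C := by
    have h := (eqW_iff (good_append gc gk)
      (good_append (good_cons (by norm_num) (good_cons (by norm_num) (g1 0 (by norm_num)))) gc)).mp hcg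
    rw [AW_append (yW my ++ w'), AW_append [5, 0, 0], AW_cons 5, iP_AW, ← hC] at h
    show AW (yW k') = C⁻¹ * (AW [5] * iP) * C
    rw [mul_assoc C⁻¹, ← h, inv_mul_cancel_left]
  have hqC : AW qv = C⁻¹ * AW qStarW * C := by
    have h := (eqW_iff (good_append tab_facts.2.2.1 gc) (good_append gc gqv)).mp hcq
    rw [AW_append qStarW, AW_append (yW my ++ w'), ← hC] at h
    rw [mul_assoc, h, inv_mul_cancel_left]
  have hel : ∀ m, m < 30720 → AW (winv w' ++ yW my2 ++ yW m ++ (yW my ++ w')) = C⁻¹ * yP m * C :=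
    fun m _ => by rw [AW_append, AW_append, hC', ← hC, ← yP]
  obtain ⟨w, hwd⟩ : ∃ w, w = F.j (pz * pq) := ⟨_, rfl⟩
  have hgqw : F.j (AW gq) = γ * w * γ⁻¹ := by
    rw [hgqd, AW_append, map_mul, ← yP, hkz, hq', hwd, map_mul]; group
  have hw3' : w ^ 3 = F.j pz := by rw [hwd, ← map_pow, hw3]
  have hw4' : w ^ 4 = F.j pq := by rw [hwd, ← map_pow, hw4]
  have hw6' : w ^ 6 = 1 := by rw [hwd, ← map_pow, hw6, map_one]
  have hpw : ∀ i, w ^ i = w ^ (i % 6) := fun i => by
    conv_lhs => rw [← Nat.mod_add_div i 6, pow_add, pow_mul, hw6', one_pow, mul_one]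
  have hcj : ∀ {a b : Q}, Commute a b → Commute (γ * a * γ⁻¹) (γ * b * γ⁻¹) := fun {a b} h => by
    show γ * a * γ⁻¹ * (γ * b * γ⁻¹) = γ * b * γ⁻¹ * (γ * a * γ⁻¹)
    calc _ = γ * (a * b) * γ⁻¹ := by group
      _ = _ := by rw [h.eq]; group
  have hcj' : ∀ {x : PH} {a b : Q}, F.j x = γ * a * γ⁻¹ → ∀ {y : PH}, F.j y = γ * b * γ⁻¹ →
      Commute x y → Commute a b := fun {x a b} hx {y} hy hc => by
    have e := (hc.map F.j).eq
    rw [hx, hy] at e
    show a * b = b * a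
    calc a * b = γ⁻¹ * (γ * a * γ⁻¹ * (γ * b * γ⁻¹)) * γ := by group
      _ = _ := by rw [e]; group
  -- elements of the centraliser of `w` commuting with `a`
  have down : ∀ x, Commute x w → Commute x (F.j pa) → γ * x * γ⁻¹ ∈ F.j.range → ∃ m ∈ lList,
      F.j (AW (winv w' ++ yW my2 ++ yW m ++ (yW my ++ w'))) = γ * x * γ⁻¹ := by
    intro x hxw hxa hI
    obtain ⟨h, hh⟩ := hI
    have c1 : Commute h (yP k') := F.inj (by
      rw [map_mul, map_mul, hh, hkz, ← hw3']; exact (hcj (hxw.pow_right 3)).eq)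
    have c2 : Commute h (AW qv) := F.inj (by
      rw [map_mul, map_mul, hh, hq', ← hw4']; exact (hcj (hxw.pow_right 4)).eq)
    have back : ∀ p, Commute h (C⁻¹ * p * C) → Commute (C * h * C⁻¹) p := fun p hp => by
      show C * h * C⁻¹ * p = p * (C * h * C⁻¹)
      calc C * h * C⁻¹ * p = C * (h * (C⁻¹ * p * C)) * C⁻¹ := by group
        _ = _ := by rw [hp.eq]; group
    have d1 := back _ (hg ▸ c1)
    have d1' : Commute (C * h * C⁻¹) pa := by
      have h2 := d1.mul_right (iP_comm (C * h * C⁻¹)).symm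
      rwa [mul_assoc pa, iP_sq, mul_one] at h2
    obtain ⟨m, hm, e⟩ := exists_y d1'
    refine ⟨m, mem_lList hm (e ▸ back _ (hqC ▸ c2)), ?_⟩
    rw [hel m hm, e, ← hh]; group
  have up : ∀ m ∈ lList, ∀ x, F.j (AW (winv w' ++ yW my2 ++ yW m ++ (yW my ++ w'))) = γ * x * γ⁻¹ →
      Commute x w ∧ Commute x (F.j pa) := by
    intro m hm x hx
    obtain ⟨hm', hmq⟩ := hlist m hm
    rw [hel m hm'] at hx
    have cj : ∀ p, Commute (yP m) p → Commute (C⁻¹ * yP m * C) (C⁻¹ * p * C) := fun p hp => by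
      show C⁻¹ * yP m * C * (C⁻¹ * p * C) = C⁻¹ * p * C * (C⁻¹ * yP m * C)
      calc _ = C⁻¹ * (yP m * p) * C := by group
        _ = _ := by rw [hp.eq]; group
    refine ⟨hcj' hx hgqw ?_, hcj' hx (y := iP) (by rw [F.j_iP, hγ.a_t]) (iP_comm _).symm⟩
    rw [hgqd, AW_append, ← yP, hg, hqC]
    exact (cj _ ((yP_comm hm').mul_right (iP_comm _).symm)).mul_right (cj _ hmq)
  -- the eight elements
  have gU : ∀ u ∈ ([[], [0, 0], yW n', 0 :: 0 :: yW n', [5], [5, 0, 0], 5 :: yW n',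
      5 :: 0 :: 0 :: yW n'] : List (List ℕ)), Good u := by
    have h0 : Good [0, 0] := good_cons (by norm_num) (g1 0 (by norm_num))
    simp only [List.mem_cons, List.not_mem_nil, or_false]
    rintro u (rfl | rfl | rfl | rfl | rfl | rfl | rfl | rfl)
    exacts [good_nil, h0, gv, good_append h0 gv, g1 5 (by norm_num), good_cons (by norm_num) h0,
      good_cons (by norm_num) gv, good_cons (by norm_num) (good_append h0 gv)]
  have e00 : F.j (AW [0, 0]) = γ * F.j pa * γ⁻¹ := by rw [iP_AW, F.j_iP, hγ.a_t]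
  have e5 : F.j (AW [5]) = γ * t * γ⁻¹ := hγ.t_a.symm
  have e00v : F.j (AW (0 :: 0 :: yW n')) = γ * (F.j pa * F.j pb) * γ⁻¹ := by
    rw [show (0 :: 0 :: yW n' : List ℕ) = [0, 0] ++ yW n' from rfl, AW_append, map_mul, e00, ← yP, hv]
    group
  have e500 : F.j (AW [5, 0, 0]) = γ * (t * F.j pa) * γ⁻¹ := by
    rw [AW_cons, map_mul, e5, e00]; group
  have e5v : F.j (AW (5 :: yW n')) = γ * (t * F.j pb) * γ⁻¹ := by
    rw [AW_cons, map_mul, e5, ← yP, hv]; group
  have e500v : F.j (AW (5 :: 0 :: 0 :: yW n')) = γ * (t * (F.j pa * F.j pb)) * γ⁻¹ := by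
    rw [AW_cons, map_mul, e5, e00v]; group
  have hinE : ∀ {m : ℕ}, m < 30720 → ∀ {x : Q},
      F.j (AW (winv w' ++ yW my2 ++ yW m ++ (yW my ++ w'))) = γ * x * γ⁻¹ →
      (inE (yW n') gq (winv w' ++ yW my2 ++ yW m ++ (yW my ++ w')) = true ↔
        InE t (F.j pa) (F.j pb) w x) := by
    intro m hm x hx
    rw [inE_iff ggq (good_el hw' hmy hmy2 hm) gU]
    constructor
    · rintro ⟨u, hu, i, -, hi⟩
      have hxe : ∀ {y : Q}, F.j (AW u) = γ * y * γ⁻¹ → x = y * w ^ i := fun {y} hy => by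
        rw [hi, map_mul, map_pow, hy, hgqw, conj_pow] at hx
        calc x = γ⁻¹ * (γ * x * γ⁻¹) * γ := by group
          _ = _ := by rw [← hx]; group
      simp only [List.mem_cons, List.not_mem_nil, or_false] at hu
      rcases hu with rfl | rfl | rfl | rfl | rfl | rfl | rfl | rfl
      · exact ⟨1, Or.inl rfl, i, Or.inl (hxe (by rw [AW_nil, map_one]; group))⟩
      · exact ⟨_, Or.inr (Or.inl rfl), i, Or.inl (hxe e00)⟩
      · exact ⟨_, Or.inr (Or.inr (Or.inl rfl)), i, Or.inl (hxe hv)⟩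
      · exact ⟨_, Or.inr (Or.inr (Or.inr rfl)), i, Or.inl (hxe e00v)⟩
      · exact ⟨1, Or.inl rfl, i, Or.inr (by rw [mul_one]; exact hxe e5)⟩
      · exact ⟨_, Or.inr (Or.inl rfl), i, Or.inr (hxe e500)⟩
      · exact ⟨_, Or.inr (Or.inr (Or.inl rfl)), i, Or.inr (hxe e5v)⟩
      · exact ⟨_, Or.inr (Or.inr (Or.inr rfl)), i, Or.inr (hxe e500v)⟩
    · rintro ⟨u, hu, i, hi⟩
      have mk : ∀ (l : List ℕ) {y : Q}, F.j (AW l) = γ * y * γ⁻¹ → x = y * w ^ i →
          AW (winv w' ++ yW my2 ++ yW m ++ (yW my ++ w')) = AW l * AW gq ^ (i % 6) := fun l {y} hy hxy =>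
        F.inj (by rw [hx, map_mul, map_pow, hy, hgqw, conj_pow, ← hpw, hxy]; group)
      have h6 : i % 6 < 6 := Nat.mod_lt _ (by norm_num)
      rcases hi with hi | hi <;> rcases hu with rfl | rfl | rfl | rfl
      · exact ⟨[], by simp, _, h6, mk _ (by rw [AW_nil, map_one]; group) hi⟩
      · exact ⟨[0, 0], by simp, _, h6, mk _ e00 hi⟩
      · exact ⟨yW n', by simp, _, h6, mk _ hv hi⟩
      · exact ⟨0 :: 0 :: yW n', by simp, _, h6, mk _ e00v hi⟩
      · exact ⟨[5], by simp, _, h6, mk _ e5 (by rw [mul_one] at hi; exact hi)⟩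
      · exact ⟨[5, 0, 0], by simp, _, h6, mk _ e500 hi⟩
      · exact ⟨5 :: yW n', by simp, _, h6, mk _ e5v hi⟩
      · exact ⟨5 :: 0 :: 0 :: yW n', by simp, _, h6, mk _ e500v hi⟩
  -- conjugates of `z`
  have hnz : ∀ {l c : List ℕ}, Good l → lets c = true → eqW l (winv c ++ 4 :: c) = true →
      ¬ KT F (AW l) := fun {l c} hl hc he => by
    have h := (eqW_iff hl (good_append (good_winv hc) (good_cons (by norm_num) (good_lets hc)))).mp he
    rw [AW_append, AW_winv hc, AW_cons 4 c, ← mul_assoc] at h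
    rw [h]
    exact fun hh => hTz ((kt_conj (AW c) pz).mp hh)
  have ht1 : t ≠ 1 := fun h => ha1 (F.inj (by
    rw [map_one, ← hγ.t_a, h]; group))
  have hL : F.j pr * t = t * F.j pr := (F.commute_j pr).eq
  obtain ⟨fa, fb, fe, fr, fq, fz, fd, -⟩ := kP_facts
  -- inner and outer
  have hnout : yP n' ∉ kP := by
    have h := (eqW_iff gv (good_append (good_append (good_winv hdv) (good_yW d0l)) (good_lets hdv))).mp hvd
    rw [AW_append, AW_append, AW_winv hdv] at h
    rw [yP, h]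
    exact fun h => fd (conj_back h)
  have hgqK : AW gq ∈ kP := by
    have hqK : AW qv ∈ kP := by
      have h3 : AW qv ^ 3 = 1 := F.inj (by rw [map_pow, hq', conj_pow, ← map_pow, hq3, map_one]; group)
      have h2 := Subgroup.mul_self_mem_of_index_two index_kP (AW qv)
      have e : AW qv = AW qv * AW qv * (AW qv * AW qv) := by
        rw [show AW qv * AW qv * (AW qv * AW qv) = AW qv ^ 3 * AW qv by simp [pow_succ, mul_assoc], h3,
          one_mul]
      rw [e]; exact kP.mul_mem h2 h2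
    rw [hgqd, AW_append]
    refine kP.mul_mem ?_ hqK
    show yP k' ∈ kP
    rw [hg]
    exact conj_kP C (kP.mul_mem fa iP_kP)
  obtain ⟨κ, hκd⟩ : ∃ κ, κ = γ⁻¹ * F.k * γ := ⟨_, rfl⟩
  have hκcomm : ∀ {p : PH} {y : Q}, p ∈ kP → F.j p = γ * y * γ⁻¹ → Commute κ y := fun {p y} hp hy => by
    have e := (F.k_inner p hp).eq
    rw [hy] at e
    show κ * y = y * κ
    calc κ * y = γ⁻¹ * (F.k * (γ * y * γ⁻¹)) * γ := by rw [hκd]; group
      _ = _ := by rw [e, hκd]; group
  have hκw : Commute κ w := hκcomm hgqK hgqw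
  have hκt : Commute κ t := hκcomm fa hγ.t_a.symm
  have hκ2 : κ * κ = F.j pa := by
    calc κ * κ = γ⁻¹ * (F.k * F.k) * γ := by rw [hκd]; group
      _ = γ⁻¹ * (γ * F.j pa * γ⁻¹) * γ := by rw [F.k_sq, hγ.a_t]
      _ = _ := by group
  have hκB : κ * F.j pb * κ⁻¹ = F.j pa * F.j pb := by
    have e := F.k_conj (F.commute_j (yP n')) (fun h => hnout (F.commute_k_j.mp h))
    calc κ * F.j pb * κ⁻¹ = γ⁻¹ * (F.k * (γ * F.j pb * γ⁻¹) * F.k⁻¹) * γ := by rw [hκd]; group
      _ = γ⁻¹ * (γ * F.j pb * γ⁻¹ * (γ * F.j pa * γ⁻¹)) * γ := by rw [← hv, e, hγ.a_t]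
      _ = F.j pb * F.j pa := by group
      _ = _ := (hab.map F.j).eq.symm
  have hcomt : ∀ {x : Q}, Commute x (F.j pa) → Commute (γ * x * γ⁻¹) t := fun {x} hx =>
    Eq.mp (congrArg (Commute _) hγ.a_t) (hcj hx)
  -- the centraliser of `w`
  let H : Subgroup Q := Subgroup.centralizer ({w} : Set Q)
  have hH : ∀ x, x ∈ H ↔ Commute x w := fun x => Subgroup.mem_centralizer_singleton_iff
  have hwA : Commute (F.j pa) w := by rw [hwd]; exact (hza.symm.mul_right haq).map F.j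
  have hwB : Commute (F.j pb) w := by rw [hwd]; exact (hzb.symm.mul_right hbq).map F.j
  have hwt : Commute t w := hwd ▸ (F.commute_j _).symm
  have hwR : Commute (F.j pr) w := by rw [hwd]; exact (hrz.mul_right hrq).map F.j
  obtain ⟨t', ht'⟩ : ∃ x : ↥H, (x : Q) = t := ⟨⟨t, (hH _).mpr hwt⟩, rfl⟩
  obtain ⟨A', hA'⟩ : ∃ x : ↥H, (x : Q) = F.j pa := ⟨⟨_, (hH _).mpr hwA⟩, rfl⟩
  obtain ⟨B', hB'⟩ : ∃ x : ↥H, (x : Q) = F.j pb := ⟨⟨_, (hH _).mpr hwB⟩, rfl⟩
  obtain ⟨w₁, hw₁⟩ : ∃ x : ↥H, (x : Q) = w := ⟨⟨w, (hH _).mpr (Commute.refl w)⟩, rfl⟩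
  obtain ⟨R', hR'⟩ : ∃ x : ↥H, (x : Q) = F.j pr := ⟨⟨_, (hH _).mpr hwR⟩, rfl⟩
  obtain ⟨κ', hκ'⟩ : ∃ x : ↥H, (x : Q) = κ := ⟨⟨κ, (hH _).mpr hκw⟩, rfl⟩
  have hcm : ∀ (x : ↥H), Commute (x : Q) w := fun x => (hH _).mp x.2
  have he : ∀ {a b : ↥H}, (a : Q) = b → a = b := fun h => Subtype.ext h
  have hc : ∀ {a b : ↥H}, Commute (a : Q) (b : Q) → Commute a b := fun h => Subtype.ext h.eq
  have hcA : ∀ {x : ↥H}, Commute x A' → Commute (x : Q) (F.j pa) := fun {x} h => by
    have := congrArg Subtype.val h.eq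
    rwa [Subgroup.coe_mul, Subgroup.coe_mul, hA'] at this
  have hcB : ∀ {x : ↥H}, Commute x B' → Commute (x : Q) (F.j pb) := fun {x} h => by
    have := congrArg Subtype.val h.eq
    rwa [Subgroup.coe_mul, Subgroup.coe_mul, hB'] at this
  have hlift : ∀ {x : ↥H}, InE t (F.j pa) (F.j pb) w (x : Q) → InE t' A' B' w₁ x := by
    rintro x ⟨u, hu, j, hj⟩
    obtain ⟨u', hu', hu''⟩ : ∃ u' : ↥H, (u' : Q) = u ∧ (u' = 1 ∨ u' = A' ∨ u' = B' ∨ u' = A' * B') := by
      rcases hu with rfl | rfl | rfl | rfl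
      · exact ⟨1, rfl, Or.inl rfl⟩
      · exact ⟨A', hA', Or.inr (Or.inl rfl)⟩
      · exact ⟨B', hB', Or.inr (Or.inr (Or.inl rfl))⟩
      · exact ⟨A' * B', by rw [Subgroup.coe_mul, hA', hB'], Or.inr (Or.inr (Or.inr rfl))⟩
    refine ⟨u', hu'', j, ?_⟩
    rcases hj with hj | hj
    · exact Or.inl (he (by simpa [hu', hw₁] using hj))
    · exact Or.inr (he (by simpa [hu', hw₁, ht'] using hj))
  refine (KRot.false (H := ↥H) (T := fun x => IsConj t (x : Q))
    (In := fun x => γ * (x : Q) * γ⁻¹ ∈ F.j.range) (t := t') (A := A') (B := B') (w := w₁) (R := R') (κ := κ')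
    { cw := fun x => hc (by rw [hw₁]; exact hcm x)
      w6 := he (by simpa [hw₁] using hw6')
      w_sq := fun j hj h => by
        have h' : w ^ j * w ^ j = 1 := by simpa [hw₁] using congrArg Subtype.val h
        rw [hwd, ← map_pow, ← map_mul] at h'
        exact hwsq j hj (F.inj (h'.trans (map_one F.j).symm))
      z1 := fun h => hz1 (F.inj (by
        rw [map_one, ← hw3']; simpa [hw₁] using congrArg Subtype.val h))
      AA := he (by simp [hA', ← map_mul, haa])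
      BB := he (by simp [hB', ← map_mul, hbb])
      tt := he (by simp [ht', F.t_sq])
      AB := hc (by rw [hA', hB']; exact hab.map F.j)
      tA := hc (by rw [ht', hA']; exact (F.commute_j pa).symm)
      tB := hc (by rw [ht', hB']; exact (F.commute_j pb).symm)
      Rt := hc (by rw [hR', ht']; exact F.commute_j pr)
      R3 := he (by simp [hR', ← map_pow, hr3])
      rotA := he (by
        simp only [Subgroup.coe_mul, Subgroup.coe_inv, hR', hA', hB']
        rw [← map_inv, ← map_mul, ← map_mul, mul_assoc, har, inv_mul_cancel_left])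
      rotB := he (by
        simp only [Subgroup.coe_mul, Subgroup.coe_inv, hR', hA', hB']
        rw [← map_inv, ← map_mul, ← map_mul, ← map_mul, mul_assoc, hbr, inv_mul_cancel_left])
      T_conj := fun g x hx => hx.trans (isConj_iff.mpr ⟨g, rfl⟩)
      T_sq := fun x hx => he (by
        obtain ⟨g, hg⟩ := isConj_iff.mp hx
        rw [Subgroup.coe_mul, Subgroup.coe_one, ← hg,
          show g * t * g⁻¹ * (g * t * g⁻¹) = g * (t * t) * g⁻¹ by group, F.t_sq]
        group)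
      T_one := fun h => F.t_ne (isConj_one_left.mp h)
      T_z := ?_
      T_t := by rw [ht']
      T_A := by rw [hA']; exact hγ.toKPre.tt_pa
      T_Az := ?_
      T_tz := ?_
      T_tA := ?_
      t1 := fun h => F.t_ne (ht'.symm.trans (congrArg Subtype.val h))
      tz := fun h => hzi' (F.inj (by
        rw [← hw3', F.j_iP]
        have h' := congrArg Subtype.val h
        simp only [ht', Subgroup.coe_pow, hw₁] at h'
        exact h'.symm))
      A1 := fun h => ha1 (F.inj ((hA'.symm.trans (congrArg Subtype.val h)).trans (map_one F.j).symm))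
      Az := fun h => hzA (F.inj (by
        rw [← hw3']
        have h' := congrArg Subtype.val h
        simp only [hA', Subgroup.coe_pow, hw₁] at h'
        exact h'.symm))
      BA := fun h => hba (F.inj (hB'.symm.trans ((congrArg Subtype.val h).trans hA')))
      κ_sq := he (by rw [Subgroup.coe_mul, hκ', hA']; exact hκ2)
      κt := hc (by rw [hκ', ht']; exact hκt)
      κB := he (by simp only [Subgroup.coe_mul, Subgroup.coe_inv, hκ', hA', hB']; exact hκB)
      In_mul := fun x y hx hy => by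
        show γ * ((x * y : ↥H) : Q) * γ⁻¹ ∈ F.j.range ↔ _
        rw [show γ * ((x * y : ↥H) : Q) * γ⁻¹ = γ * (x : Q) * γ⁻¹ * (γ * (y : Q) * γ⁻¹) by
          rw [Subgroup.coe_mul]; group]
        exact F.mul_range (hcomt (hcA hx)) (hcomt (hcA hy))
      In_κ := fun h => F.k_not_range (by
        simpa [hκ', hκd, mul_assoc] using h)
      outerT := ?_
      move := ?_
      moves := ?_
      cent := ?_
      kinds := ?_
      kern := ?_
      other := ?_
      out := ?_ }).elim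
  · show ¬ IsConj t ((w₁ ^ 3 : ↥H) : Q)
    rw [Subgroup.coe_pow, hw₁, hw3']
    exact hTz
  · show IsConj t ((A' * w₁ ^ 3 : ↥H) : Q)
    rw [Subgroup.coe_mul, Subgroup.coe_pow, hA', hw₁, hw3', ← map_mul, ← hza.eq, hzae]
    exact (kt_conj (AW zaW) (yP d0Idx)).mpr hTd0
  · show ¬ IsConj t ((t' * w₁ ^ 3 : ↥H) : Q)
    rw [Subgroup.coe_mul, Subgroup.coe_pow, ht', hw₁, hw3', show t * F.j pz = F.j (iP * pz) by rw [map_mul, F.j_iP], iP_comm, hzte]
    exact fun hh => hTz ((kt_conj (AW ztW) pz).mp hh)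
  · show ¬ IsConj t ((t' * A' : ↥H) : Q)
    rw [Subgroup.coe_mul, ht', hA', (F.commute_j pa).symm.eq, show F.j pa * t = F.j (pa * iP) by rw [map_mul, F.j_iP]]
    exact not_kt_pa_iP
  · intro x hxA hT
    show γ * (x : Q) * γ⁻¹ ∈ F.j.range
    by_contra hI
    have hut := hcomt (hcA hxA)
    have hTu : IsConj t (γ * (x : Q) * γ⁻¹) := hT.trans (isConj_iff.mpr ⟨γ, rfl⟩)
    obtain ⟨h, hh | hh⟩ := F.cent _ hut
    · exact hI ⟨h, hh.symm⟩
    rw [hh] at hut hTu hI
    have hhK : h ∉ kP := fun hK => hI (by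
      obtain ⟨q, -, e⟩ := F.mem_of_T_inner hTu hut (F.commute_k_jk.mpr hK)
      exact ⟨q, e⟩)
    have kmv : ∀ {p : PH}, p ∉ kP → F.k * F.j p = F.j (p * iP) * F.k := fun {p} hp =>
      (F.k_move p).resolve_left fun e => hp (F.commute_k_j.mp (show Commute _ _ from e.symm))
    have hh2 : h * h = 1 := by
      obtain ⟨g, hg⟩ := isConj_iff.mp hTu
      have h1 : F.j h * F.k * (F.j h * F.k) = 1 := by
        rw [← hg, show g * t * g⁻¹ * (g * t * g⁻¹) = g * (t * t) * g⁻¹ by group, F.t_sq]; group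
      rw [mul_assoc (F.j h), ← mul_assoc F.k, kmv hhK] at h1
      simp only [map_mul, mul_assoc, F.k_sq, F.j_iP, F.t_sq, mul_one] at h1
      exact F.inj (by rw [map_mul, map_one]; exact h1)
    obtain ⟨c, hc'⟩ := exists_anti hhK hh2
    obtain ⟨x0, hx0⟩ : ∃ x0, c⁻¹ * yP d0Idx * c = x0 := ⟨_, rfl⟩
    rw [hx0] at hc'
    have hx0K : x0 ∉ kP := fun h' => fd (conj_back (hx0 ▸ h'))
    have e1 : F.j h * F.k * F.j x0 = F.j (h * x0 * iP) * F.k := by
      rw [mul_assoc, kmv hx0K, ← mul_assoc, ← map_mul, mul_assoc h x0 iP]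
    refine F.two_compl (x := F.j x0) (y := F.j h * F.k) (F.commute_j x0) hut
      (fun e => hx0K (F.commute_k_j.mp e)) ?_ ?_ ?_ ?_ hTu
    · show F.j x0 * (F.j h * F.k) = F.j h * F.k * F.j x0
      rw [e1, ← mul_assoc, ← map_mul, hc']
    · rw [e1]
      exact F.commute_k_jk.mpr (kP.mul_mem
        ((Subgroup.mul_mem_iff_of_index_two index_kP).mpr (iff_of_false hhK hx0K)) iP_kP)
    · rw [e1]; exact F.j_mul_k_ne _
    · rw [← hx0]; exact (kt_conj c (yP d0Idx)).mpr hTd0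
  · intro x hxA hI
    obtain ⟨m, hm, hx⟩ := down (x : Q) (hcm x) (hcA hxA) hI
    have hm' := (hlist m hm).1
    have ge := good_el hw' hmy hmy2 hm'
    rcases (hall m hm).1.1 with hh | hh
    · have e := hcj' hx hv ((commW_iff ge gv).mp hh)
      refine Or.inl (he ?_)
      simp only [Subgroup.coe_mul, Subgroup.coe_inv, hB']
      rw [e.eq, mul_inv_cancel_right]
    · have e := congrArg F.j ((eqW_iff (good_append ge gv) (good_append (good_append gv gk) ge)).mp hh)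
      rw [AW_append _ (yW n'), AW_append (yW n' ++ yW k'), AW_append (yW n'), map_mul, map_mul, map_mul,
        hx, ← yP, ← yP, hv, hkz, ← hw3'] at e
      refine Or.inr (he ?_)
      simp only [Subgroup.coe_mul, Subgroup.coe_inv, Subgroup.coe_pow, hB', hw₁]
      calc (x : Q) * F.j pb * (x : Q)⁻¹ = γ⁻¹ * (γ * x * γ⁻¹ * (γ * F.j pb * γ⁻¹)) * γ * (x : Q)⁻¹ := by group
        _ = _ := by rw [e]; group
  · have hm' := (hlist _ hh1).1
    have ge := good_el hw' hmy hmy2 hm'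
    obtain ⟨x, hx⟩ : ∃ x, F.j (AW (winv w' ++ yW my2 ++ yW h1 ++ (yW my ++ w'))) = γ * x * γ⁻¹ :=
      ⟨γ⁻¹ * F.j (AW (winv w' ++ yW my2 ++ yW h1 ++ (yW my ++ w'))) * γ, by group⟩
    obtain ⟨hxw, hxa⟩ := up h1 hh1 x hx
    refine ⟨⟨x, (hH x).mpr hxw⟩, hc (by rw [hA']; exact hxa), ⟨_, hx⟩, fun e => (commW_not ge gv).mp hh1v (F.inj ?_)⟩
    have e' : x * F.j pb * x⁻¹ = F.j pb := by simpa [hB'] using congrArg Subtype.val e
    rw [map_mul, map_mul, ← yP, hx, hv]
    calc γ * x * γ⁻¹ * (γ * F.j pb * γ⁻¹) = γ * (x * F.j pb * x⁻¹) * x * γ⁻¹ := by group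
      _ = _ := by rw [e']; group
  · intro x hxA hI i hi
    have hi' : (x : Q) * t = t * w ^ i * x := by simpa [ht', hw₁] using congrArg Subtype.val hi
    obtain ⟨m, hm, hx⟩ := down (x : Q) (hcm x) (hcA hxA) hI
    have hm' := (hlist m hm).1
    have ge := good_el hw' hmy hmy2 hm'
    refine hlift ((hinE hm' hx).mp (((hall m hm).1.2 (i % 6) (Nat.mod_lt _ (by norm_num))).resolve_left ?_))
    intro hne
    refine (eqW_not (good_append ge (g1 5 (by norm_num)))
      (good_append (good_cons (by norm_num) (good_powW ggq (i % 6))) ge)).mp hne (F.inj ?_)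
    rw [AW_append _ [5], AW_append (5 :: powW gq (i % 6)), AW_cons 5 (powW gq (i % 6)), AW_powW,
      map_mul, map_mul, map_mul, map_pow, hx, e5, hgqw, conj_pow, ← hpw]
    calc γ * x * γ⁻¹ * (γ * t * γ⁻¹) = γ * ((x : Q) * t) * γ⁻¹ := by group
      _ = _ := by rw [hi']; group
  · intro x hxA hI hxx hT
    have hxx' : (x : Q) * x = 1 := by simpa using congrArg Subtype.val hxx
    obtain ⟨m, hm, hx⟩ := down (x : Q) (hcm x) (hcA hxA) hI
    have hm' := (hlist m hm).1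
    have ge := good_el hw' hmy hmy2 hm'
    refine hlift ((hinE hm' hx).mp ?_)
    rcases (hall m hm).2 with (hh | hh) | ⟨⟨i, wc⟩, -, ⟨-, hwc⟩, he'⟩
    · exfalso
      refine (eqW_not (good_append ge ge) good_nil).mp hh (F.inj ?_)
      rw [AW_append, map_mul, hx, AW_nil, map_one]
      calc γ * x * γ⁻¹ * (γ * x * γ⁻¹) = γ * ((x : Q) * x) * γ⁻¹ := by group
        _ = 1 := by rw [hxx']; group
    · exact hh
    · exfalso
      refine hnz ge hwc he' ?_
      show IsConj t (F.j _)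
      rw [hx]
      exact hT.trans (isConj_iff.mpr ⟨γ, rfl⟩)
  · intro x hxA hI hxB
    obtain ⟨m, hm, hx⟩ := down (x : Q) (hcm x) (hcA hxA) hI
    have hm' := (hlist m hm).1
    have ge := good_el hw' hmy hmy2 hm'
    have hk := List.all_eq_true.mp kern_ok _ he0
    simp only [List.all_eq_true, Bool.or_eq_true, Bool.not_eq_true'] at hk
    have hk' := hk _ hmem' m hm
    rw [← hgqd'] at hk'
    refine hlift ((hinE hm' hx).mp (hk'.resolve_left fun hne => (commW_not ge gv).mp hne (F.inj ?_)))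
    rw [map_mul, map_mul, ← yP, hx, hv]
    exact (hcj (hcB hxB)).eq
  · have hm' := (hlist _ hwiL).1
    have ge := good_el hw' hmy hmy2 hm'
    obtain ⟨x, hx⟩ : ∃ x, F.j (AW (winv w' ++ yW my2 ++ yW wi.1 ++ (yW my ++ w'))) = γ * x * γ⁻¹ :=
      ⟨γ⁻¹ * F.j (AW (winv w' ++ yW my2 ++ yW wi.1 ++ (yW my ++ w'))) * γ, by group⟩
    obtain ⟨hxw, hxa⟩ := up _ hwiL x hx
    refine ⟨⟨x, (hH x).mpr hxw⟩, hc (by rw [hA']; exact hxa), ⟨_, hx⟩, he ?_, fun h => ?_⟩
    · have e := congrArg F.j ((eqW_iff (good_append ge ge) good_nil).mp hwi2)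
      rw [AW_append, map_mul, hx, AW_nil, map_one] at e
      show x * x = 1
      calc x * x = γ⁻¹ * (γ * x * γ⁻¹ * (γ * x * γ⁻¹)) * γ := by group
        _ = 1 := by rw [e]; group
    · have h' : InE t (F.j pa) (F.j pb) w x := by
        obtain ⟨u, hu, j, hj⟩ := h
        refine ⟨(u : Q), ?_, j, ?_⟩
        · rcases hu with rfl | rfl | rfl | rfl
          exacts [Or.inl rfl, Or.inr (Or.inl hA'), Or.inr (Or.inr (Or.inl hB')),
            Or.inr (Or.inr (Or.inr (by rw [Subgroup.coe_mul, hA', hB'])))]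
        · rcases hj with hj | hj
          · exact Or.inl (by simpa [hw₁] using congrArg Subtype.val hj)
          · exact Or.inr (by simpa [hw₁, ht'] using congrArg Subtype.val hj)
      rw [(hinE hm' hx).mpr h'] at hwiE
      exact Bool.noConfusion hwiE
  · refine ⟨⟨F.j (AW [46]), (hH _).mpr (by rw [hwd]; exact (hlz.mul_right hlq).map F.j)⟩,
      hc (by rw [ht']; exact F.commute_j _), fun u hu i e => ?_⟩
    obtain ⟨p, hp, hpu⟩ : ∃ p ∈ [1, pa, pb, pa * pb], F.j p = (u : Q) := by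
      rcases hu with rfl | rfl | rfl | rfl
      exacts [⟨1, by simp, map_one _⟩, ⟨pa, by simp, hA'.symm⟩, ⟨pb, by simp, hB'.symm⟩,
        ⟨pa * pb, by simp, by rw [map_mul, Subgroup.coe_mul, hA', hB']⟩]
    have e' : F.j (AW [46]) * F.j pa * (F.j (AW [46]))⁻¹ = (u : Q) * w ^ i := by
      simpa [hA', hw₁] using congrArg Subtype.val e
    refine hmove p hp (i % 6) (Nat.mod_lt _ (by norm_num)) (F.inj ?_)
    rw [map_mul, map_mul, map_mul, map_pow, hpu, ← hwd, ← hpw, ← e']; group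

end CfsgLib.HNStd
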