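import Cfsg.Agent.Lib.HNStd.KFiveP
import Cfsg.Agent.Lib.HNStd.KFiveQ
import Cfsg.Agent.Lib.HNType.TwoB.Model

/-!
With a root of the central involution the quotient holds a copy of HN normalised by the root.
-/

set_option autoImplicit false
set_option maxRecDepth 100000
set_option maxHeartbeats 1600000

namespace CfsgLib.HNStd

open CfsgLib.CosetEnum CfsgLib.DCoset CfsgLib.HN CfsgLib.HNType CfsgLib.HNType.Five
open CfsgLib.HNType.TwoB

attribute [local irreducible] toP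

theorem w0_mem_kP : wordP w0 ∈ kP := by
  have h := el690_kP
  rw [el690_eq] at h
  have := (conj_mem_kP (wordP u690)⁻¹).mp (by rwa [inv_inv])
  exact this

/-- the involutions of HN -/
theorem kinds_of_HN {y : HNG} (hy : y * y = 1) (hy1 : y ≠ 1) : TH y ∨ CH y := by
  haveI := finite_G
  haveI := isSimple_G
  have hmem : ∀ h : ↥subH, (h : HNG) ∈ Subgroup.centralizer ({gi} : Set HNG) := fun h => by
    refine Subgroup.mem_centralizer_singleton_iff.mpr ?_
    have e : toP (h * ⟨gi, gi_mem⟩) = toP (⟨gi, gi_mem⟩ * h) := by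
      rw [map_mul, map_mul, toP_gi_eq, iP_comm]
    exact congrArg Subtype.val (toP_injective e)
  let χ : Chart (gi : HNG) :=
    ⟨(MulEquiv.ofBijective toP ⟨toP_injective, toP_surjective⟩).symm.trans
      (MulEquiv.ofBijective ((subH.subtype).codRestrict _ hmem)
        ⟨fun a b h => Subtype.ext (congrArg Subtype.val h :), fun c =>
          ⟨⟨c.1, mem_subH_of_gi (Subgroup.mem_centralizer_singleton_iff.mp c.2)⟩, rfl⟩⟩), by
      show ((((MulEquiv.ofBijective toP ⟨toP_injective, toP_surjective⟩).symm iP : ↥subH)) : HNG) = gi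
      have e : (MulEquiv.ofBijective toP ⟨toP_injective, toP_surjective⟩).symm iP = ⟨gi, gi_mem⟩ :=
        (MulEquiv.symm_apply_eq _).mpr toP_gi_eq.symm
      rw [e]⟩
  have ht : orderOf (gi : HNG) = 2 := CfsgLib.Invol.orderOf_two_of_mul_self gi_sq gi_ne_one
  obtain ⟨E⟩ := exists_emb ht χ
  exact kinds_HN (E.M0_eq_top ht) hy hy1

variable {Q : Type*} [Group Q] {t : Q}

/-- the copy of HN and its properties -/
theorem exists_kcopy [Finite Q] (F : KF t) :
    ∃ Hb : Subgroup Q, F.k ∉ Hb ∧ (∀ q ∈ Hb, F.k * q * F.k⁻¹ ∈ Hb) ∧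
      (∀ p ∈ kP, F.j p ∈ Hb) ∧
      (∀ u, Commute u t → u ∈ Hb ∨ u * F.k ∈ Hb) ∧
      ∀ y ∈ Hb, y * y = 1 → y ≠ 1 →
        (∃ b ∈ Hb, b * y * b⁻¹ = t) ∨ ∃ b ∈ Hb, b * y * b⁻¹ = F.j (el 690) := by
  obtain ⟨F', hk, hj, γ, hγ⟩ := exists_KS F
  obtain ⟨fa, fb, -⟩ := kP_facts
  obtain ⟨n, hn, hv, hTv, hTva, hcase⟩ :=
    hγ.toKPre.image_b (hγ.tr pb base_facts.2.2.2.2.2.2.2.2.1.symm)
  obtain ⟨e, he, hen⟩ : ∃ e ∈ pCases, e.1 = n :=
    hcase.resolve_right fun ⟨e, he, hen⟩ => hγ.second_branch_absurd hn hv hTv hTva he hen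
  obtain ⟨s, h5, hx, hy, hz, m, hkm⟩ := hγ.first_branch hn hv hTv hTva he hen
  rw [← toP_hX] at hx
  rw [← toP_hY] at hy
  rw [show pz = toP hZ from toP_hZ.symm] at hz
  obtain ⟨Φ, hΦ, hc, hgt⟩ :=
    exists_embedding (F'.j.comp toP) (F'.inj.comp toP_injective) s h5 hx hy hz
  have hjmem : ∀ p, F'.j p ∈ Φ.range := fun p => by
    obtain ⟨h, rfl⟩ := toP_surjective p
    exact ⟨h, hc h⟩
  have hkj : ∀ p, F'.k * F'.j p * F'.k⁻¹ ∈ Φ.range := fun p => by
    rcases F'.k_move p with e | e <;> rw [e, mul_inv_cancel_right] <;> exact hjmem _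
  have hgen : ∀ x : HNG, F'.k * Φ x * F'.k⁻¹ ∈ Φ.range := by
    let S : Subgroup HNG := Φ.range.comap ((MulAut.conj F'.k).toMonoidHom.comp Φ)
    suffices hS : S = ⊤ from fun x => (hS ▸ Subgroup.mem_top x : x ∈ S)
    rw [eq_top_iff]
    refine le_of_eq_of_le (PresentedGroup.closure_range_of _).symm ((Subgroup.closure_le _).mpr ?_)
    rintro _ ⟨g, rfl⟩
    show F'.k * Φ (PresentedGroup.of g) * F'.k⁻¹ ∈ Φ.range
    cases g with
    | x => rw [show Φ (PresentedGroup.of _) = _ from hc hX]; exact hkj _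
    | y => rw [show Φ (PresentedGroup.of _) = _ from hc hY]; exact hkj _
    | z => rw [show Φ (PresentedGroup.of _) = _ from hc hZ]; exact hkj _
    | t => rw [show Φ (PresentedGroup.of _) = s from hgt, hkm]; exact Φ.range.pow_mem ⟨gt, hgt⟩ m
  have hknot : F'.k ∉ Φ.range := by
    rintro ⟨x, hxk⟩
    have hgi : Φ gi = t := by
      refine (hc ⟨gi, gi_mem⟩).trans ?_
      show F'.j (toP ⟨gi, gi_mem⟩) = t
      rw [toP_gi_eq, F'.j_iP]
    have hcom : Commute x gi := hΦ (by rw [map_mul, map_mul, hxk, hgi]; exact F'.commute_k.eq)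
    refine F'.k_not_range ⟨toP ⟨x, mem_subH_of_gi hcom⟩, ?_⟩
    rw [← hxk]
    exact (hc _).symm
  refine ⟨Φ.range, hk ▸ hknot, ?_, ?_, ?_, ?_⟩
  · rintro _ ⟨x, rfl⟩
    rw [← hk]
    exact hgen x
  · intro p hp
    rw [← hj p hp]
    exact hjmem p
  · intro u hu
    rw [← hk]
    obtain ⟨p, rfl | rfl⟩ := F'.cent u hu
    · exact Or.inl (hjmem p)
    · refine Or.inr ?_
      rw [mul_assoc, F'.k_sq]
      exact Φ.range.mul_mem (hjmem p) (F'.j_iP ▸ hjmem iP)
  · rintro _ ⟨y, rfl⟩ hy hy1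
    have hy2 : y * y = 1 := hΦ (by rw [map_mul, map_one]; exact hy)
    rcases kinds_of_HN hy2 (fun e => hy1 (by rw [e, map_one])) with h | h
    · obtain ⟨g, hg⟩ := isConj_iff.mp (show IsConj y gi from h)
      refine Or.inl ⟨Φ g, ⟨g, rfl⟩, ?_⟩
      rw [← map_inv, ← map_mul, ← map_mul, hg]
      refine (hc ⟨gi, gi_mem⟩).trans ?_
      show F'.j (toP ⟨gi, gi_mem⟩) = t
      rw [toP_gi_eq, F'.j_iP]
    · obtain ⟨g, hg⟩ := isConj_iff.mp (show IsConj y za from h)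
      refine Or.inr ⟨(F'.j (wordP u690))⁻¹ * Φ g, Φ.range.mul_mem (Φ.range.inv_mem (hjmem _)) ⟨g, rfl⟩, ?_⟩
      have hza : Φ za = F'.j (wordP w0) := by
        refine (hc ⟨za, za_mem⟩).trans ?_
        show F'.j (toP ⟨za, za_mem⟩) = _
        rw [toP_za]
      calc (F'.j (wordP u690))⁻¹ * Φ g * Φ y * ((F'.j (wordP u690))⁻¹ * Φ g)⁻¹
          = (F'.j (wordP u690))⁻¹ * (Φ g * Φ y * (Φ g)⁻¹) * F'.j (wordP u690) := by group
        _ = F'.j (el 690) := by
          rw [← map_inv Φ, ← map_mul, ← map_mul, hg, hza, el690_eq, map_mul, map_mul, map_inv]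
        _ = _ := hj _ el690_kP

end CfsgLib.HNStd
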