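import Cfsg.Agent.Lib.HNStd.Words

/-!
A standard double cover of the Higman-Sims group: data on the centraliser of an involution.
-/

set_option autoImplicit false
set_option linter.style.longLine false

namespace CfsgLib.HNStd

/-- inner atoms as products of conjugates of `e` and `b` -/
def genIn : List (ℕ × List (ℕ × ℕ)) := [
  (13, [(6, 8), (2, 8), (12, 8)]),
  (15, [(4, 8), (5, 8), (7, 6)]),
  (16, []),
  (18, [(4, 6), (3, 6)]),
  (19, [(0, 8)]),
  (21, [(0, 8), (11, 8), (0, 6), (13, 8)]),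
  (22, [(4, 8), (10, 6), (3, 6)]),
  (23, [(4, 6), (5, 8), (12, 6)]),
  (24, [(0, 8), (8, 6), (7, 6), (1, 8)]),
  (25, [(5, 6), (5, 8), (12, 8)]),
  (26, [(1, 8), (9, 8), (0, 8)]),
  (29, [(0, 6), (7, 6), (13, 6), (8, 8)])]

/-- outer atoms times atom 12 as such products -/
def genOut : List (ℕ × List (ℕ × ℕ)) := [
  (12, []),
  (14, [(0, 6), (4, 6), (7, 8), (9, 6)]),
  (17, [(0, 6), (4, 8), (8, 8), (7, 8)]),
  (20, [(0, 6), (14, 8), (12, 6)]),
  (27, [(1, 8), (1, 8), (10, 8), (4, 8)]),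
  (28, [(1, 8), (9, 6), (6, 6)]),
  (30, [(1, 8), (6, 6), (12, 6)])]

/-- for the two classes of outer involutions, the conjugator to an element anticommuting with one -/
def antiData : List (ℕ × List ℕ) := [(1, [2, 4]), (101, [3, 0, 4, 2, 2, 2, 0, 3, 0])]

end CfsgLib.HNStd
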