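import Mathlib.GroupTheory.Transfer
import Mathlib.GroupTheory.Subgroup.Simple

/-!
A transfer from a subgroup to a group of order two: an element of order four with a single fixed
coset, centralised by a quaternion group, has non-trivial transfer.
-/

set_option autoImplicit false

namespace CfsgLib.HNStd

open MulAction

section

variable {G : Type*} [Group G] (M2 : Subgroup G) (k : G)

/-- the orbits of `k` on the cosets -/
abbrev KOrb := Quotient (orbitRel (Subgroup.zpowers k) (G ⧸ M2))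

/-- the orbit of the coset of `h` -/
def korb (h : G) : KOrb M2 k := Quotient.mk'' (h : G ⧸ M2)

theorem korb_surj (q : KOrb M2 k) : korb M2 k q.out.out = q := by
  rw [korb, QuotientGroup.out_eq', Quotient.out_eq']

theorem korb_eq {h h' : G} : korb M2 k h' = korb M2 k h ↔
    ∃ m : ℤ, (h' : G ⧸ M2) = ((k ^ m * h : G) : G ⧸ M2) := by
  constructor
  · intro e
    obtain ⟨⟨y, hy⟩, ey⟩ := mem_orbit_iff.mp (orbitRel_apply.mp (Quotient.exact' e))
    obtain ⟨m, rfl⟩ := Subgroup.mem_zpowers_iff.mp hy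
    exact ⟨m, ey.symm⟩
  · rintro ⟨m, e⟩
    exact Quotient.sound' (orbitRel_apply.mpr (mem_orbit_iff.mpr
      ⟨⟨k ^ m, Subgroup.mem_zpowers_iff.mpr ⟨m, rfl⟩⟩, e.symm⟩))

/-- an element commuting with `k` acts on the orbits -/
def kAct {a : G} (hak : Commute a k) : KOrb M2 k → KOrb M2 k :=
  Quotient.map' (fun c => a • c) fun x y h => by
    obtain ⟨⟨g, hg⟩, e⟩ := mem_orbit_iff.mp (orbitRel_apply.mp h)
    refine orbitRel_apply.mpr (mem_orbit_iff.mpr ⟨⟨g, hg⟩, ?_⟩)
    obtain ⟨m, rfl⟩ := Subgroup.mem_zpowers_iff.mp hg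
    show k ^ m • a • y = a • x
    rw [← e, ← mul_smul, ← (hak.zpow_right m).eq, mul_smul]
    rfl

theorem kAct_korb {a : G} (hak : Commute a k) (h : G) : kAct M2 k hak (korb M2 k h) = korb M2 k (a * h) :=
  rfl

end

/-- the transfer of `k` is not trivial, so the group is not simple -/
theorem transfer_contra {G : Type*} [Group G] [Finite G] [IsSimpleGroup G] (hG : ¬ IsMulCommutative G)
    (M2 : Subgroup G) (χ : ↥M2 →* ℤˣ) {z k a b : G} (hk : k * k = z) (hz : z * z = 1) (hkM : k ∈ M2)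
    (hχk : χ ⟨k, hkM⟩ = -1) (haM : a ∈ M2) (hbM : b ∈ M2) (ha : a * a = z) (hb : b * b = z)
    (hab : a * b * (a * b) = z) (hak : Commute a k) (hbk : Commute b k)
    (fixed : ∀ h : G, h⁻¹ * k * h ∈ M2 → h ∈ M2) : False := by
  classical
  obtain ⟨V, hV⟩ : ∃ V : G →* ℤˣ, V = MonoidHom.transfer χ := ⟨_, rfl⟩
  have hV1 : V k = 1 := by
    rcases V.normal_ker.eq_bot_or_eq_top with h | h
    · exact absurd (⟨⟨fun x y => (MonoidHom.ker_eq_bot_iff V).mp h
        (by rw [map_mul, map_mul, mul_comm])⟩⟩ : IsMulCommutative G) hG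
    · exact MonoidHom.mem_ker.mp (h ▸ Subgroup.mem_top k)
  letI := Fintype.ofFinite (KOrb M2 k)
  rw [hV, MonoidHom.transfer_eq_prod_quotient_orbitRel_zpowers_quot] at hV1
  obtain ⟨f, hf⟩ : ∃ f : KOrb M2 k → ℤˣ, ∀ q, f q =
      χ ⟨q.out.out⁻¹ * k ^ Function.minimalPeriod (k • ·) q.out * q.out.out,
        QuotientGroup.out_conj_pow_minimalPeriod_mem M2 k q.out⟩ := ⟨_, fun _ => rfl⟩
  replace hV1 : ∏ q, f q = 1 := by simp only [hf]; exact hV1
  obtain ⟨q0, hq0⟩ : ∃ q0 : KOrb M2 k, q0 = korb M2 k 1 := ⟨_, rfl⟩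
  have hkz : Commute k z := hk ▸ (Commute.refl k).mul_right (Commute.refl k)
  have haz : Commute a z := ha ▸ (Commute.refl a).mul_right (Commute.refl a)
  have hbz : Commute b z := hb ▸ (Commute.refl b).mul_right (Commute.refl b)
  have h4 : k ^ 4 = 1 := by
    rw [show k ^ 4 = k * k * (k * k) by simp [pow_succ, mul_assoc], hk, hz]
  -- cosets in an orbit
  have hcos : ∀ {h h' : G}, korb M2 k h' = korb M2 k h → ∃ (m : ℤ) (u : G), u ∈ M2 ∧ h' = k ^ m * h * u := by
    intro h h' e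
    obtain ⟨m, em⟩ := (korb_eq M2 k).mp e
    exact ⟨m, (k ^ m * h)⁻¹ * h', QuotientGroup.eq.mp em.symm, by group⟩
  have hconj : ∀ {u : G}, u ∈ M2 → ∀ x : ↥M2, ∀ h' : u⁻¹ * x * u ∈ M2, χ ⟨u⁻¹ * x * u, h'⟩ = χ x := by
    intro u hu x h'
    rw [show (⟨u⁻¹ * x * u, h'⟩ : ↥M2) = (⟨u, hu⟩ : ↥M2)⁻¹ * x * ⟨u, hu⟩ from Subtype.ext rfl,
      map_mul, map_mul, map_inv, mul_comm, ← mul_assoc, mul_inv_cancel, one_mul]
  -- the bad orbits
  obtain ⟨P, hP⟩ : ∃ P : KOrb M2 k → Prop, ∀ q, P q ↔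
      ∃ h, korb M2 k h = q ∧ ∃ m : h⁻¹ * z * h ∈ M2, χ ⟨_, m⟩ = -1 := ⟨_, fun _ => Iff.rfl⟩
  have hrep : ∀ {q : KOrb M2 k}, P q → ∀ h', korb M2 k h' = q →
      ∃ m : h'⁻¹ * z * h' ∈ M2, χ ⟨_, m⟩ = -1 := by
    intro q hq h' e'
    obtain ⟨h, e, m, hm⟩ := (hP q).mp hq
    obtain ⟨i, u, hu, rfl⟩ := hcos (e'.trans e.symm)
    have e1 : (k ^ i * h * u)⁻¹ * z * (k ^ i * h * u) = u⁻¹ * (h⁻¹ * z * h) * u := by
      rw [show (k ^ i * h * u)⁻¹ * z * (k ^ i * h * u) = u⁻¹ * (h⁻¹ * ((k ^ i)⁻¹ * (z * k ^ i)) * h) * u by group,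
        ← (hkz.zpow_left i).eq, inv_mul_cancel_left]
    have hmem : (k ^ i * h * u)⁻¹ * z * (k ^ i * h * u) ∈ M2 := by
      rw [e1]; exact M2.mul_mem (M2.mul_mem (M2.inv_mem hu) m) hu
    refine ⟨hmem, ?_⟩
    refine Eq.trans ?_ ((hconj hu ⟨_, m⟩ (e1 ▸ hmem)).trans hm)
    exact congrArg χ (Subtype.ext e1)
  have fix0 : ∀ {g : G}, g ∈ M2 → korb M2 k g = q0 := fun {g} hg => by
    rw [hq0, korb_eq]
    exact ⟨0, QuotientGroup.eq.mpr (by rw [zpow_zero, one_mul, mul_one]; exact M2.inv_mem hg)⟩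
  have hp1 : ∀ {q : KOrb M2 k}, q ≠ q0 → Function.minimalPeriod (k • ·) q.out ≠ 1 := by
    intro q hq hp
    refine hq ?_
    rw [← korb_surj M2 k q]
    refine fix0 (fixed _ ?_)
    have h2 : k • ((q.out.out : G) : G ⧸ M2) = ((q.out.out : G) : G ⧸ M2) := by
      rw [QuotientGroup.out_eq']
      exact Function.minimalPeriod_eq_one_iff_isFixedPt.mp hp
    rw [Quotient.smul_coe, smul_eq_mul, QuotientGroup.eq] at h2
    have h3 := M2.inv_mem h2
    rwa [mul_inv_rev, inv_inv, ← mul_assoc] at h3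
  have hdvd : ∀ c : G ⧸ M2, Function.minimalPeriod (k • ·) c ∣ 4 := fun c => by
    refine Function.IsPeriodicPt.minimalPeriod_dvd ?_
    show (k • ·)^[4] c = c
    rw [smul_iterate, h4]
    exact one_smul _ c
  have hfP : ∀ {q : KOrb M2 k}, q ≠ q0 → (f q = -1 ↔ P q) := by
    intro q hq
    obtain ⟨p, hp⟩ : ∃ p, Function.minimalPeriod (k • ·) q.out = p := ⟨_, rfl⟩
    have hp' : p = 2 ∨ p = 4 := by
      have h1 := hp ▸ hp1 hq
      have h2 := hp ▸ hdvd q.out
      have h3 := Nat.le_of_dvd (by norm_num) h2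
      interval_cases p <;> omega
    rcases hp' with rfl | rfl
    · have e : q.out.out⁻¹ * k ^ Function.minimalPeriod (k • ·) q.out * q.out.out =
          q.out.out⁻¹ * z * q.out.out := by rw [hp, pow_two, hk]
      have hm : q.out.out⁻¹ * z * q.out.out ∈ M2 :=
        e ▸ QuotientGroup.out_conj_pow_minimalPeriod_mem M2 k q.out
      have e' : f q = χ ⟨_, hm⟩ := (hf q).trans (congrArg χ (Subtype.ext e))
      rw [e', hP]
      refine ⟨fun h => ⟨_, korb_surj M2 k q, hm, h⟩, fun h => ?_⟩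
      obtain ⟨m', h'⟩ := hrep ((hP q).mpr h) _ (korb_surj M2 k q)
      exact h'
    · have e : f q = 1 := by
        rw [hf]
        refine (congrArg χ (Subtype.ext ?_)).trans χ.map_one
        show q.out.out⁻¹ * k ^ Function.minimalPeriod (k • ·) q.out * q.out.out = 1
        rw [hp, h4]; group
      refine iff_of_false (by rw [e]; decide) fun h => ?_
      obtain ⟨m', -⟩ := hrep h _ (korb_surj M2 k q)
      have h2 : Function.minimalPeriod (k • ·) q.out ∣ 2 := by
        refine Function.IsPeriodicPt.minimalPeriod_dvd ?_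
        show (k • ·)^[2] q.out = q.out
        rw [smul_iterate, pow_two, hk]
        show z • q.out = q.out
        rw [← QuotientGroup.out_eq' q.out, Quotient.smul_coe, smul_eq_mul, QuotientGroup.eq]
        have h3 := M2.inv_mem m'
        rwa [show (q.out.out⁻¹ * z * q.out.out)⁻¹ = (z * q.out.out)⁻¹ * q.out.out by group] at h3
      rw [hp] at h2
      exact absurd (Nat.le_of_dvd (by norm_num) h2) (by norm_num)
  -- the action
  have hPact : ∀ {c : G} (hck : Commute c k), Commute c z → ∀ {q}, P q → P (kAct M2 k hck q) := by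
    intro c hck hcz q hq
    obtain ⟨h, rfl, m, hm⟩ := (hP q).mp hq
    refine (hP _).mpr ⟨c * h, (kAct_korb M2 k hck h).symm, ?_⟩
    have e : (c * h)⁻¹ * z * (c * h) = h⁻¹ * z * h := by
      rw [show (c * h)⁻¹ * z * (c * h) = h⁻¹ * (c⁻¹ * (z * c)) * h by group, ← hcz.eq, inv_mul_cancel_left]
    refine ⟨e ▸ m, ?_⟩
    exact (congrArg χ (Subtype.ext e)).trans hm
  have hinv : ∀ {c : G} (hck : Commute c k), c * c = z → ∀ q, kAct M2 k hck (kAct M2 k hck q) = q := by
    intro c hck hc q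
    obtain ⟨h, rfl⟩ : ∃ h, korb M2 k h = q := ⟨_, korb_surj M2 k q⟩
    rw [kAct_korb, kAct_korb, korb_eq]
    exact ⟨2, by rw [← mul_assoc, hc, zpow_two, hk]⟩
  have hcomm : ∀ q, kAct M2 k hak (kAct M2 k hbk q) = kAct M2 k hbk (kAct M2 k hak q) := by
    intro q
    obtain ⟨h, rfl⟩ : ∃ h, korb M2 k h = q := ⟨_, korb_surj M2 k q⟩
    rw [kAct_korb, kAct_korb, kAct_korb, kAct_korb, korb_eq]
    refine ⟨2, ?_⟩
    have hba : b * a = z * (a * b) := by
      have e : b * a = a⁻¹ * z * b⁻¹ := by rw [← hab]; group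
      have ia : a⁻¹ = z * a := by
        refine inv_eq_of_mul_eq_one_right ?_
        rw [← mul_assoc, haz.eq, mul_assoc, ha, hz]
      have ib : b⁻¹ = z * b := by
        refine inv_eq_of_mul_eq_one_right ?_
        rw [← mul_assoc, hbz.eq, mul_assoc, hb, hz]
      rw [e, ia, ib]
      calc z * a * z * (z * b) = z * a * (z * z) * b := by group
        _ = _ := by rw [hz, mul_one, mul_assoc]
    have hzab : z * (b * a) = a * b := by rw [hba, ← mul_assoc, hz, one_mul]
    rw [zpow_two, hk, ← mul_assoc a b, ← mul_assoc b a, ← mul_assoc z, hzab]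
  have hfree : ∀ {q}, P q → kAct M2 k hak q = q → kAct M2 k hbk q ≠ q := by
    intro q hq ea eb
    obtain ⟨h, rfl, m, hm⟩ := (hP q).mp hq
    rw [kAct_korb] at ea eb
    have key : ∀ {x : G}, x * x = z → h⁻¹ * x * h ∉ M2 := fun {x} hx hmem => by
      have e : (⟨h⁻¹ * z * h, m⟩ : ↥M2) = ⟨_, hmem⟩ * ⟨_, hmem⟩ := Subtype.ext (by
        show h⁻¹ * z * h = h⁻¹ * x * h * (h⁻¹ * x * h)
        rw [← hx]; group)
      rw [e, map_mul, Int.units_mul_self] at hm
      exact absurd hm (by decide)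
    have step : ∀ {c : G}, Commute c k → c * c = z → korb M2 k (c * h) = korb M2 k h →
        h⁻¹ * (k⁻¹ * c) * h ∈ M2 := by
      intro c hck hc e
      obtain ⟨i, hi⟩ := (korb_eq M2 k).mp e
      have hi' := QuotientGroup.eq.mp hi.symm
      rw [show (k ^ i * h)⁻¹ * (c * h) = h⁻¹ * ((k ^ i)⁻¹ * c) * h by group] at hi'
      rcases Int.even_or_odd i with ⟨r, rfl⟩ | ⟨r, rfl⟩
      · exfalso
        refine key hc ?_
        have hzr : h⁻¹ * z ^ r * h ∈ M2 := by
          have := M2.zpow_mem m r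
          rwa [show h⁻¹ * z * h = h⁻¹ * z * h⁻¹⁻¹ by group, conj_zpow, inv_inv] at this
        have := M2.mul_mem hzr hi'
        rwa [← two_mul, zpow_mul, zpow_two, hk,
          show h⁻¹ * z ^ r * h * (h⁻¹ * ((z ^ r)⁻¹ * c) * h) = h⁻¹ * c * h by group] at this
      · have hzr : h⁻¹ * z ^ r * h ∈ M2 := by
          have := M2.zpow_mem m r
          rwa [show h⁻¹ * z * h = h⁻¹ * z * h⁻¹⁻¹ by group, conj_zpow, inv_inv] at this
        have := M2.mul_mem hzr hi'
        have ek : k ^ (2 * r + 1) = k * z ^ r := by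
          rw [zpow_add, zpow_mul, zpow_two, hk, zpow_one, (hkz.zpow_right r).eq]
        rwa [ek, show h⁻¹ * z ^ r * h * (h⁻¹ * ((k * z ^ r)⁻¹ * c) * h) = h⁻¹ * (k⁻¹ * c) * h by group] at this
    have h12 := M2.mul_mem (M2.mul_mem (step hak ha ea) (step hbk hb eb)) m
    refine key hab ?_
    have e : h⁻¹ * (k⁻¹ * a) * h * (h⁻¹ * (k⁻¹ * b) * h) * (h⁻¹ * z * h) = h⁻¹ * (a * b) * h := by
      calc _ = h⁻¹ * (k⁻¹ * (a * k⁻¹) * (b * z)) * h := by group
        _ = h⁻¹ * (k⁻¹ * k⁻¹ * (a * (z * b))) * h := by rw [hak.inv_right.eq, hbz.eq]; group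
        _ = h⁻¹ * ((k * k)⁻¹ * (a * z) * b) * h := by group
        _ = _ := by rw [hk, haz.eq, inv_mul_cancel_left]
    exact e ▸ h12
  obtain ⟨σ, hσ⟩ : ∃ σ : KOrb M2 k → KOrb M2 k, ∀ q,
      σ q = if kAct M2 k hak q ≠ q then kAct M2 k hak q else kAct M2 k hbk q := ⟨_, fun _ => rfl⟩
  have hσσ : ∀ q, σ (σ q) = q := by
    intro q
    by_cases e : kAct M2 k hak q = q
    · rw [hσ q, if_neg (not_not.mpr e), hσ, if_neg (not_not.mpr (by rw [hcomm, e])), hinv hbk hb]
    · rw [hσ q, if_pos e, hσ, if_pos (fun e' => e (by rw [hinv hak ha] at e'; exact e'.symm)), hinv hak ha]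
  have hσ0 : σ q0 = q0 := by
    have h0 : ∀ {c : G} (hck : Commute c k), c ∈ M2 → kAct M2 k hck q0 = q0 := fun {c} hck hc => by
      rw [hq0, kAct_korb, mul_one, fix0 hc, hq0]
    rw [hσ, if_neg (not_not.mpr (h0 hak haM)), h0 hbk hbM]
  have hσne : ∀ {q}, q ≠ q0 → σ q ≠ q0 := fun {q} hq e => hq (by rw [← hσσ q, e, hσ0])
  have hσP : ∀ {q}, P q → P (σ q) := by
    intro q hq
    rw [hσ]
    split_ifs
    exacts [hPact hak haz hq, hPact hbk hbz hq]
  have hprod : ∏ q ∈ Finset.univ.erase q0, f q = 1 := by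
    refine Finset.prod_involution (fun q _ => σ q) ?_ ?_ ?_ fun q _ => hσσ q
    · intro q hq
      have hne := (Finset.mem_erase.mp hq).1
      have he : f (σ q) = f q := by
        rcases Int.units_eq_one_or (f q) with h | h
        · rcases Int.units_eq_one_or (f (σ q)) with h' | h'
          · rw [h, h']
          · have := (hfP hne).mpr (hσσ q ▸ hσP ((hfP (hσne hne)).mp h'))
            rw [h] at this
            exact absurd this (by decide)
        · rw [h, (hfP (hσne hne)).mpr (hσP ((hfP hne).mp h))]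
      rw [he, Int.units_mul_self]
    · intro q hq h1 e
      have hPq : P q := (hfP (Finset.mem_erase.mp hq).1).mp ((Int.units_eq_one_or _).resolve_left h1)
      rw [hσ] at e
      by_cases ea : kAct M2 k hak q = q
      · rw [if_neg (not_not.mpr ea)] at e
        exact hfree hPq ea e
      · rw [if_pos ea] at e
        exact ea e
    · intro q hq
      exact Finset.mem_erase.mpr ⟨hσne (Finset.mem_erase.mp hq).1, Finset.mem_univ _⟩
  have hf0 : f q0 = -1 := by
    have hd : q0.out.out ∈ M2 := by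
      obtain ⟨m, u, hu, e⟩ := hcos ((korb_surj M2 k q0).trans hq0)
      rw [e, mul_one]
      exact M2.mul_mem (M2.zpow_mem hkM m) hu
    have hp : Function.minimalPeriod (k • ·) q0.out = 1 := by
      rw [Function.minimalPeriod_eq_one_iff_isFixedPt]
      show k • q0.out = q0.out
      rw [← QuotientGroup.out_eq' q0.out, Quotient.smul_coe, smul_eq_mul, QuotientGroup.eq]
      exact M2.mul_mem (M2.inv_mem (M2.mul_mem hkM hd)) hd
    rw [hf]
    refine (congrArg χ (Subtype.ext ?_)).trans ((hconj hd ⟨k, hkM⟩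
      (M2.mul_mem (M2.mul_mem (M2.inv_mem hd) hkM) hd)).trans hχk)
    show q0.out.out⁻¹ * k ^ Function.minimalPeriod (k • ·) q0.out * q0.out.out = _
    rw [hp, pow_one]
  rw [← Finset.mul_prod_erase Finset.univ f (Finset.mem_univ q0), hf0, hprod, mul_one] at hV1
  exact absurd hV1 (by decide)

end CfsgLib.HNStd
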