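import Cfsg.Agent.Lib.HNStd.KCopy
import Cfsg.Agent.Lib.HNStd.KTransfer

/-!
A root of the central involution does not occur.
-/

set_option autoImplicit false
set_option maxRecDepth 100000
set_option maxHeartbeats 1600000

namespace CfsgLib.HNStd

open CfsgLib.CosetEnum CfsgLib.DCoset CfsgLib.HN CfsgLib.HNType

theorem false_of_root {G : Type*} [Group G] [Finite G] [IsSimpleGroup G] (hG : ¬ IsMulCommutative G)
    (c : Ctx G) {g : G} {x x' : PH} (h : c.Pair g x x') {k : G} (hk : k ∈ c.K) (hk2 : k * k = c.z) :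
    False := by
  classical
  obtain ⟨M, hn, R, -, -, -, -⟩ := exists_red h
  haveI := R.finite_Q
  obtain ⟨Fr, -, -, ho, htw, -⟩ := R.exists_outer (m := 2) (k := k) ⟨hk, Or.inr ⟨rfl, hk2⟩⟩
  obtain ⟨F, hFk, -, hι⟩ := exists_KF R hk hk2
  obtain ⟨Hb, hknot, hnorm, hjH, hcent, hcls⟩ := exists_kcopy F
  have ht : R.t ∈ Hb := F.j_iP ▸ hjH iP iP_kP
  have hkk : F.k * F.k ∈ Hb := by rw [F.k_sq]; exact ht
  have hnorm' : ∀ q ∈ Hb, F.k⁻¹ * q * F.k ∈ Hb := fun q hq => by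
    have e : F.k * ((F.k * F.k)⁻¹ * q * (F.k * F.k)) * F.k⁻¹ = F.k⁻¹ * q * F.k := by group
    exact e ▸ hnorm _ (Hb.mul_mem (Hb.mul_mem (Hb.inv_mem hkk) hq) hkk)
  have h11 : ∀ {q q' : _}, q * F.k ∈ Hb → q' * F.k ∈ Hb → q * q' ∈ Hb := fun {q q'} h1 h2 => by
    have e : q * F.k * (F.k⁻¹ * (q' * F.k) * F.k * (F.k * F.k)⁻¹) = q * q' := by group
    exact e ▸ Hb.mul_mem h1 (Hb.mul_mem (hnorm' _ h2) (Hb.inv_mem hkk))
  let K2 : Subgroup _ :=
    { carrier := {q | q ∈ Hb ∨ q * F.k ∈ Hb}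
      one_mem' := Or.inl Hb.one_mem
      mul_mem' := fun {q q'} h1 h2 => by
        rcases h1 with h1 | h1 <;> rcases h2 with h2 | h2
        · exact Or.inl (Hb.mul_mem h1 h2)
        · exact Or.inr (by rw [mul_assoc]; exact Hb.mul_mem h1 h2)
        · refine Or.inr ?_
          have e : q * F.k * (F.k⁻¹ * q' * F.k) = q * q' * F.k := by group
          exact e ▸ Hb.mul_mem h1 (hnorm' _ h2)
        · exact Or.inl (h11 h1 h2)
      inv_mem' := fun {q} h1 => by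
        rcases h1 with h1 | h1
        · exact Or.inl (Hb.inv_mem h1)
        · refine Or.inr ?_
          have e : F.k * (q * F.k)⁻¹ * F.k⁻¹ * (F.k * F.k) = q⁻¹ * F.k := by group
          exact e ▸ Hb.mul_mem (hnorm _ (Hb.inv_mem h1)) hkk }
  let M2 : Subgroup G :=
    { carrier := {u | u ∈ R.M ∧ R.r u ∈ K2}
      one_mem' := ⟨R.M.one_mem, by rw [R.r_one]; exact K2.one_mem⟩
      mul_mem' := fun {u v} hu hv => ⟨R.M.mul_mem hu.1 hv.1, by
        rw [R.r_mul hu.1 hv.1]; exact K2.mul_mem hu.2 hv.2⟩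
      inv_mem' := fun {u} hu => ⟨R.M.inv_mem hu.1, by rw [R.r_inv hu.1]; exact K2.inv_mem hu.2⟩ }
  let χ : ↥M2 →* ℤˣ := MonoidHom.mk' (fun u => if R.r (u : G) ∈ Hb then 1 else -1) fun u v => by
    have e : R.r ((u * v : ↥M2) : G) = R.r (u : G) * R.r (v : G) := R.r_mul u.2.1 v.2.1
    rw [e]
    by_cases hu : R.r (u : G) ∈ Hb <;> by_cases hv : R.r (v : G) ∈ Hb
    · rw [if_pos hu, if_pos hv, if_pos (Hb.mul_mem hu hv), one_mul]
    · rw [if_pos hu, if_neg hv, if_neg (fun h => hv ((Hb.mul_mem_cancel_left hu).mp h)), one_mul]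
    · rw [if_neg hu, if_pos hv, if_neg (fun h => hu ((Hb.mul_mem_cancel_right hv).mp h)), mul_one]
    · rw [if_neg hu, if_neg hv, if_pos (h11 (u.2.2.resolve_left hu) (v.2.2.resolve_left hv)),
        Int.units_mul_self]
  have hN2 : ∀ {u : G}, u ∈ c.N → u ∈ M2 := fun {u} hu => ⟨R.hN hu, hcent _ (R.t_comm hu)⟩
  obtain ⟨p, q, -, -, hp, hq, hp2, hq2, hpq⟩ := exists_quat
  have hrp : ∀ {p : PH}, p ∈ kP → R.r (c.f p) ∈ Hb := fun {p} hp => by
    have h' := hjH p hp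
    rwa [hι p hp] at h'
  have hfsq : ∀ {p : PH}, p ∈ kP → p * p = iP → c.f p * c.f p = c.z := fun {p} hp e => by
    rw [← c.map_mul _ _ hp hp, e]; rfl
  refine transfer_contra hG M2 χ (z := c.z) (k := k) (a := c.f p) (b := c.f q) hk2 c.z_sq
    (hN2 (c.K_le_N hk)) ?_ (hN2 (c.f_mem_N hp)) (hN2 (c.f_mem_N hq)) (hfsq hp hp2) (hfsq hq hq2) ?_
    (c.mem_K.mp hk p hp).symm (c.mem_K.mp hk q hq).symm fun u hu => ?_
  · exact if_neg (hFk ▸ hknot)
  · rw [← c.map_mul _ _ hp hq]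
    exact hfsq (kP.mul_mem hp hq) hpq
  · obtain ⟨y, hy⟩ : ∃ y, u⁻¹ * k * u = y := ⟨_, rfl⟩
    rw [hy] at hu
    have hyy : y * y = u⁻¹ * c.z * u := by rw [← hy, ← hk2]; group
    have hy4 : y * y * (y * y) = 1 := by
      rw [hyy, show u⁻¹ * c.z * u * (u⁻¹ * c.z * u) = u⁻¹ * (c.z * c.z) * u by group, c.z_sq]; group
    have hne : y * y ≠ 1 := fun e => c.z_ne (by
      calc c.z = u * (y * y) * u⁻¹ := by rw [hyy]; group
        _ = 1 := by rw [e]; group)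
    have hyM := R.M.mul_mem hu.1 hu.1
    have hyH : R.r (y * y) ∈ Hb := by
      rw [R.r_mul hu.1 hu.1]
      rcases hu.2 with h | h
      exacts [Hb.mul_mem h h, h11 h h]
    have hr1 : R.r (y * y) ≠ 1 := fun e => by
      have := R.pair.odd_order ((R.r_eq_one hyM).mp e)
      rw [CfsgLib.Invol.orderOf_two_of_mul_self hy4 hne] at this
      exact absurd this (by decide)
    have back : ∀ {w : G} (hw : w ∈ R.M), w * w = 1 →
        (∃ b ∈ Hb, b * R.r (y * y) * b⁻¹ = R.r w) → ∃ m ∈ M2, m * (y * y) * m⁻¹ = w := by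
      rintro w hw hw2 ⟨b, hb, e⟩
      obtain ⟨⟨m, hm⟩, hmb, e'⟩ := exists_lift_conj R.surj R.odd_ker (s := (⟨y * y, hyM⟩ : ↥R.M))
        (s' := ⟨w, hw⟩) (Subtype.ext hy4) (Subtype.ext hw2) (q := b)
        (by rw [← R.r_coe, ← R.r_coe]; exact e)
      rw [← R.r_coe] at hmb
      exact ⟨m, ⟨hm, Or.inl (hmb ▸ hb)⟩, congrArg Subtype.val e'⟩
    rcases hcls _ hyH (by rw [← R.r_mul hyM hyM, hy4, R.r_one]) hr1 with hb | hb
    · obtain ⟨m, hm, e⟩ := back (R.hN c.z_mem_N) c.z_sq hb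
      rw [hyy] at e
      have hN : m * u⁻¹ ∈ c.N := c.conj_z_mem_N
        ((show m * u⁻¹ * c.z * (m * u⁻¹)⁻¹ = m * (u⁻¹ * c.z * u) * m⁻¹ by group).trans e)
      have := M2.mul_mem (M2.inv_mem (hN2 hN)) hm
      rwa [show (m * u⁻¹)⁻¹ * m = u by group] at this
    · obtain ⟨m, hm, e⟩ := back (R.hN (c.f_mem_N el690_kP))
        (by rw [← c.map_mul _ _ el690_kP el690_kP, sq_el690, c.f_one]) (by
          obtain ⟨b, hb', e⟩ := hb
          exact ⟨b, hb', e.trans (hι _ el690_kP)⟩)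
      rw [hyy] at e
      exact absurd ((show m * u⁻¹ * c.z * (m * u⁻¹)⁻¹ = m * (u⁻¹ * c.z * u) * m⁻¹ by group).trans e)
        (Fr.not_conj_690 ho htw (m * u⁻¹))

end CfsgLib.HNStd
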