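import Cfsg.Agent.Lib.HNStd.KSwap

/-!
The first branch in a centraliser with a root: the element of order five.
-/

set_option autoImplicit false
set_option maxRecDepth 100000
set_option maxHeartbeats 1600000

namespace CfsgLib.HNStd

open CfsgLib.CosetEnum CfsgLib.DCoset CfsgLib.HN CfsgLib.HNType CfsgLib.HNType.Five

variable {Q : Type*} [Group Q] {t : Q}

/-- centralising `a`, `b`, `u`, and inverted by `t` -/
structure KInv5 (F : KF t) (u : PH) (S : Q) : Prop where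
  five : S ^ 5 = 1
  ca : Commute S (F.j pa)
  cb : Commute S (F.j pb)
  cu : Commute S (F.j u)
  inv : t * S * (t * S) = 1

variable {F : KF t}

theorem KS.pull {γ : Q} (hγ : KS F γ) {u u' : PH} {S : Q} (hS : KInv5 F u S) {v : PH}
    (hv : F.j v = γ * F.j pb * γ⁻¹) (hu : F.j u' = γ * F.j u * γ⁻¹) :
    ∃ σ : PH, F.j σ = γ * S * γ⁻¹ ∧ σ ^ 5 = 1 ∧ pa * σ * (pa * σ) = 1 ∧ Commute σ v ∧
      Commute σ u' := by
  have hc : ∀ {a b : Q}, Commute a b → Commute (γ * a * γ⁻¹) (γ * b * γ⁻¹) := fun {a b} h => by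
    show γ * a * γ⁻¹ * (γ * b * γ⁻¹) = γ * b * γ⁻¹ * (γ * a * γ⁻¹)
    calc _ = γ * (a * b) * γ⁻¹ := by group
      _ = _ := by rw [h.eq]; group
  obtain ⟨σ, hσ⟩ := F.pow_range (Eq.mp (congrArg (Commute _) hγ.a_t) (hc hS.ca)) (n := 5) ⟨2, rfl⟩
    (by rw [conj_pow, hS.five, mul_one, mul_inv_cancel])
  refine ⟨σ, hσ, F.inj ?_, F.inj ?_, F.inj ?_, F.inj ?_⟩
  · rw [map_pow, hσ, conj_pow, hS.five, map_one]; group
  · simp only [map_mul, map_one, hσ]
    rw [← hγ.t_a]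
    calc γ * t * γ⁻¹ * (γ * S * γ⁻¹) * (γ * t * γ⁻¹ * (γ * S * γ⁻¹))
        = γ * (t * S * (t * S)) * γ⁻¹ := by group
      _ = 1 := by rw [hS.inv]; group
  · rw [map_mul, map_mul, hσ, hv]; exact (hc hS.cb).eq
  · rw [map_mul, map_mul, hσ, hu]; exact (hc hS.cu).eq

/-- the element of order five -/
theorem KS.first_branch {γ : Q} (hγ : KS F γ) {n : ℕ} (hn : n < 30720)
    (hv : F.j (yP n) = γ * F.j pb * γ⁻¹) (hTv : KT F (yP n)) (hTva : ¬ KT F (yP n * pa))
    {e : ℕ × List ℕ × List ℕ × ℕ × ℕ × ℕ × List (ℕ × ℕ × ℕ) × List (ℕ × ℕ)} (he : e ∈ pCases)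
    (hen : e.1 = n) :
    ∃ s : Q, s ^ 5 = 1 ∧ (F.j (AW [0]))⁻¹ * s * F.j (AW [0]) * s ^ 2 = 1 ∧
      Commute s (F.j (AW [2])) ∧ (F.j pz * s) ^ 3 = 1 ∧ ∃ m : ℕ, F.k * s * F.k⁻¹ = s ^ m := by
  obtain ⟨n', cv, cd, m0, m1, m2, zl, ks⟩ := e
  dsimp only at hen
  subst hen
  have h := List.all_eq_true.mp pCases_ok _ he
  simp only [pCaseOK, Bool.and_eq_true, Nat.blt_eq, Bool.not_eq_true'] at h
  obtain ⟨⟨⟨⟨⟨⟨⟨⟨⟨⟨⟨⟨⟨⟨⟨⟨-, hcv⟩, hcd⟩, hm0⟩, hm1⟩, hm2⟩, hvz⟩, hvd⟩, hse⟩, hsv⟩, hs5⟩, hs1⟩,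
    hsi⟩, hpl⟩, hzc⟩, hzi⟩, hks⟩ := h
  obtain ⟨c5, c6, c7, c8, c9, c11, haa, hbb, hab, haq, hbq, hzq, hza, hzb, hae, he5, he1, ha1, hai,
    hb1, hba, hq1, hq3, haW, haWe, hqW, hqWe, heb, hr10, har, hbr, hrq, hrz, hF, hgu, hg0, hg1, hxa,
    hx2, hwb, hq2, -⟩ := base_facts
  obtain ⟨-, hr3, -, hzz, hz1, hzA, hzi', hzia, -⟩ := extra_facts
  have gv := good_yW hn
  have g1 : ∀ j, j < 47 → Good [j] := fun j hj => good_cons hj good_nil
  have gh : ∀ m, m < 5775 → Good (5 :: hW m) := fun m hm => good_cons (by norm_num) (good_hW hm)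
  have gs := gh m0 hm0
  have hev : yP n' = (AW cv)⁻¹ * pz * AW cv := by
    have h := (eqW_iff gv (good_append (good_winv hcv) (good_cons (by norm_num) (good_lets hcv)))).mp hvz
    rw [AW_append, AW_winv hcv, AW_cons 4 cv] at h
    rw [mul_assoc]; exact h
  have hTz : KT F pz := by rw [← kt_conj (AW cv) pz, ← hev]; exact hTv
  obtain ⟨σ, hσd⟩ : ∃ σ, σ = AW (5 :: hW m0) := ⟨_, rfl⟩
  have hσe : Commute σ Five.pe := hσd ▸ (commW_iff gs (g1 8 (by norm_num))).mp hse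
  have hσv : Commute σ (yP n') := hσd ▸ (commW_iff gs gv).mp hsv
  have hσ5 : σ ^ 5 = 1 := by
    have h := (eqW_iff (good_powW gs 5) good_nil).mp hs5
    rwa [AW_powW, AW_nil, ← hσd] at h
  have hσ1 : σ ≠ 1 := by
    have h := (eqW_not gs good_nil).mp hs1
    rwa [AW_nil, ← hσd] at h
  have hσi : pa * σ * (pa * σ) = 1 := by
    have h := (eqW_iff (good_cons (by norm_num) (good_append gs (good_cons (by norm_num) gs))) good_nil).mp hsi
    rw [show (5 :: (5 :: hW m0 ++ 5 :: 5 :: hW m0) : List ℕ) = [5] ++ (5 :: hW m0) ++ ([5] ++ (5 :: hW m0)) from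
      rfl, AW_append, AW_append, AW_nil, ← hσd] at h
    exact h
  -- the element and its uniqueness
  have huniq : ∀ X, KInv5 F Five.pe X → ∃ j < 5, γ * X * γ⁻¹ = F.j σ ^ j := by
    intro X hX
    obtain ⟨p, hp, hp5, hpi, hpv, hpe⟩ := hγ.pull hX hv hγ.e_e.symm
    obtain ⟨i, hi, rfl⟩ := five_form hp5 hpi
    by_cases h1 : AW (5 :: hW i) = 1
    · exact ⟨0, by norm_num, by rw [pow_zero, ← hp, h1, map_one]⟩
    have hmem : i ∈ pList := by
      have h := p_ok hi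
      simp only [pOK, strict_eq, Bool.or_eq_true, Bool.not_eq_true', List.contains_iff_mem] at h
      rcases h with ((h | h) | h) | h
      · exact absurd hpe ((commW_not (gh i hi) (g1 8 (by norm_num))).mp h)
      · exact absurd ((eqW_iff (gh i hi) good_nil).mp h) (by rw [AW_nil]; exact h1)
      · exact absurd hp5 (fun h' => (eqW_not (good_powW (gh i hi) 5) good_nil).mp h (by
          rw [AW_powW, AW_nil]; exact h'))
      · exact h
    have h := List.all_eq_true.mp hpl i hmem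
    simp only [Bool.or_eq_true, Bool.not_eq_true'] at h
    rcases h with h | h
    · exact absurd hpv ((commW_not (gh i hi) gv).mp h)
    · obtain ⟨j, hj, hj'⟩ := isPow_spec gs (gh i hi) h
      exact ⟨j, hj, by rw [← hp, hj', ← hσd, map_pow]⟩
  obtain ⟨S, hSd⟩ : ∃ S, S = γ⁻¹ * F.j σ * γ := ⟨_, rfl⟩
  have hγS : γ * S * γ⁻¹ = F.j σ := by rw [hSd]; group
  have back : ∀ {x : PH} {y : Q}, F.j x = γ * y * γ⁻¹ → Commute σ x → Commute S y :=
    fun {x y} hx hc => by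
      have e := (hc.map F.j).eq
      rw [hx] at e
      show S * y = y * S
      calc S * y = γ⁻¹ * (F.j σ * (γ * y * γ⁻¹)) * γ := by rw [hSd]; group
        _ = _ := by rw [e, hSd]; group
  have hSinv : KInv5 F Five.pe S := by
    refine ⟨?_, back (x := iP) (by rw [F.j_iP, hγ.a_t]) (iP_comm σ).symm, back hv hσv,
      back hγ.e_e.symm hσe, ?_⟩
    · rw [hSd, show γ⁻¹ * F.j σ * γ = γ⁻¹ * F.j σ * γ⁻¹⁻¹ by group, conj_pow, ← map_pow, hσ5,
        map_one]; group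
    · calc t * S * (t * S) = γ⁻¹ * (γ * t * γ⁻¹ * F.j σ * (γ * t * γ⁻¹ * F.j σ)) * γ := by
            rw [hSd]; group
        _ = 1 := by rw [hγ.t_a, ← map_mul, ← map_mul, hσi, map_one]; group
  have hS1 : S ≠ 1 := fun h => hσ1 (F.inj (by rw [← hγS, h, map_one]; group))
  have hqv : evEB Five.pe (yP n') qWord = AW (substB qWord (yW n')) := (AW_substB hqW (yW n')).symm
  have hq' : F.j (AW (substB qWord (yW n'))) = γ * F.j pq * γ⁻¹ := by
    rw [← hqv, hγ.toKPre.image_word hv, ← AW_evEB hqW, hqWe]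
  -- two groups for the elements centralising `a`, `b` and `q`
  have htwo : ∀ X, KInv5 F pq X → ∃ j < 5, γ * X * γ⁻¹ = F.j (AW (5 :: hW m1)) ^ j ∨
      γ * X * γ⁻¹ = F.j (AW (5 :: hW m2)) ^ j := by
    intro X hX
    obtain ⟨p, hp, hp5, hpi, hpv, hpq⟩ := hγ.pull hX hv hq'
    obtain ⟨i, hi, rfl⟩ := five_form hp5 hpi
    obtain ⟨m, hm, hconj⟩ := exists_class (gP i * (AW cv)⁻¹)
    have hhi : hP i = (AW cv)⁻¹ * hP m * AW cv := by
      rw [← hconj, hP]; group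
    have hgw : Good (5 :: (winv cv ++ hW m ++ cv)) :=
      good_cons (by norm_num) (good_append (good_append (good_winv hcv) (good_hW hm)) (good_lets hcv))
    have hpe' : AW (5 :: (winv cv ++ hW m ++ cv)) = AW (5 :: hW i) := by
      rw [AW_cons, AW_cons 5 (hW i), AW_append, AW_append, AW_winv hcv, AW_hW hm, AW_hW hi, hhi]
    have hmem : m ∈ zcList := by
      have h := zc_ok hm
      simp only [zcOK, strict_eq, Bool.or_eq_true, Bool.not_eq_true', List.contains_iff_mem] at h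
      refine h.resolve_left fun hne => (commW_not (good_hW hm) (g1 4 (by norm_num))).mp hne ?_
      rw [AW_hW hm]
      have hhv : Commute (hP i) (yP n') := by
        have h2 : Commute pa (yP n') := (yP_comm hn).symm
        have h3 : hP i = pa * AW (5 :: hW i) := by
          rw [AW_cons, AW_hW hi, ← pa, ← mul_assoc, haa, one_mul]
        rw [h3]; exact h2.mul_left hpv
      rw [hhi, hev] at hhv
      show hP m * pz = pz * hP m
      have e := hhv.eq
      calc hP m * pz = AW cv * ((AW cv)⁻¹ * hP m * AW cv * ((AW cv)⁻¹ * pz * AW cv)) * (AW cv)⁻¹ := by group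
        _ = _ := by rw [e]; group
    have h := List.all_eq_true.mp hzc m hmem
    simp only [Bool.or_eq_true, Bool.not_eq_true'] at h
    rcases h with (((h | h) | h) | h) | h
    · exfalso
      refine (commW_not hgw gv).mp h ?_
      rw [hpe']; exact hpv
    · exfalso
      refine (commW_not hgw (good_substB hqW gv)).mp h ?_
      rw [hpe']; exact hpq
    · exact absurd hp5 (fun h' => (eqW_not (good_powW hgw 5) good_nil).mp h (by
        rw [AW_powW, AW_nil, hpe']; exact h'))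
    · obtain ⟨j, hj, hj'⟩ := isPow_spec (gh m1 hm1) hgw h
      exact ⟨j, hj, Or.inl (by rw [← hp, ← hpe', hj', map_pow])⟩
    · obtain ⟨j, hj, hj'⟩ := isPow_spec (gh m2 hm2) hgw h
      exact ⟨j, hj, Or.inr (by rw [← hp, ← hpe', hj', map_pow])⟩
  -- the three conjugates
  obtain ⟨R, hRd⟩ : ∃ R, R = F.j pr := ⟨_, rfl⟩
  have hR3 : R ^ 3 = 1 := by rw [hRd, ← map_pow, hr3, map_one]
  have hRt : Commute R t := hRd ▸ F.commute_j pr
  have hra : R⁻¹ * F.j pa * R = F.j pb := by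
    rw [hRd, ← map_inv, ← map_mul, ← map_mul, mul_assoc, har, inv_mul_cancel_left]
  have hrb : R⁻¹ * F.j pb * R = F.j pa * F.j pb := by
    rw [hRd, ← map_inv, ← map_mul, ← map_mul, ← map_mul, mul_assoc, hbr, inv_mul_cancel_left]
  have hrq' : R⁻¹ * F.j pq * R = F.j pq := by
    rw [hRd, ← map_inv, ← map_mul, ← map_mul, mul_assoc, ← hrq.eq, inv_mul_cancel_left]
  have hrot : ∀ X, KInv5 F pq X → KInv5 F pq (R⁻¹ * X * R) := by
    intro X hX
    have hc : ∀ {a b : Q}, Commute a b → Commute (R⁻¹ * a * R) (R⁻¹ * b * R) := fun {a b} h => by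
      show R⁻¹ * a * R * (R⁻¹ * b * R) = R⁻¹ * b * R * (R⁻¹ * a * R)
      calc _ = R⁻¹ * (a * b) * R := by group
        _ = _ := by rw [h.eq]; group
    have hb' : Commute (R⁻¹ * X * R) (F.j pb) := hra ▸ hc hX.ca
    refine ⟨?_, ?_, hb', hrq' ▸ hc hX.cu, ?_⟩
    · rw [show R⁻¹ * X * R = R⁻¹ * X * R⁻¹⁻¹ by group, conj_pow, hX.five]; group
    · have h2 : Commute (R⁻¹ * X * R) (F.j pa * F.j pb) := hrb ▸ hc hX.cb
      have h3 := h2.mul_right hb'
      rwa [mul_assoc (F.j pa), ← map_mul F.j pb pb, hbb, map_one, mul_one] at h3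
    · calc t * (R⁻¹ * X * R) * (t * (R⁻¹ * X * R))
          = R⁻¹ * (R * t * R⁻¹ * X * (R * t * R⁻¹ * X)) * R := by group
        _ = 1 := by rw [hRt.eq, mul_inv_cancel_right, hX.inv]; group
  have hSq : KInv5 F pq S := ⟨hSinv.five, hSinv.ca, hSinv.cb, by
    rw [← hqWe, AW_evEB hqW, map_evEB]
    exact evEB_commute hSinv.cu hSinv.cb qWord, hSinv.inv⟩
  obtain ⟨X1, hX1d⟩ : ∃ X, X = R⁻¹ * S * R := ⟨_, rfl⟩
  obtain ⟨X2, hX2d⟩ : ∃ X, X = R⁻¹ * X1 * R := ⟨_, rfl⟩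
  have hX1 : KInv5 F pq X1 := hX1d ▸ hrot S hSq
  have hX2 : KInv5 F pq X2 := hX2d ▸ hrot X1 hX1
  have hne : ∀ {X : Q}, X ≠ 1 → R⁻¹ * X * R ≠ 1 := fun {X} hX h => hX (by
    calc X = R * (R⁻¹ * X * R) * R⁻¹ := by group
      _ = 1 := by rw [h]; group)
  have hX11 : X1 ≠ 1 := hX1d ▸ hne hS1
  have hX21 : X2 ≠ 1 := hX2d ▸ hne hX11
  have hsame : ∀ {τ : PH} {i j : ℕ} {X Y : Q}, F.j τ ^ 5 = 1 → X ≠ 1 →
      γ * X * γ⁻¹ = F.j τ ^ i → γ * Y * γ⁻¹ = F.j τ ^ j → ∃ k, Y = X ^ k := by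
    intro τ i j X Y hτ hX hXi hYj
    have hi : F.j τ ^ i ≠ 1 := fun h => hX (by
      rw [h] at hXi
      calc X = γ⁻¹ * (γ * X * γ⁻¹) * γ := by group
        _ = 1 := by rw [hXi]; group)
    obtain ⟨l, hl⟩ := pow_five_gen hτ hi
    refine ⟨l * j, ?_⟩
    have e : (γ * X * γ⁻¹) ^ (l * j) = γ * Y * γ⁻¹ := by rw [hXi, pow_mul, hl, hYj]
    rw [conj_pow] at e
    exact (mul_left_cancel (mul_right_cancel e)).symm
  have hτ5 : F.j (AW (5 :: hW m1)) ^ 5 = 1 ∧ F.j (AW (5 :: hW m2)) ^ 5 = 1 := by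
    have h := List.all_eq_true.mp tau_checks _ he
    simp only [Bool.and_eq_true] at h
    have e1 := (eqW_iff (good_powW (gh m1 hm1) 5) good_nil).mp h.1
    have e2 := (eqW_iff (good_powW (gh m2 hm2) 5) good_nil).mp h.2
    rw [AW_powW, AW_nil] at e1 e2
    exact ⟨by rw [← map_pow, e1, map_one], by rw [← map_pow, e2, map_one]⟩
  have hpair : ∃ k, X1 = S ^ k ∨ X2 = S ^ k ∨ X2 = X1 ^ k := by
    obtain ⟨i, -, hi⟩ := htwo S hSq
    obtain ⟨j, -, hj⟩ := htwo X1 hX1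
    obtain ⟨l, -, hl⟩ := htwo X2 hX2
    rcases hi with hi | hi <;> rcases hj with hj | hj
    · exact (hsame hτ5.1 hS1 hi hj).imp fun k h => Or.inl h
    · rcases hl with hl | hl
      · exact (hsame hτ5.1 hS1 hi hl).imp fun k h => Or.inr (Or.inl h)
      · exact (hsame hτ5.2 hX11 hj hl).imp fun k h => Or.inr (Or.inr h)
    · rcases hl with hl | hl
      · exact (hsame hτ5.1 hX11 hj hl).imp fun k h => Or.inr (Or.inr h)
      · exact (hsame hτ5.2 hS1 hi hl).imp fun k h => Or.inr (Or.inl h)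
    · exact (hsame hτ5.2 hS1 hi hj).imp fun k h => Or.inl h
  have hSR : Commute R S := by
    obtain ⟨k, h | h | h⟩ := hpair
    · exact commute_of_cube hR3 hSq.five (hX1d.symm.trans h)
    · have hR2 : (R * R) ^ 3 = 1 := by rw [← pow_two, ← pow_mul, show 2 * 3 = 3 * 2 from rfl, pow_mul, hR3, one_pow]
      have h2 := commute_of_cube hR2 hSq.five (k := k) (by rw [← h, hX2d, hX1d]; group)
      have : Commute (R * R * (R * R)) S := h2.mul_left h2
      rwa [show R * R * (R * R) = R ^ 3 * R by simp [pow_succ, mul_assoc], hR3, one_mul] at this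
    · refine commute_of_cube hR3 hSq.five (k := k) ?_
      rw [hX2d] at h
      calc R⁻¹ * S * R = R * (R⁻¹ * X1 * R) * R⁻¹ := by rw [hX1d]; group
        _ = R * X1 ^ k * R⁻¹ := by rw [h]
        _ = (R * X1 * R⁻¹) ^ k := conj_pow.symm
        _ = S ^ k := by rw [hX1d]; group
  -- it centralises U
  have hUy : Commute S (F.j (AW [2])) ∧ Commute S (F.j (AW [1, 2, 0])) := by
    have h10 : AW [10] = pr⁻¹ := (inv_eq_of_mul_eq_one_right hr10).symm
    have hw : ∀ w : List ℕ, (∀ j ∈ w, j = 8 ∨ j = 6 ∨ j = 9 ∨ j = 10) → Commute S (F.j (AW w)) := by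
      intro w
      induction w with
      | nil => intro _; rw [AW_nil, map_one]; exact Commute.one_right S
      | cons j w ih =>
        intro h
        rw [List.forall_mem_cons] at h
        rw [AW_cons, map_mul]
        refine Commute.mul_right ?_ (ih h.2)
        rcases h.1 with rfl | rfl | rfl | rfl
        · exact hSinv.cu
        · exact hSinv.cb
        · show Commute S (F.j pr); rw [← hRd]; exact hSR.symm
        · rw [h10, map_inv, ← hRd]; exact hSR.symm.inv_right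
    refine ⟨hg0 ▸ hw _ (hgu _ ?_), hg1 ▸ hw _ (hgu _ ?_)⟩ <;>
      (rw [List.getD_eq_getElem _ _ (by decide)]; exact List.getElem_mem _)
  have hblk : ∀ w : List ℕ, ∀ {Z : Q}, Commute Z (F.j (AW [2])) → Commute Z (F.j (AW [1, 2, 0])) →
      Commute Z (F.j (AW (blk w))) := by
    intro w Z h1 h2
    induction w with
    | nil => rw [show blk [] = [] from rfl, AW_nil, map_one]; exact Commute.one_right Z
    | cons c w ih =>
      rw [blk, List.flatMap_cons, AW_append, map_mul, ← blk]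
      refine Commute.mul_right ?_ ih
      cases (c == 0)
      · exact h2
      · exact h1
  have hw5 : ∀ {j : ℕ} {w : List ℕ}, j < 47 → fiveW.getD j [] = blk w → AW (blk w) = AW [j] :=
    fun {j w} hj e => by rw [AW_atom hj, e]
  obtain ⟨X, hXd⟩ : ∃ X, X = F.j (AW [0]) := ⟨_, rfl⟩
  have hxx : AW [0] * AW [0] = iP := by rw [← iP_AW]; exact (AW_cons 0 [0]).symm
  have hXX : X * X = t := by rw [hXd, ← map_mul, hxx, F.j_iP]
  have h01 : AW [1] = (AW [0])⁻¹ := by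
    refine (inv_eq_of_mul_eq_one_right ?_).symm
    have h := (cInv_ok ⟨0, by norm_num⟩).2
    have e := (eqW_iff (good_cons (by norm_num) (g1 1 (by norm_num))) good_nil).mp h
    rwa [AW_cons, AW_nil] at e
  have hXinv : KInv5 F Five.pe (X⁻¹ * S * X) := by
    have hc : ∀ {b : Q}, Commute S (X * b * X⁻¹) → Commute (X⁻¹ * S * X) b := fun {b} h => by
      show X⁻¹ * S * X * b = b * (X⁻¹ * S * X)
      calc _ = X⁻¹ * (S * (X * b * X⁻¹)) * X := by group
        _ = _ := by rw [h.eq]; group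
    have h120 : AW [1, 2, 0] = (AW [0])⁻¹ * AW [2] * AW [0] := by
      rw [AW_cons 1, AW_cons 2, h01, mul_assoc]
    have hu1 : Commute (X⁻¹ * S * X) (F.j (AW [2])) := by
      refine hc ?_
      have e : X * F.j (AW [2]) * X⁻¹ = F.j (AW [1, 2, 0]) := by
        rw [hXd, ← map_inv, ← map_mul, ← map_mul, h120]
        exact congrArg F.j (conj_of_sq_central (hxx.symm ▸ iP_comm (AW [2]) : Commute (AW [0] * AW [0]) (AW [2])))
      rw [e]; exact hUy.2
    have hu2 : Commute (X⁻¹ * S * X) (F.j (AW [1, 2, 0])) := by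
      refine hc ?_
      have e : X * F.j (AW [1, 2, 0]) * X⁻¹ = F.j (AW [2]) := by
        rw [hXd, ← map_inv, ← map_mul, ← map_mul, h120]
        exact congrArg F.j (conj_inv_cancel _ _)
      rw [e]; exact hUy.1
    refine ⟨?_, ?_, ?_, ?_, ?_⟩
    · rw [show X⁻¹ * S * X = X⁻¹ * S * X⁻¹⁻¹ by group, conj_pow, hSinv.five]; group
    · have h := hblk aBlocks hu1 hu2; rwa [hw5 (by norm_num) c5] at h
    · have h := hblk bBlocks hu1 hu2; rwa [hw5 (by norm_num) c6] at h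
    · have h := hblk eBlocks hu1 hu2; rwa [hw5 (by norm_num) c8] at h
    · have hXt : Commute X t := hXd ▸ F.commute_j _
      calc t * (X⁻¹ * S * X) * (t * (X⁻¹ * S * X))
          = X⁻¹ * (X * t * X⁻¹ * S * (X * t * X⁻¹ * S)) * X := by group
        _ = 1 := by rw [hXt.eq, mul_inv_cancel_right, hSinv.inv]; group
  obtain ⟨j, hj5, hj⟩ := huniq _ hXinv
  have hjS : X⁻¹ * S * X = S ^ j := by
    rw [← hγS, conj_pow] at hj
    exact mul_left_cancel (mul_right_cancel hj)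
  have hstep : ∀ k, X⁻¹ * S ^ k * X = S ^ (j * k) := fun k => by
    rw [pow_mul, ← hjS, show X⁻¹ * S * X = X⁻¹ * S * X⁻¹⁻¹ by group, conj_pow]; group
  have ho : orderOf S = 5 := by
    have : Fact (Nat.Prime 5) := ⟨by norm_num⟩
    exact orderOf_eq_prime hSinv.five hS1
  have ht2 : t * t = 1 := by rw [← F.j_iP, ← map_mul, iP_sq, map_one]
  have htS : t⁻¹ * S * t = S⁻¹ := by
    rw [inv_eq_of_mul_eq_one_right ht2]
    refine eq_inv_of_mul_eq_one_left ?_
    rw [mul_assoc]; exact hSinv.inv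
  have hj23 : j = 2 ∨ j = 3 := by
    have h4 : S ^ (j * j + 1) = 1 := by
      rw [pow_succ, ← hstep, ← hjS]
      calc X⁻¹ * (X⁻¹ * S * X) * X * S = (X * X)⁻¹ * S * (X * X) * S := by group
        _ = 1 := by rw [hXX, htS, inv_mul_cancel]
    have hd := orderOf_dvd_of_pow_eq_one h4
    rw [ho] at hd
    interval_cases j <;> omega
  -- the image of `z`
  obtain ⟨k, hk, hkz, hkk, jj, hcase⟩ := hγ.image_z gv hv hzi
  obtain ⟨hmem, -⟩ | ⟨-, hno⟩ := hcase
  swap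
  · exact absurd hTz hno
  have h := List.all_eq_true.mp hks _ hmem
  simp only [Nat.beq_refl, Bool.not_true, Bool.false_or, List.any_eq_true, Bool.and_eq_true,
    Nat.blt_eq, Bool.not_eq_true', List.all_eq_true, Bool.or_eq_true] at h
  obtain ⟨⟨k', i⟩, -, ⟨⟨⟨hk', hi5⟩, hi0⟩, hz3⟩, hsq⟩ := h
  obtain rfl : k' = k := Nat.eq_of_beq_eq_true hk'
  have gk := good_yW hk
  have gsi := good_powW gs i
  have hσi' : AW (powW (5 :: hW m0) i) = σ ^ i := by rw [AW_powW, hσd]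
  have hz3' : (yP k' * σ ^ i) ^ 3 = 1 := by
    have h := (eqW_iff (good_powW (good_append gk gsi) 3) good_nil).mp hz3
    rwa [AW_powW, AW_nil, AW_append, hσi'] at h
  have hSi : γ * S ^ i * γ⁻¹ = F.j (σ ^ i) := by rw [← conj_pow, hγS, map_pow]
  obtain ⟨s, hs⟩ : ∃ s, s = S ^ i := ⟨_, rfl⟩
  have hs5' : s ^ 5 = 1 := by rw [hs, ← pow_mul, mul_comm, pow_mul, hSinv.five, one_pow]
  have hsy : Commute s (F.j (AW [2])) := hs ▸ hUy.1.pow_left i
  have hsy' : Commute s (F.j (AW [1, 2, 0])) := hs ▸ hUy.2.pow_left i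
  have hzs : (F.j pz * s) ^ 3 = 1 := by
    have e : γ * (F.j pz * s) * γ⁻¹ = F.j (yP k' * σ ^ i) := by
      rw [map_mul, hkz, ← hSi, hs]; group
    calc (F.j pz * s) ^ 3 = γ⁻¹ * (γ * (F.j pz * s) * γ⁻¹) ^ 3 * γ := by rw [conj_pow]; group
      _ = 1 := by rw [e, ← map_pow, hz3', map_one]; group
  have hsx : X⁻¹ * s * X = s ^ j := by rw [hs, hstep, ← pow_mul, mul_comm]
  have hts : t⁻¹ * s * t = s⁻¹ := by
    rw [hs, show t⁻¹ * S ^ i * t = (t⁻¹ * S * t) ^ i by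
      rw [show t⁻¹ * S * t = t⁻¹ * S * t⁻¹⁻¹ by group, conj_pow]; group, htS, inv_pow]
  have hkn : ∃ m : ℕ, F.k * s * F.k⁻¹ = s ^ m := by
    obtain ⟨fa, fb, fe, -⟩ := kP_facts
    have hc : ∀ {y : Q}, Commute S y → Commute F.k y → Commute (F.k * S * F.k⁻¹) y := fun {y} h hk => by
      have h' := commute_conj h F.k
      rwa [hk.eq, mul_inv_cancel_right] at h'
    have hX : KInv5 F Five.pe (F.k * S * F.k⁻¹) :=
      ⟨by rw [conj_pow, hSinv.five, mul_one, mul_inv_cancel], hc hSinv.ca (F.k_inner _ fa),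
        hc hSinv.cb (F.k_inner _ fb), hc hSinv.cu (F.k_inner _ fe), by
        have hkt : F.k * t * F.k⁻¹ = t := by rw [F.commute_k.eq, mul_inv_cancel_right]
        have e : F.k * (t * S * (t * S)) * F.k⁻¹ =
            F.k * t * F.k⁻¹ * (F.k * S * F.k⁻¹) * (F.k * t * F.k⁻¹ * (F.k * S * F.k⁻¹)) := by group
        rw [hSinv.inv, hkt, mul_one, mul_inv_cancel] at e
        exact e.symm⟩
    obtain ⟨m, -, hm⟩ := huniq _ hX
    rw [← hγS, conj_pow] at hm
    refine ⟨m, ?_⟩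
    rw [hs, ← conj_pow, mul_left_cancel (mul_right_cancel hm), ← pow_mul, ← pow_mul, mul_comm]
  refine ⟨s, hs5', ?_, hsy, hzs, hkn⟩
  rw [← hXd]
  rcases hj23 with rfl | rfl
  swap
  · rw [hsx, ← pow_add]; exact hs5'
  -- the other sign does not occur
  exfalso
  obtain ⟨w, hwd⟩ : ∃ w, w = AW [2, 2, 2, 0, 2, 0, 2] := ⟨_, rfl⟩
  have hxw : px2 = w * AW [0] * w⁻¹ := by
    rw [px2, AW_atom (by norm_num), c11,
      show ([2, 2, 2, 0, 2, 0, 2, 0] : List ℕ) = [2, 2, 2, 0, 2, 0, 2] ++ [0] from rfl, AW_append,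
      AW_append, AW_winv (by decide), hwd]
  have hwI : Commute s (F.j w * t) := by
    have h := hblk wBlocks hsy hsy'
    rwa [hwb, ← hwd, map_mul, F.j_iP] at h
  have hws : (F.j w)⁻¹ * s * F.j w = s⁻¹ := by
    have htw : Commute t (F.j w) := (F.commute_j w).symm
    calc (F.j w)⁻¹ * s * F.j w = (F.j w)⁻¹ * (s * (F.j w * t)) * t⁻¹ := by group
      _ = (F.j w)⁻¹ * (F.j w * t * s) * t⁻¹ := by rw [hwI.eq]
      _ = t * s * t⁻¹ := by group
      _ = s⁻¹ := by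
        rw [inv_eq_of_mul_eq_one_right ht2] at hts
        rw [inv_eq_of_mul_eq_one_right ht2]; exact hts
  have hs2w : F.j w * s * (F.j w)⁻¹ = s⁻¹ := by
    have e := congrArg (fun a => F.j w * a⁻¹ * (F.j w)⁻¹) hws
    simp only [mul_inv_rev, inv_inv] at e
    rw [← e]; group
  have hsX2 : (F.j px2)⁻¹ * s * F.j px2 = s ^ 2 := by
    rw [hxw, map_mul, map_mul, map_inv, ← hXd]
    calc (F.j w * X * (F.j w)⁻¹)⁻¹ * s * (F.j w * X * (F.j w)⁻¹)
        = F.j w * (X⁻¹ * ((F.j w)⁻¹ * s * F.j w) * X) * (F.j w)⁻¹ := by group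
      _ = F.j w * (X⁻¹ * s * X)⁻¹ * (F.j w)⁻¹ := by rw [hws]; group
      _ = (F.j w * s ^ 2 * (F.j w)⁻¹)⁻¹ := by rw [hsx]; group
      _ = s ^ 2 := by rw [← conj_pow, hs2w, inv_pow, inv_inv]
  obtain ⟨x', hx'c, hx'⟩ := hγ.transport hxa
  obtain ⟨m, hm, rfl⟩ := exists_y hx'c
  have hm2 : yP m * yP m = pa := hγ.toKPre.map_i (x' := yP m * yP m) (by
    rw [map_mul, hx', ← hx2, map_mul]; group)
  have gm := good_yW hm
  have hmem' : m ∈ sqList := by
    have h := sq_ok hm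
    simp only [Five.sqOK, strict_eq, Bool.or_eq_true, Bool.not_eq_true', List.contains_iff_mem] at h
    refine h.resolve_left fun hne => (eqW_not (good_append gm gm) (g1 5 (by norm_num))).mp hne ?_
    rw [AW_append]; exact hm2
  have hh := hsq m hmem'
  rcases hh with hh | hh
  · refine (eqW_not (good_append gsi gm) (good_append gm (good_append gsi gsi))).mp hh ?_
    rw [AW_append, AW_append, AW_append, hσi']
    refine F.inj ?_
    show F.j (σ ^ i * yP m) = F.j (yP m * (σ ^ i * σ ^ i))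
    rw [map_mul, map_mul, map_mul, hx', ← hSi, ← hs]
    calc γ * s * γ⁻¹ * (γ * F.j px2 * γ⁻¹)
        = γ * (F.j px2 * ((F.j px2)⁻¹ * s * F.j px2)) * γ⁻¹ := by group
      _ = _ := by rw [hsX2, pow_two]; group
  · refine (eqW_not (good_powW (good_append (good_powW (good_append gk gm) 3) gsi) 3) good_nil).mp hh ?_
    rw [AW_powW, AW_append, AW_powW, AW_append, hσi', AW_nil]
    refine F.inj ?_
    show F.j (((yP k' * yP m) ^ 3 * σ ^ i) ^ 3) = F.j 1
    rw [map_pow, map_mul, map_pow, map_mul, hkz, hx', ← hSi, ← hs, map_one]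
    obtain ⟨u, hud⟩ : ∃ u, u = F.j (AW [2, 1, 2, 0]) := ⟨_, rfl⟩
    have hsu : Commute s u := by
      rw [hud, show ([2, 1, 2, 0] : List ℕ) = blk [0, 1] from rfl]
      exact hblk [0, 1] hsy hsy'
    have hq2' : (F.j pz * F.j px2) ^ 3 = u⁻¹ * F.j pz * u := by
      rw [hud, ← map_mul, ← map_pow, hq2, map_mul, map_mul, map_inv]
    calc ((γ * F.j pz * γ⁻¹ * (γ * F.j px2 * γ⁻¹)) ^ 3 * (γ * s * γ⁻¹)) ^ 3
        = ((γ * (F.j pz * F.j px2) * γ⁻¹) ^ 3 * (γ * s * γ⁻¹)) ^ 3 := by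
          congr 3; group
      _ = (γ * ((F.j pz * F.j px2) ^ 3 * s) * γ⁻¹) ^ 3 := by
          rw [conj_pow]; congr 1; group
      _ = γ * ((u⁻¹ * F.j pz * u) * s) ^ 3 * γ⁻¹ := by rw [conj_pow, hq2']
      _ = γ * (u⁻¹ * (F.j pz * s) * u⁻¹⁻¹) ^ 3 * γ⁻¹ := by
          congr 3
          rw [mul_assoc _ u s, ← hsu.eq]; group
      _ = 1 := by rw [conj_pow, hzs]; group

end CfsgLib.HNStd
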