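import Cfsg.Agent.Lib.HNStd.Lift

/-!
The centraliser of `t` when the centraliser of the copy has a root of the central involution: a
chart, an element of order four and an element exchanging `t` with element 1975.
-/

set_option autoImplicit false
set_option maxRecDepth 100000
set_option maxHeartbeats 800000

namespace CfsgLib.HNStd

open CfsgLib.CosetEnum CfsgLib.DCoset CfsgLib.HN CfsgLib.HNType

/-- the centraliser of `t` with a root `k` of `t` -/
structure KF {Q : Type*} [Group Q] (t : Q) where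
  /-- the chart -/
  j : PH →* Q
  inj : Function.Injective j
  j_iP : j iP = t
  /-- the root -/
  k : Q
  k_sq : k * k = t
  k_inner : ∀ p ∈ kP, Commute k (j p)
  k_outer : ∀ p, p ∉ kP → j p * k * (j p)⁻¹ = k⁻¹
  cent : ∀ u, Commute u t → ∃ p, u = j p ∨ u = j p * k
  sep : ∀ p q, j p ≠ j q * k
  nv : ∀ a, a * t * a⁻¹ ≠ j (el 690)
  /-- the exchanging element -/
  g : Q
  g_t : g * t * g⁻¹ = j (el 1975)
  g_x : g * j (el 1975) * g⁻¹ = t

namespace KF

variable {Q : Type*} [Group Q] {t : Q} (F : KF t)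

theorem t_sq (F : KF t) : t * t = 1 := by
  have e : F.j iP * F.j iP = 1 := by rw [← map_mul, iP_sq, map_one]
  rwa [F.j_iP] at e

theorem t_ne (F : KF t) : t ≠ 1 := fun e =>
  iP_ne_one (F.inj ((F.j_iP.trans e).trans (map_one F.j).symm))

theorem t_inv (F : KF t) : t⁻¹ = t := inv_eq_of_mul_eq_one_right F.t_sq

theorem orderOf_t (F : KF t) : orderOf t = 2 :=
  CfsgLib.Invol.orderOf_two_of_mul_self F.t_sq F.t_ne

theorem commute_j (p : PH) : Commute (F.j p) t := by
  have h := (show Commute p iP from (iP_comm p).symm).map F.j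
  rwa [F.j_iP] at h

theorem commute_k : Commute F.k t := by
  have e : Commute F.k (F.k * F.k) := (Commute.refl _).mul_right (Commute.refl _)
  rwa [F.k_sq] at e

theorem k_inv : F.k⁻¹ = F.k * t := by
  refine inv_eq_of_mul_eq_one_right ?_
  rw [← mul_assoc, F.k_sq, F.t_sq]

theorem k_not_range : F.k ∉ F.j.range := fun ⟨p, hp⟩ => F.sep p 1 (by rw [hp, map_one, one_mul])

theorem j_mul_k_ne (p : PH) : F.j p * F.k ∉ F.j.range := fun ⟨q, hq⟩ => F.sep q p hq

/-- `k` moved past an element of the chart -/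
theorem k_move (p : PH) : F.k * F.j p = F.j p * F.k ∨ F.k * F.j p = F.j (p * iP) * F.k := by
  by_cases hp : p ∈ kP
  · exact Or.inl (F.k_inner p hp).eq
  · right
    have e := F.k_outer p hp
    calc F.k * F.j p = (F.k⁻¹)⁻¹ * F.j p := by rw [inv_inv]
      _ = (F.j p * F.k * (F.j p)⁻¹)⁻¹ * F.j p := by rw [e]
      _ = F.j p * F.k⁻¹ := by group
      _ = F.j p * (t * F.k) := by rw [F.k_inv, F.commute_k.eq]
      _ = F.j (p * iP) * F.k := by rw [map_mul, F.j_iP, mul_assoc]

/-- membership in the chart of a product in the centraliser -/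
theorem mul_range {u v : Q} (hu : Commute u t) (hv : Commute v t) :
    u * v ∈ F.j.range ↔ (u ∈ F.j.range ↔ v ∈ F.j.range) := by
  obtain ⟨p, rfl | rfl⟩ := F.cent u hu
  · exact (F.j.range.mul_mem_cancel_left ⟨p, rfl⟩).trans (iff_iff_implies_and_implies.trans
      ⟨fun h => h.1 ⟨p, rfl⟩, fun h => ⟨fun _ => h, fun _ => ⟨p, rfl⟩⟩⟩).symm
  obtain ⟨q, rfl | rfl⟩ := F.cent v hv
  · refine iff_of_false ?_ fun h => F.j_mul_k_ne p (h.mpr ⟨q, rfl⟩)
    rcases F.k_move q with e | e <;> rw [mul_assoc, e, ← mul_assoc, ← map_mul] <;>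
      exact F.j_mul_k_ne _
  · refine iff_of_true ?_ (iff_of_false (F.j_mul_k_ne p) (F.j_mul_k_ne q))
    rcases F.k_move q with e | e <;>
      rw [show F.j p * F.k * (F.j q * F.k) = F.j p * (F.k * F.j q) * F.k by group, e,
        mul_assoc, mul_assoc, F.k_sq] <;>
      exact F.j.range.mul_mem ⟨_, rfl⟩ (F.j.range.mul_mem ⟨_, rfl⟩ ⟨iP, F.j_iP⟩)

theorem conj_range {c u : Q} (hc : Commute c t) (hu : Commute u t) :
    c * u * c⁻¹ ∈ F.j.range ↔ u ∈ F.j.range := by
  rw [F.mul_range (hc.mul_left hu) hc.inv_left, F.mul_range hc hu, inv_mem_iff]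
  tauto

theorem sq_range {u : Q} (hu : Commute u t) : u * u ∈ F.j.range :=
  (F.mul_range hu hu).mpr Iff.rfl

theorem pow_range {u : Q} (hu : Commute u t) {n : ℕ} (hn : Odd n) (h1 : u ^ n = 1) :
    u ∈ F.j.range := by
  obtain ⟨r, rfl⟩ := hn
  have h2 : u ^ (2 * r) ∈ F.j.range := by
    rw [pow_mul, pow_two]; exact F.j.range.pow_mem (F.sq_range hu) r
  rw [pow_succ] at h1
  have : u = (u ^ (2 * r))⁻¹ := eq_inv_of_mul_eq_one_right h1
  rw [this]; exact F.j.range.inv_mem h2

theorem commute_k_j {p : PH} : Commute (F.j p) F.k ↔ p ∈ kP := by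
  refine ⟨fun h => ?_, fun hp => (F.k_inner p hp).symm⟩
  by_contra hp
  have e := F.k_outer p hp
  rw [h.eq, mul_inv_cancel_right, F.k_inv, left_eq_mul] at e
  exact F.t_ne e

theorem commute_k_jk {p : PH} : Commute (F.j p * F.k) F.k ↔ p ∈ kP := by
  rw [← F.commute_k_j]
  refine ⟨fun h => ?_, fun h => h.mul_left (Commute.refl _)⟩
  have := h.mul_left ((Commute.refl F.k).inv_left)
  rwa [mul_inv_cancel_right] at this

/-- an element of the centraliser not commuting with `k` is multiplied by `t` -/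
theorem k_conj {u : Q} (hu : Commute u t) (hk : ¬ Commute u F.k) : F.k * u * F.k⁻¹ = u * t := by
  have key : ∀ p, p ∉ kP → F.k * F.j p * F.k⁻¹ = F.j p * t := fun p hp => by
    rcases F.k_move p with e | e
    · exact absurd (F.commute_k_j.mp (show Commute (F.j p) F.k from e.symm)) hp
    · rw [e, mul_inv_cancel_right, map_mul, F.j_iP]
  obtain ⟨p, rfl | rfl⟩ := F.cent u hu
  · exact key p (fun h => hk (F.commute_k_j.mpr h))
  · rw [show F.k * (F.j p * F.k) * F.k⁻¹ = F.k * F.j p * F.k⁻¹ * F.k by group,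
      key p (fun h => hk (F.commute_k_jk.mpr h)), mul_assoc, ← F.commute_k.eq, mul_assoc]

theorem sq_inner {u : Q} (hu : Commute u t) : ∃ q ∈ kP, F.j q = u * u := by
  obtain ⟨p, rfl | rfl⟩ := F.cent u hu
  · exact ⟨p * p, Subgroup.mul_self_mem_of_index_two index_kP p, map_mul _ _ _⟩
  · have hp2 := Subgroup.mul_self_mem_of_index_two index_kP p
    rcases F.k_move p with e | e
    · refine ⟨p * p * iP, kP.mul_mem hp2 iP_kP, ?_⟩
      rw [show F.j p * F.k * (F.j p * F.k) = F.j p * (F.k * F.j p) * F.k by group, e]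
      simp only [map_mul, mul_assoc, F.k_sq, F.j_iP]
    · refine ⟨p * (p * iP) * iP, by rw [← mul_assoc p p iP, mul_assoc, iP_sq, mul_one]; exact hp2, ?_⟩
      rw [show F.j p * F.k * (F.j p * F.k) = F.j p * (F.k * F.j p) * F.k by group, e]
      simp only [map_mul, mul_assoc, F.k_sq, F.j_iP]

/-- the partner of a conjugate commuting with `t` commutes with it -/
theorem partner {a : Q} (h : Commute (a * t * a⁻¹) t) : Commute (a⁻¹ * t * a) t := by
  show a⁻¹ * t * a * t = t * (a⁻¹ * t * a)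
  calc a⁻¹ * t * a * t = a⁻¹ * (t * (a * t * a⁻¹)) * a := by group
    _ = a⁻¹ * ((a * t * a⁻¹) * t) * a := by rw [h.eq]
    _ = _ := by group

/-- if the partner commutes with `k` the conjugate is a square in the centraliser -/
theorem sq_of_partner {a : Q} (h : Commute (a⁻¹ * t * a) F.k) :
    ∃ q ∈ kP, F.j q = a * t * a⁻¹ := by
  have hc : Commute (a * F.k * a⁻¹) t := by
    show a * F.k * a⁻¹ * t = t * (a * F.k * a⁻¹)
    calc a * F.k * a⁻¹ * t = a * (F.k * (a⁻¹ * t * a)) * a⁻¹ := by group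
      _ = a * ((a⁻¹ * t * a) * F.k) * a⁻¹ := by rw [h.eq]
      _ = _ := by group
  obtain ⟨q, hq, e⟩ := F.sq_inner hc
  exact ⟨q, hq, e.trans (by
    rw [show a * F.k * a⁻¹ * (a * F.k * a⁻¹) = a * (F.k * F.k) * a⁻¹ by group, F.k_sq])⟩

/-- A conjugate of `t` commuting with `t` and `k` lies in the inner chart, with its partner. -/
theorem T_inner {a : Q} (hut : Commute (a * t * a⁻¹) t) (huk : Commute (a * t * a⁻¹) F.k) :
    (∃ q ∈ kP, F.j q = a * t * a⁻¹) ∧ ∃ q ∈ kP, F.j q = a⁻¹ * t * a := by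
  obtain ⟨q, hq, e⟩ : ∃ q ∈ kP, F.j q = a⁻¹ * t * a := by
    obtain ⟨q, hq, e⟩ := F.sq_of_partner (a := a⁻¹) (by rw [inv_inv]; exact huk)
    exact ⟨q, hq, e.trans (by rw [inv_inv])⟩
  exact ⟨F.sq_of_partner (e ▸ F.commute_k_j.mpr hq), q, hq, e⟩

theorem mem_of_T_inner {u : Q} (hT : IsConj t u) (hut : Commute u t) (huk : Commute u F.k) :
    ∃ q ∈ kP, F.j q = u := by
  obtain ⟨a, rfl⟩ := isConj_iff.mp hT
  exact (F.T_inner hut huk).1

/-- an inner element outside the chart is not conjugate to `t` -/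
theorem not_T_coset {u : Q} (hut : Commute u t) (huk : Commute u F.k) (hu : u ∉ F.j.range) :
    ¬ IsConj t u := fun hT => by
  obtain ⟨q, -, e⟩ := F.mem_of_T_inner hT hut huk
  exact hu ⟨q, e⟩

/-- two commuting outer elements whose product is inner outside the chart are not both conjugate
to `t` -/
theorem two_compl {x y : Q} (hxt : Commute x t) (hyt : Commute y t) (hxk : ¬ Commute x F.k)
    (hxy : Commute x y) (hk : Commute (y * x) F.k) (hr : y * x ∉ F.j.range)
    (hTx : IsConj t x) (hTy : IsConj t y) : False := by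
  obtain ⟨a, ha⟩ := isConj_iff.mp hTx
  obtain ⟨x', hx'⟩ : ∃ x', a⁻¹ * t * a = x' := ⟨_, rfl⟩
  obtain ⟨y', hy'⟩ : ∃ y', a⁻¹ * y * a = y' := ⟨_, rfl⟩
  have hx't : Commute x' t := hx' ▸ partner (ha ▸ hxt)
  have hx'k : ¬ Commute x' F.k := fun h => by
    obtain ⟨q, hq, e⟩ := F.sq_of_partner (hx' ▸ h)
    rw [ha] at e
    exact hxk (e ▸ F.commute_k_j.mpr hq)
  have hy't : Commute y' t := by
    show y' * t = t * y'
    calc y' * t = a⁻¹ * (y * (a * t * a⁻¹)) * a := by rw [← hy']; group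
      _ = a⁻¹ * ((a * t * a⁻¹) * y) * a := by rw [ha, hxy.eq]
      _ = _ := by rw [← hy']; group
  have hTy' : IsConj t y' := hTy.trans (isConj_iff.mpr ⟨a⁻¹, by rw [inv_inv, hy']⟩)
  have hTk : ∀ {u : Q}, Commute u t → ¬ Commute u F.k → IsConj t u → IsConj t (u * t) :=
    fun {u} hu huk h => h.trans (isConj_iff.mpr ⟨F.k, F.k_conj hu huk⟩)
  have back : ∀ {u : Q}, IsConj t (a⁻¹ * u * a) → IsConj t u := fun {u} h =>
    h.trans (isConj_iff.mpr ⟨a, by group⟩)
  have htk : Commute t F.k := F.commute_k.symm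
  -- the two products which are not conjugate
  have h1 : ¬ IsConj t (y' * t) := fun h => F.not_T_coset (hyt.mul_left hxt) hk hr (back (by
    rw [← ha, show a⁻¹ * (y * (a * t * a⁻¹)) * a = a⁻¹ * y * a * t by group, hy']; exact h))
  have h2 : ¬ IsConj t (y' * x' * t) := fun h => by
    have hr' : y * t * x ∉ F.j.range := by
      rw [show y * t * x = y * x * t by rw [mul_assoc, ← hxt.eq, mul_assoc]]
      exact fun hm => hr ((F.j.range.mul_mem_cancel_right ⟨iP, F.j_iP⟩).mp hm)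
    refine F.not_T_coset ((hyt.mul_left (Commute.refl t)).mul_left hxt) ?_ hr' (back ?_)
    · rw [mul_assoc, ← hxt.eq, ← mul_assoc]; exact hk.mul_left htk
    · rw [← ha, show a⁻¹ * (y * t * (a * t * a⁻¹)) * a = a⁻¹ * y * a * (a⁻¹ * t * a) * t by group, hy', hx']
      exact h
  by_cases hy'k : Commute y' F.k
  · have hu : ¬ Commute (y' * x') F.k := fun h => hx'k (by
      have := hy'k.inv_left.mul_left h
      rwa [inv_mul_cancel_left] at this)
    have hT : IsConj t (y' * x') := (hTk hyt (fun h => hxk (by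
      have := h.inv_left.mul_left hk
      rwa [inv_mul_cancel_left] at this)) hTy).trans (isConj_iff.mpr ⟨a⁻¹, by
        rw [← hy', ← hx']; group⟩)
    exact h2 (hTk (hy't.mul_left hx't) hu hT)
  · exact h1 (hTk hy't hy'k hTy')

open scoped _root_.Classical in
/-- the other complement -/
noncomputable def twist : KF t where
  j := MonoidHom.mk' (fun p => F.j p * if p ∈ kP then 1 else F.k) fun p q => by
    have mv : ∀ {r : PH}, r ∉ kP → F.k * F.j r = F.j r * (t * F.k) := fun {r} hr => by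
      rcases F.k_move r with e | e
      · exact absurd (F.commute_k_j.mp (show Commute (F.j r) F.k from e.symm)) hr
      · rw [e, map_mul, F.j_iP, mul_assoc]
    by_cases hp : p ∈ kP <;> by_cases hq : q ∈ kP
    · rw [if_pos hp, if_pos hq, if_pos (kP.mul_mem hp hq), map_mul]; group
    · rw [if_pos hp, if_neg hq, if_neg (fun h => hq ((kP.mul_mem_cancel_left hp).mp h)), map_mul]; group
    · rw [if_neg hp, if_pos hq, if_neg (fun h => hp ((kP.mul_mem_cancel_right hq).mp h)), map_mul,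
        show F.j p * F.k * (F.j q * 1) = F.j p * (F.k * F.j q) by group, (F.k_inner q hq).eq, mul_assoc]
    · rw [if_neg hp, if_neg hq, if_pos ((Subgroup.mul_mem_iff_of_index_two index_kP).mpr (iff_of_false hp hq)),
        map_mul, show F.j p * F.k * (F.j q * F.k) = F.j p * (F.k * F.j q) * F.k by group, mv hq,
        show F.j p * (F.j q * (t * F.k)) * F.k = F.j p * F.j q * (t * (F.k * F.k)) by group, F.k_sq, F.t_sq]
  inj := fun p q h => by
    have h' : F.j p * (if p ∈ kP then 1 else F.k) = F.j q * (if q ∈ kP then 1 else F.k) := h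
    by_cases hp : p ∈ kP <;> by_cases hq : q ∈ kP <;>
      simp only [hp, hq, if_true, if_false, mul_one] at h'
    · exact F.inj h'
    · exact absurd h' (F.sep p q)
    · exact absurd h'.symm (F.sep q p)
    · exact F.inj (mul_right_cancel h')
  j_iP := by
    show F.j iP * (if iP ∈ kP then 1 else F.k) = t
    rw [if_pos iP_kP, mul_one, F.j_iP]
  k := F.k
  k_sq := F.k_sq
  k_inner := fun p hp => by
    show Commute F.k (F.j p * if p ∈ kP then 1 else F.k)
    rw [if_pos hp, mul_one]; exact F.k_inner p hp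
  k_outer := fun p hp => by
    show F.j p * (if p ∈ kP then 1 else F.k) * F.k * (F.j p * if p ∈ kP then 1 else F.k)⁻¹ = F.k⁻¹
    rw [if_neg hp, show F.j p * F.k * F.k * (F.j p * F.k)⁻¹ = F.j p * F.k * (F.j p)⁻¹ by group, F.k_outer p hp]
  cent := fun u hu => by
    obtain ⟨p, hp⟩ := F.cent u hu
    show ∃ p, u = F.j p * (if p ∈ kP then 1 else F.k) ∨ u = F.j p * (if p ∈ kP then 1 else F.k) * F.k
    by_cases hK : p ∈ kP
    · exact ⟨p, by rw [if_pos hK, mul_one]; exact hp⟩
    · rcases hp with hp | hp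
      · refine ⟨p * iP, Or.inr ?_⟩
        rw [if_neg (fun h => hK ((kP.mul_mem_cancel_right iP_kP).mp h)), map_mul, F.j_iP, mul_assoc, F.k_sq,
          mul_assoc, F.t_sq, mul_one]
        exact hp
      · exact ⟨p, Or.inl (by rw [if_neg hK]; exact hp)⟩
  sep := fun p q h => by
    have h' : F.j p * (if p ∈ kP then 1 else F.k) = F.j q * (if q ∈ kP then 1 else F.k) * F.k := h
    by_cases hp : p ∈ kP <;> by_cases hq : q ∈ kP <;>
      simp only [hp, hq, if_true, if_false, mul_one] at h'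
    · exact F.sep p q h'
    · have e : F.j p = F.j (q * iP) := by rw [h', mul_assoc, F.k_sq, map_mul, F.j_iP]
      rw [F.inj e] at hp
      exact hq ((kP.mul_mem_cancel_right iP_kP).mp hp)
    · exact hp (by rw [F.inj (mul_right_cancel h')]; exact hq)
    · exact F.sep p q (mul_right_cancel h')
  nv := fun a => by
    show a * t * a⁻¹ ≠ F.j (el 690) * (if el 690 ∈ kP then 1 else F.k)
    rw [if_pos el690_kP, mul_one]; exact F.nv a
  g := F.g
  g_t := by
    show F.g * t * F.g⁻¹ = F.j (el 1975) * (if el 1975 ∈ kP then 1 else F.k)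
    rw [if_pos el1975_kP, mul_one, F.g_t]
  g_x := by
    show F.g * (F.j (el 1975) * (if el 1975 ∈ kP then 1 else F.k)) * F.g⁻¹ = t
    rw [if_pos el1975_kP, mul_one, F.g_x]

theorem twist_j {p : PH} : (p ∈ kP → F.twist.j p = F.j p) ∧ (p ∉ kP → F.twist.j p = F.j p * F.k) := by
  classical
  refine ⟨fun h => ?_, fun h => ?_⟩
  · show F.j p * (if p ∈ kP then 1 else F.k) = _
    rw [if_pos h, mul_one]
  · show F.j p * (if p ∈ kP then 1 else F.k) = _
    rw [if_neg h]

end KF

/-- the frame in the quotient -/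
theorem exists_KF {G : Type*} [Group G] [Finite G] {c : Ctx G} {Q : Type*} [Group Q] (R : Red c Q) {k : G}
    (hk : k ∈ c.K) (hk2 : k * k = c.z) :
    ∃ F : KF R.t, F.k = R.r k ∧ F.g = R.r R.g ∧ ∀ p ∈ kP, F.j p = R.ι p := by
  obtain ⟨Fr, hm, hkk, ho, htw, hx⟩ := R.exists_outer (m := 2) (k := k) ⟨hk, Or.inr ⟨rfl, hk2⟩⟩
  obtain ⟨Fs, -, -, -, -, hx'⟩ := R.symm.exists_outer (m := 2) (k := k) ⟨hk, Or.inr ⟨rfl, hk2⟩⟩
  have hx' : R.x' = el 1975 := hx'
  obtain ⟨j, hj, hinj, hjt, hsurj⟩ := Fr.exists_hom ho htw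
  obtain ⟨-, -, hkt⟩ := Fr.k_not hm
  rw [hkk] at hsurj hkt
  have hι : ∀ p ∈ kP, j p = R.ι p := fun p hp => by rw [hj, Frame.e, if_pos hp]; rfl
  have hkM := R.hN (c.K_le_N hk)
  have hout : ∀ p, p ∉ kP → j p * R.r k * (j p)⁻¹ = (R.r k)⁻¹ := by
    intro p hp
    have hel : ∀ {q : PH}, q ∉ kP → q ∈ CX → j q * R.r k * (j q)⁻¹ = (R.r k)⁻¹ := fun {q} hq hqX => by
      have hqH : q ∈ Fr.H := by rw [Frame.H, ho]; exact Subgroup.mem_top q
      have hd := R.pair.outer_inverts hk hk2 (Fr.acts_e hqH) hq hqX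
      have heM := Fr.e_mem_M hqH
      have h1 := (R.r_eq_one (R.M.mul_mem (R.M.mul_mem (R.M.mul_mem heM hkM) (R.M.inv_mem heM)) hkM)).mpr hd
      rw [R.r_mul (R.M.mul_mem (R.M.mul_mem heM hkM) (R.M.inv_mem heM)) hkM, R.r_conj heM hkM, ← hj] at h1
      exact eq_inv_of_mul_eq_one_left h1
    have h1K := four_facts.2.2.1
    obtain ⟨q, hq, rfl⟩ : ∃ q ∈ kP, p = el 1 * q := ⟨(el 1)⁻¹ * p, Frame.rest_kP hp, by group⟩
    have hc : Commute (j q) (R.r k) := by
      rw [hι q hq]
      show R.r (c.f q) * R.r k = R.r k * R.r (c.f q)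
      rw [← R.r_mul (R.hN (c.f_mem_N hq)) hkM, ← R.r_mul hkM (R.hN (c.f_mem_N hq)), (c.mem_K.mp hk q hq).eq]
    rw [map_mul, show j (el 1) * j q * R.r k * (j (el 1) * j q)⁻¹ =
      j (el 1) * (j q * R.r k * (j q)⁻¹) * (j (el 1))⁻¹ by group, hc.eq, mul_inv_cancel_right]
    exact hel h1K (T_le_CX (el_mem (by norm_num)))
  have hgt : R.r R.g * R.t * (R.r R.g)⁻¹ = j (el 1975) := by
    rw [hι _ el1975_kP, ← hx]
    show R.r R.g * R.r c.z * _ = R.r (c.f R.x)
    rw [← R.r_conj R.hg (R.hN c.z_mem_N), R.pair.fwd]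
  refine ⟨{ j := j, inj := hinj, j_iP := hjt, k := R.r k, k_sq := hkt, k_inner := fun p hp => ?_,
            k_outer := hout, cent := fun u hu => ?_, sep := fun p q h => ?_, nv := fun a h => ?_,
            g := R.r R.g, g_t := hgt, g_x := ?_ }, rfl, rfl, hι⟩
  · rw [hι p hp]
    show R.r k * R.r (c.f p) = R.r (c.f p) * R.r k
    rw [← R.r_mul hkM (R.hN (c.f_mem_N hp)), ← R.r_mul (R.hN (c.f_mem_N hp)) hkM, (c.mem_K.mp hk p hp).eq]
  · obtain ⟨p, i, hi, e⟩ := hsurj u hu
    rw [hm] at hi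
    interval_cases i
    · exact ⟨p, Or.inl (by rw [← e, pow_zero, mul_one])⟩
    · exact ⟨p, Or.inr (by rw [← e, pow_one])⟩
  · have htop : ∀ v : PH, v ∈ Fr.H := fun v => by rw [Frame.H, ho]; exact Subgroup.mem_top v
    have := (Fr.E_inj (htop p) (htop q) (i := 0) (j := 1) (by omega) (by omega)
      (by rw [Frame.E, Frame.E, hkk, ← hj, ← hj, pow_zero, pow_one, mul_one]; exact h)).2
    exact absurd this (by norm_num)
  · obtain ⟨⟨u, hu⟩, rfl⟩ := R.surj a
    rw [hι _ el690_kP, ← R.r_coe] at h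
    obtain ⟨b, hb⟩ := isConj_iff.mp (isConj_of_image R.surj R.odd_ker
      (s := (⟨c.z, R.hN c.z_mem_N⟩ : ↥R.M)) (s' := ⟨c.f (el 690), R.hN (c.f_mem_N el690_kP)⟩)
      (Subtype.ext c.z_sq)
      (Subtype.ext (by show c.f _ * c.f _ = 1; rw [← c.map_mul _ _ el690_kP el690_kP, sq_el690, c.f_one]))
      (isConj_iff.mpr ⟨R.π ⟨u, hu⟩, by rw [← R.r_coe, ← R.r_coe, ← R.r_coe]; exact h⟩))
    exact Fr.not_conj_690 ho htw b (congrArg Subtype.val hb)
  · rw [hι _ el1975_kP]
    show R.r R.g * R.r (c.f (el 1975)) * (R.r R.g)⁻¹ = R.r c.z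
    rw [← R.r_conj R.hg (R.hN (c.f_mem_N el1975_kP)), ← hx', ← R.pair.bwd]
    congr 1; group

end CfsgLib.HNStd
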