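import Cfsg.Agent.Lib.HNStd.KFrame
import Cfsg.Agent.Lib.HNStd.KCheck
import Cfsg.Agent.Lib.HNType.FiveP

/-!
An element exchanging `t` and `a` in a centraliser with a root of `t`: the centraliser of `a` is
moved into the chart.
-/

set_option autoImplicit false
set_option maxRecDepth 100000
set_option maxHeartbeats 1600000

namespace CfsgLib.HNStd

open CfsgLib.CosetEnum CfsgLib.DCoset CfsgLib.HN CfsgLib.HNType CfsgLib.HNType.Five
open scoped Pointwise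

variable {Q : Type*} [Group Q] {t : Q}

/-- conjugation preserves commuting -/
theorem commute_conj {M : Type*} [Group M] {a b : M} (h : Commute a b) (g : M) :
    Commute (g * a * g⁻¹) (g * b * g⁻¹) := h.map (MulAut.conj g).toMonoidHom

/-- an element exchanging `t` and `a` and fixing `e` -/
structure KPre (F : KF t) (γ : Q) : Prop where
  a_t : γ * F.j pa * γ⁻¹ = t
  t_a : γ * t * γ⁻¹ = F.j pa
  e_e : γ * F.j Five.pe * γ⁻¹ = F.j Five.pe

theorem exists_pre [Finite Q] (F : KF t) : ∃ γ, KPre F γ := by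
  have : Fact (Nat.Prime 5) := ⟨by norm_num⟩
  haveI := finite_PH
  obtain ⟨γ0, hγ0⟩ : ∃ γ0, γ0 = (F.j pc)⁻¹ * F.g * F.j pc := ⟨_, rfl⟩
  have hpa : F.j pa = (F.j pc)⁻¹ * F.j (el 1975) * F.j pc := by
    rw [extra_facts.1, map_mul, map_mul, map_inv]
  have htc : t * F.j pc = F.j pc * t := (F.commute_j pc).eq.symm
  have h0a : γ0 * F.j pa * γ0⁻¹ = t := by
    calc γ0 * F.j pa * γ0⁻¹ = (F.j pc)⁻¹ * (F.g * F.j (el 1975) * F.g⁻¹) * F.j pc := by
          rw [hγ0, hpa]; group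
      _ = (F.j pc)⁻¹ * (t * F.j pc) := by rw [F.g_x, mul_assoc]
      _ = t := by rw [htc, inv_mul_cancel_left]
  have h0t : γ0 * t * γ0⁻¹ = F.j pa := by
    calc γ0 * t * γ0⁻¹ = (F.j pc)⁻¹ * F.g * (F.j pc * t) * (F.j pc)⁻¹ * F.g⁻¹ * F.j pc := by
          rw [hγ0]; group
      _ = (F.j pc)⁻¹ * (F.g * t * F.g⁻¹) * F.j pc := by rw [← htc]; group
      _ = _ := by rw [F.g_t, hpa]
  -- make it fix `e`
  let Y : Subgroup PH := Subgroup.centralizer ({pa} : Set PH)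
  have hY : ∀ x, x ∈ Y ↔ Commute x pa := fun x => Subgroup.mem_centralizer_singleton_iff
  have hYc : Nat.card ↥Y = 30720 := by
    refine (Nat.card_eq_of_bijective (fun n : Fin 30720 => (⟨yP n, (hY _).mpr (yP_comm n.2)⟩ : ↥Y))
      ⟨fun a b h => Fin.ext (yP_injective a.2 b.2 (congrArg Subtype.val h)), fun y => ?_⟩).symm.trans
      (Nat.card_fin _)
    obtain ⟨n, hn, h⟩ := exists_y ((hY _).mp y.2)
    exact ⟨⟨n, hn⟩, Subtype.ext h⟩
  obtain ⟨-, -, -, -, -, -, -, -, -, -, -, -, -, -, hae, he5, he1, -⟩ := base_facts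
  obtain ⟨e0, he0c, he0⟩ : ∃ e0, Commute e0 pa ∧ F.j e0 = γ0 * F.j Five.pe * γ0⁻¹ := by
    have hc : Commute (γ0 * F.j Five.pe * γ0⁻¹) t :=
      Eq.mp (congrArg (Commute _) h0a) (commute_conj (hae.symm.map F.j) γ0)
    obtain ⟨x', hx'⟩ := F.pow_range hc (n := 5) ⟨2, rfl⟩ (by
      rw [conj_pow, ← map_pow, he5, map_one, mul_one, mul_inv_cancel])
    refine ⟨x', F.inj ?_, hx'⟩
    rw [map_mul, map_mul, hx']
    exact (Eq.mp (congrArg (Commute _) h0t) (commute_conj (F.commute_j Five.pe) γ0)).eq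
  have he05 : e0 ^ 5 = 1 := F.inj (by
    rw [map_pow, he0, conj_pow, ← map_pow, he5, map_one]; group)
  have he01 : e0 ≠ 1 := fun h => he1 (F.inj (by
    rw [h, map_one] at he0; rw [map_one]; exact conj_eq_one_iff.mp he0.symm))
  obtain ⟨c1, hc1, j, hj⟩ : ∃ c1, Commute c1 pa ∧ ∃ j < 5, c1 * e0 * c1⁻¹ = Five.pe ^ j := by
    let E : ↥Y := ⟨Five.pe, (hY _).mpr hae.symm⟩
    have hE : orderOf E = 5 := orderOf_eq_prime (Subtype.ext he5) fun h => he1 (congrArg Subtype.val h)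
    have hEi : ¬ 5 ∣ (Subgroup.zpowers E).index := by
      have h := (Subgroup.zpowers E).card_mul_index
      rw [Nat.card_zpowers, hE, hYc] at h
      omega
    have hxp : IsPGroup 5 (Subgroup.zpowers (⟨e0, (hY _).mpr he0c⟩ : ↥Y)) :=
      IsPGroup.of_card (n := 1) (by
        rw [Nat.card_zpowers, pow_one]
        exact orderOf_eq_prime (Subtype.ext he05) fun h => he01 (congrArg Subtype.val h))
    obtain ⟨P, hP⟩ := hxp.exists_le_sylow
    obtain ⟨c1, hc1⟩ := MulAction.exists_smul_eq ↥Y P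
      ((IsPGroup.of_card (G := ↥(Subgroup.zpowers E)) (n := 1)
        (by rw [Nat.card_zpowers, hE, pow_one])).toSylow hEi)
    have hmem : MulAut.conj c1 ⟨e0, (hY _).mpr he0c⟩ ∈ ((c1 • P : Sylow 5 ↥Y) : Subgroup ↥Y) := by
      rw [Sylow.coe_subgroup_smul]
      exact Subgroup.smul_mem_pointwise_smul _ (MulAut.conj c1) _ (hP (Subgroup.mem_zpowers _))
    rw [hc1] at hmem
    obtain ⟨k, hk⟩ := Subgroup.mem_zpowers_iff.mp
      (show MulAut.conj c1 ⟨e0, (hY _).mpr he0c⟩ ∈ Subgroup.zpowers E from hmem)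
    refine ⟨c1.1, (hY _).mp c1.2, (k % (5 : ℕ)).toNat, by omega, ?_⟩
    rw [show k = (k % (5 : ℕ)) + (5 : ℕ) * (k / (5 : ℕ)) from (Int.emod_add_mul_ediv k _).symm, zpow_add,
      zpow_mul, zpow_natCast E, ← hE, pow_orderOf_eq_one, one_zpow, mul_one, hE] at hk
    have hk' := congrArg Subtype.val hk
    rw [show k % ((5 : ℕ) : ℤ) = ((k % ((5 : ℕ) : ℤ)).toNat : ℤ) from
      (Int.toNat_of_nonneg (Int.emod_nonneg _ (by norm_num))).symm, zpow_natCast] at hk'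
    exact hk'.symm
  obtain ⟨c2, hc2, hj2⟩ : ∃ c2, Commute c2 pa ∧ c2 * Five.pe ^ j * c2⁻¹ = Five.pe := by
    have hy := yP_comm (show 134 < 30720 by norm_num)
    have hy2 : (yP 134)⁻¹ * Five.pe * yP 134 = Five.pe * Five.pe := by
      rw [mul_assoc, extra_facts.2.2.1, inv_mul_cancel_left]
    have hd2 : ∀ k : ℕ, (yP 134)⁻¹ * Five.pe ^ k * yP 134 = Five.pe ^ (2 * k) := fun k => by
      have h : ((yP 134)⁻¹ * Five.pe * (yP 134)⁻¹⁻¹) ^ k = (yP 134)⁻¹ * Five.pe ^ k * (yP 134)⁻¹⁻¹ := conj_pow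
      simp only [inv_inv] at h
      rw [← h, hy2, pow_mul, pow_two]
    have hpw : ∀ k, Five.pe ^ k = Five.pe ^ (k % 5) := fun k => by
      conv_lhs => rw [← Nat.mod_add_div k 5, pow_add, pow_mul, he5, one_pow, mul_one]
    obtain ⟨hj5, hje⟩ := hj
    have hj0 : j ≠ 0 := fun h => by
      rw [h, pow_zero] at hje
      exact he01 (conj_eq_one_iff.mp hje)
    have h1 : yP 134 * Five.pe ^ (2 * j) * (yP 134)⁻¹ = Five.pe ^ j := by rw [← hd2]; group
    interval_cases j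
    · exact absurd rfl hj0
    · exact ⟨1, Commute.one_left _, by rw [one_mul, inv_one, mul_one, pow_one]⟩
    · refine ⟨yP 134, hy, ?_⟩
      calc yP 134 * Five.pe ^ 2 * (yP 134)⁻¹ = yP 134 * Five.pe ^ (2 * 1) * (yP 134)⁻¹ := by rw [Nat.mul_one]
        _ = Five.pe := by rw [← hd2]; simp only [pow_one]; group
    · refine ⟨(yP 134)⁻¹, hy.inv_left, ?_⟩
      rw [inv_inv, hd2, hpw, show 2 * 3 % 5 = 1 by norm_num, pow_one]
    · refine ⟨yP 134 * yP 134, hy.mul_left hy, ?_⟩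
      calc yP 134 * yP 134 * Five.pe ^ 4 * (yP 134 * yP 134)⁻¹
          = yP 134 * (yP 134 * Five.pe ^ (2 * 2) * (yP 134)⁻¹) * (yP 134)⁻¹ := by
            rw [show 2 * 2 = 4 by norm_num]; group
        _ = yP 134 * Five.pe ^ (2 * 1) * (yP 134)⁻¹ := by rw [← hd2, Nat.mul_one]; group
        _ = Five.pe := by rw [← hd2]; simp only [pow_one]; group
  refine ⟨F.j (c2 * c1) * γ0, ?_, ?_, ?_⟩
  · calc _ = F.j (c2 * c1) * (γ0 * F.j pa * γ0⁻¹) * (F.j (c2 * c1))⁻¹ := by group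
      _ = t := by rw [h0a, (F.commute_j _).eq, mul_inv_cancel_right]
  · calc _ = F.j (c2 * c1) * (γ0 * t * γ0⁻¹) * (F.j (c2 * c1))⁻¹ := by group
      _ = _ := by rw [h0t, ((hc2.mul_left hc1).map F.j).eq, mul_inv_cancel_right]
  · calc _ = F.j (c2 * c1) * (γ0 * F.j Five.pe * γ0⁻¹) * (F.j (c2 * c1))⁻¹ := by group
      _ = F.j (c2 * (c1 * e0 * c1⁻¹) * c2⁻¹) := by
        rw [← he0]; simp only [map_mul, map_inv]; group
      _ = _ := by rw [hj.2, hj2]


/-- the element of the group attached to `h` is conjugate to `t` -/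
def KT (F : KF t) (h : PH) : Prop := IsConj t (F.j h)

variable {F : KF t}

theorem kt_conj (g h : PH) : KT F (g⁻¹ * h * g) ↔ KT F h := by
  have e : IsConj (F.j h) (F.j (g⁻¹ * h * g)) :=
    isConj_iff.mpr ⟨(F.j g)⁻¹, by simp only [map_mul, map_inv, inv_inv]⟩
  exact ⟨fun hh => hh.trans e.symm, fun hh => hh.trans e⟩

theorem not_kt_pa_iP : ¬ KT F (pa * iP) := by
  rw [pa_iP, kt_conj]
  intro h
  obtain ⟨g, hg⟩ := isConj_iff.mp h
  exact F.nv g hg

theorem not_kt_hP_iP (i : ℕ) : ¬ KT F (hP i * iP) := by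
  rw [show hP i * iP = (gP i)⁻¹ * (pa * iP) * gP i by
    rw [hP, mul_assoc _ (gP i) iP, ← iP_comm (gP i)]; group, kt_conj]
  exact not_kt_pa_iP

namespace KPre

variable {γ : Q} (hγ : KPre F γ)
include hγ

theorem tt_iff {x x' : PH} (h : F.j x' = γ * F.j x * γ⁻¹) : KT F x' ↔ KT F x := by
  have e : IsConj (F.j x) (F.j x') := isConj_iff.mpr ⟨γ, h.symm⟩
  exact ⟨fun hh => hh.trans e.symm, fun hh => hh.trans e⟩

theorem tt_pa : KT F pa := isConj_iff.mpr ⟨γ, hγ.t_a⟩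

theorem tt_hP (i : ℕ) : KT F (hP i) := (kt_conj (gP i) pa).mpr hγ.tt_pa

theorem tt_pb : KT F pb := by rw [pb_conj, kt_conj]; exact hγ.tt_pa

theorem map_a {x' : PH} (h : F.j x' = γ * F.j pa * γ⁻¹) : x' = iP :=
  F.inj (by rw [h, hγ.a_t, F.j_iP])

theorem map_i {x' : PH} (h : F.j x' = γ * F.j iP * γ⁻¹) : x' = pa :=
  F.inj (by rw [h, F.j_iP, hγ.t_a])

/-- the image of an element of the centraliser of `a` centralises `t` -/
theorem comm_t {x : PH} (hx : Commute x pa) : Commute (γ * F.j x * γ⁻¹) t :=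
  Eq.mp (congrArg (Commute _) hγ.a_t) (commute_conj (hx.map F.j) γ)

theorem comm_pa {x x' : PH} (h : F.j x' = γ * F.j x * γ⁻¹) : Commute x' pa := by
  have e : Commute (F.j x') (F.j pa) :=
    h.symm ▸ Eq.mp (congrArg (Commute _) hγ.t_a) (commute_conj (F.commute_j x) γ)
  exact F.inj (by rw [map_mul, map_mul]; exact e.eq)

theorem commute_sq : Commute (γ * γ) t := by
  show γ * γ * t = t * (γ * γ)
  calc γ * γ * t = γ * (γ * t * γ⁻¹) * γ⁻¹ * (γ * γ) := by group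
    _ = _ := by rw [hγ.t_a, hγ.a_t]

theorem image_word {v : PH} (hv : F.j v = γ * F.j pb * γ⁻¹) (w : List ℕ) :
    F.j (evEB Five.pe v w) = γ * F.j (evEB Five.pe pb w) * γ⁻¹ := by
  rw [map_evEB, map_evEB, hv]
  conv_lhs => rw [← hγ.e_e]
  exact (map_evEB (MulAut.conj γ).toMonoidHom (F.j Five.pe) (F.j pb) w).symm

end KPre


theorem conj_back {g x : PH} (h : g⁻¹ * x * g ∈ kP) : x ∈ kP := by
  have := conj_kP g⁻¹ h
  simpa [mul_assoc] using this

/-- the image of `b` is one of the listed elements -/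
theorem KPre.image_b {γ : Q} (hγ : KPre F γ) (hvr : γ * F.j pb * γ⁻¹ ∈ F.j.range) :
    ∃ n < 30720, F.j (yP n) = γ * F.j pb * γ⁻¹ ∧ KT F (yP n) ∧ ¬ KT F (yP n * pa) ∧
      ((∃ e ∈ pCases, e.1 = n) ∨ ∃ e ∈ qCases, e.1 = n) := by
  obtain ⟨-, -, -, -, -, -, -, hbb, hab, -, -, -, -, -, hae, -, -, -, -, -, -, -, -, haW, haWe, -, -,
    heb, -⟩ := base_facts
  obtain ⟨v, hv⟩ := hvr
  have hvc : Commute v pa := hγ.comm_pa hv
  obtain ⟨n, hn, rfl⟩ := exists_y hvc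
  have hsq : yP n * yP n = 1 := F.inj (by
    rw [map_mul, map_one, hv, show γ * F.j pb * γ⁻¹ * (γ * F.j pb * γ⁻¹) =
      γ * (F.j pb * F.j pb) * γ⁻¹ by group, ← map_mul, hbb, map_one]; group)
  have hmap : ∀ w : List ℕ,
      F.j (evEB Five.pe (yP n) w) = γ * F.j (evEB Five.pe pb w) * γ⁻¹ := fun w => by
    rw [map_evEB, map_evEB, hv]
    conv_lhs => rw [← hγ.e_e]
    exact (map_evEB (MulAut.conj γ).toMonoidHom (F.j Five.pe) (F.j pb) w).symm
  have hgy := good_yW hn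
  have hinv : n ∈ invList := by
    have h := inv_ok hn
    simp only [Five.invOK, strict_eq, Bool.or_eq_true, Bool.not_eq_true', List.contains_iff_mem] at h
    refine h.resolve_left fun hne => ?_
    exact (eqW_not (good_append hgy hgy) good_nil).mp hne (by rw [AW_append, AW_nil]; exact hsq)
  have hev : evEB Five.pe (yP n) aWord = iP := hγ.map_a (by rw [hmap, ← AW_evEB haW, haWe])
  have h6 : (Five.pe * yP n) ^ 6 = 1 := F.inj (by
    rw [map_pow, map_mul, hv, map_one]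
    conv_lhs => rw [← hγ.e_e, show γ * F.j Five.pe * γ⁻¹ * (γ * F.j pb * γ⁻¹) =
      γ * (F.j Five.pe * F.j pb) * γ⁻¹ by group, conj_pow, ← map_mul, ← map_pow, heb, map_one]
    group)
  refine ⟨n, hn, hv, (hγ.tt_iff hv).mpr (by rw [pb_conj, kt_conj]; exact hγ.tt_pa), ?_, ?_⟩
  · have hbi : F.j (yP n * pa) = γ * F.j (pb * iP) * γ⁻¹ := by
      rw [map_mul, hv, ← hγ.t_a, map_mul, F.j_iP]; group
    rw [hγ.tt_iff hbi, show pb * iP = pr⁻¹ * (pa * iP) * pr by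
      rw [pb_conj, mul_assoc _ pr iP, ← iP_comm pr]; group, kt_conj]
    exact not_kt_pa_iP
  · have h := cand_ok
    simp only [candOK, List.all_eq_true, Bool.and_eq_true, Bool.or_eq_true, Bool.not_eq_true',
      List.any_eq_true] at h
    rcases (h n hinv).2 with ((h | h) | ⟨e, he, h⟩) | ⟨e, he, h⟩
    · exfalso
      exact (eqW_not (good_substB haW hgy) (good_cons (by norm_num) (good_cons (by norm_num) good_nil))).mp h
        (by rw [AW_substB haW, iP_AW]; exact hev)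
    · exfalso
      exact (eqW_not (good_powW (good_cons (by norm_num) hgy) 6) good_nil).mp h
        (by rw [AW_powW, AW_cons, AW_nil]; exact h6)
    · exact Or.inl ⟨e, he, Nat.eq_of_beq_eq_true h⟩
    · exact Or.inr ⟨e, he, Nat.eq_of_beq_eq_true h⟩


/-- an exchanging element moving the centraliser of `a` into the chart -/
structure KS (F : KF t) (γ : Q) : Prop extends KPre F γ where
  tr : ∀ x, Commute x pa → γ * F.j x * γ⁻¹ ∈ F.j.range

theorem KS.transport {γ : Q} (hγ : KS F γ) {x : PH} (hx : Commute x pa) :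
    ∃ x', Commute x' pa ∧ F.j x' = γ * F.j x * γ⁻¹ := by
  obtain ⟨x', hx'⟩ := hγ.tr x hx
  exact ⟨x', hγ.toKPre.comm_pa hx', hx'⟩

theorem KPre.toKS {γ : Q} (hγ : KPre F γ) (hvr : γ * F.j pb * γ⁻¹ ∈ F.j.range) : KS F γ := by
  refine ⟨hγ, ?_⟩
  obtain ⟨fa, fb, fe, fr, fq, fz, fd, f12⟩ := kP_facts
  obtain ⟨n, hn, hv, -, -, hcase⟩ := hγ.image_b hvr
  -- the image of `b` is outer
  have hout : yP n ∉ kP := by
    have gv := good_yW hn
    rcases hcase with ⟨e, he, rfl⟩ | ⟨e, he, rfl⟩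
    · have h := List.all_eq_true.mp pCases_ok _ he
      simp only [pCaseOK, Bool.and_eq_true, Nat.blt_eq, Bool.not_eq_true'] at h
      obtain ⟨⟨⟨⟨⟨⟨⟨⟨⟨⟨⟨⟨⟨⟨⟨⟨-, hcv⟩, -⟩, -⟩, -⟩, -⟩, hvz⟩, -⟩, -⟩, -⟩, -⟩, -⟩, -⟩, -⟩, -⟩, -⟩, -⟩ := h
      have e' := (eqW_iff gv (good_append (good_winv hcv) (good_cons (by norm_num) (good_lets hcv)))).mp hvz
      rw [AW_append, AW_winv hcv, AW_cons 4, ← mul_assoc] at e'
      rw [yP, e']
      exact fun h => fz (conj_back h)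
    · have h := List.all_eq_true.mp qCases_ok _ he
      simp only [qCaseOK, Bool.and_eq_true, Nat.blt_eq] at h
      obtain ⟨⟨⟨⟨⟨⟨⟨-, hdv⟩, -⟩, hvd⟩, -⟩, -⟩, -⟩, -⟩ := h
      have e' := (eqW_iff gv (good_append (good_append (good_winv hdv) (good_yW (by decide))) (good_lets hdv))).mp hvd
      rw [AW_append, AW_append, AW_winv hdv] at e'
      rw [yP, e']
      exact fun h => fd (conj_back h)
  have hcent12 : Commute (AW [12]) pa := (coset_facts.2.1 0 (by norm_num)).2.2.1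
  have hpiece : ∀ i < 15, ∀ c, c = 6 ∨ c = 8 → Commute ((AW [16 + i])⁻¹ * AW [c] * AW [16 + i]) pa ∧
      (AW [16 + i])⁻¹ * AW [c] * AW [16 + i] ∈ kP ∧
      γ * F.j ((AW [16 + i])⁻¹ * AW [c] * AW [16 + i]) * γ⁻¹ ∈ F.j.range := by
    intro i hi c hc
    have hr := (coset_facts.2.2 i hi).1
    obtain ⟨-, -, -, -, -, -, -, hbb, hab, -, -, -, -, -, hae, he5, -⟩ := base_facts
    obtain ⟨hcK, hcc, hcr⟩ : AW [c] ∈ kP ∧ Commute (AW [c]) pa ∧ γ * F.j (AW [c]) * γ⁻¹ ∈ F.j.range := by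
      rcases hc with rfl | rfl
      · exact ⟨fb, hab.symm, hvr⟩
      · exact ⟨fe, hae.symm, ⟨Five.pe, hγ.e_e.symm⟩⟩
    refine ⟨(hr.inv_left.mul_left hcc).mul_left hr, conj_kP _ hcK, ?_⟩
    rw [show γ * F.j ((AW [16 + i])⁻¹ * AW [c] * AW [16 + i]) * γ⁻¹ =
      (γ * F.j (AW [16 + i]) * γ⁻¹)⁻¹ * (γ * F.j (AW [c]) * γ⁻¹) * (γ * F.j (AW [16 + i]) * γ⁻¹)⁻¹⁻¹ by
        rw [map_mul, map_mul, map_inv]; group]
    exact (F.conj_range (hγ.comm_t hr).inv_left (hγ.comm_t hcc)).mpr hcr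
  have hmul : ∀ {x y : PH}, Commute x pa → Commute y pa →
      (γ * F.j (x * y) * γ⁻¹ ∈ F.j.range ↔
        (γ * F.j x * γ⁻¹ ∈ F.j.range ↔ γ * F.j y * γ⁻¹ ∈ F.j.range)) := fun {x y} hx hy => by
    rw [show γ * F.j (x * y) * γ⁻¹ = γ * F.j x * γ⁻¹ * (γ * F.j y * γ⁻¹) by rw [map_mul]; group]
    exact F.mul_range (hγ.comm_t hx) (hγ.comm_t hy)
  have h1 : γ * F.j (1 : PH) * γ⁻¹ ∈ F.j.range := by
    rw [map_one, mul_one, mul_inv_cancel]; exact F.j.range.one_mem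
  have hinv : ∀ {x : PH}, Commute x pa → (γ * F.j x⁻¹ * γ⁻¹ ∈ F.j.range ↔ γ * F.j x * γ⁻¹ ∈ F.j.range) :=
    fun {x} _ => by
    rw [show γ * F.j x⁻¹ * γ⁻¹ = (γ * F.j x * γ⁻¹)⁻¹ by rw [map_inv]; group, inv_mem_iff]
  -- atom 12 is moved into the chart
  have h12 : γ * F.j (AW [12]) * γ⁻¹ ∈ F.j.range := by
    by_contra h12
    let S : Subgroup PH :=
      { carrier := {x | Commute x pa ∧ (γ * F.j x * γ⁻¹ ∈ F.j.range ↔ x ∈ kP)}
        one_mem' := ⟨Commute.one_left _, iff_of_true h1 kP.one_mem⟩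
        mul_mem' := fun {x y} hx hy => ⟨hx.1.mul_left hy.1, by
          rw [hmul hx.1 hy.1, hx.2, hy.2, Subgroup.mul_mem_iff_of_index_two index_kP]⟩
        inv_mem' := fun {x} hx => ⟨hx.1.inv_left, by rw [hinv hx.1, hx.2, inv_mem_iff]⟩ }
    have hS : yP n ∈ S := cent_induction (S := S)
      (fun i hi c hc => let ⟨h1, h2, h3⟩ := hpiece i hi c hc; ⟨h1, iff_of_true h3 h2⟩)
      ⟨hcent12, iff_of_false h12 f12⟩ (yP_comm hn)
    refine hout (hS.2.mp ?_)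
    rw [hv, show γ * (γ * F.j pb * γ⁻¹) * γ⁻¹ = γ * γ * F.j pb * (γ * γ)⁻¹ by group]
    exact (F.conj_range hγ.commute_sq (F.commute_j pb)).mpr ⟨pb, rfl⟩
  intro x hx
  let S : Subgroup PH :=
    { carrier := {x | Commute x pa ∧ γ * F.j x * γ⁻¹ ∈ F.j.range}
      one_mem' := ⟨Commute.one_left _, h1⟩
      mul_mem' := fun {x y} hx hy => ⟨hx.1.mul_left hy.1, (hmul hx.1 hy.1).mpr (iff_of_true hx.2 hy.2)⟩
      inv_mem' := fun {x} hx => ⟨hx.1.inv_left, (hinv hx.1).mpr hx.2⟩ }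
  exact (cent_induction (S := S) (fun i hi c hc => let ⟨h1, _, h3⟩ := hpiece i hi c hc; ⟨h1, h3⟩)
    ⟨hcent12, h12⟩ hx).2

/-- one of the two complements has such an element -/
theorem exists_KS [Finite Q] (F : KF t) :
    ∃ F' : KF t, F'.k = F.k ∧ (∀ p ∈ kP, F'.j p = F.j p) ∧ ∃ γ, KS F' γ := by
  obtain ⟨γ, hγ⟩ := exists_pre F
  obtain ⟨fa, fb, fe, -⟩ := kP_facts
  by_cases hvr : γ * F.j pb * γ⁻¹ ∈ F.j.range
  · exact ⟨F, rfl, fun _ _ => rfl, γ, hγ.toKS hvr⟩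
  obtain ⟨-, -, -, -, -, -, -, hbb, hab, -⟩ := base_facts
  have hvt := hγ.comm_t hab.symm
  have hT : IsConj t (γ * F.j pb * γ⁻¹) := hγ.tt_pb.trans (isConj_iff.mpr ⟨γ, rfl⟩)
  have hvk : ¬ Commute (γ * F.j pb * γ⁻¹) F.k := fun h => by
    obtain ⟨q, -, e⟩ := F.mem_of_T_inner hT hvt h
    exact hvr ⟨q, e⟩
  obtain ⟨p, hp | hp⟩ := F.cent _ hvt
  · exact absurd ⟨p, hp.symm⟩ hvr
  have hpK : p ∉ kP := fun h => hvk (hp ▸ F.commute_k_jk.mpr h)
  have hj : ∀ q ∈ kP, F.twist.j q = F.j q := fun q hq => (F.twist_j (p := q)).1 hq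
  have hγ' : KPre F.twist γ := ⟨by rw [hj _ fa]; exact hγ.a_t, by rw [hj _ fa]; exact hγ.t_a,
    by rw [hj _ fe]; exact hγ.e_e⟩
  refine ⟨F.twist, rfl, hj, γ, hγ'.toKS ⟨p, ?_⟩⟩
  rw [(F.twist_j (p := p)).2 hpK, hj _ fb, hp]

/-- the image of `z` -/
theorem KS.image_z {γ : Q} (hγ : KS F γ) {v : List ℕ} (hgv : Good v)
    (hv : F.j (AW v) = γ * F.j pb * γ⁻¹) {zl : List (ℕ × ℕ × ℕ)} (hzl : zImgOK v zl = true) :
    ∃ k < 30720, F.j (yP k) = γ * F.j pz * γ⁻¹ ∧ yP k * yP k = 1 ∧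
      ∃ j, ((k, 4, j) ∈ zl ∧ KT F pz) ∨ ((k, 5, j) ∈ zl ∧ ¬ KT F pz) := by
  obtain ⟨-, -, -, -, -, -, haa, -, -, -, -, -, hza, -, -, -, -, -, -, -, -, -, -, -, -, -, -, -, -, -,
    -, -, -, hF, -⟩ := base_facts
  obtain ⟨-, -, -, hzz, hz1, hzA, hzi, hzia, -⟩ := extra_facts
  obtain ⟨z', hz'c, hz'⟩ := hγ.transport hza
  obtain ⟨k, hk, rfl⟩ := exists_y hz'c
  have hsq : yP k * yP k = 1 := F.inj (by
    rw [map_mul, map_one, hz', show γ * F.j pz * γ⁻¹ * (γ * F.j pz * γ⁻¹) =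
      γ * (F.j pz * F.j pz) * γ⁻¹ by group, ← map_mul, hzz, map_one]; group)
  refine ⟨k, hk, hz', hsq, ?_⟩
  have hgy := good_yW hk
  have hinv : k ∈ invList := by
    have h := inv_ok hk
    simp only [Five.invOK, strict_eq, Bool.or_eq_true, Bool.not_eq_true', List.contains_iff_mem] at h
    refine h.resolve_left fun hne => ?_
    exact (eqW_not (good_append hgy hgy) good_nil).mp hne (by rw [AW_append, AW_nil]; exact hsq)
  simp only [zImgOK, List.all_eq_true, Bool.or_eq_true, Bool.not_eq_true', List.any_eq_true,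
    Bool.and_eq_true] at hzl
  rcases hzl k hinv with h | ⟨⟨k', kind, j⟩, he, hk', hkind⟩
  · exfalso
    rw [← Bool.not_eq_true, List.all_eq_true] at h
    refine h fun f hf => ?_
    obtain ⟨hfm, hfc⟩ := hF f hf
    rw [commW_iff hgy (good_substB hfm hgv), AW_substB hfm]
    refine F.inj ?_
    have e : F.j (evEB Five.pe pb f) * F.j pz = F.j pz * F.j (evEB Five.pe pb f) := by
      rw [← map_mul, ← map_mul, ← AW_evEB hfm, hfc.eq]
    rw [map_mul, map_mul, hγ.toKPre.image_word hv, ← yP, hz']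
    calc γ * F.j pz * γ⁻¹ * (γ * F.j (evEB Five.pe pb f) * γ⁻¹)
        = γ * (F.j pz * F.j (evEB Five.pe pb f)) * γ⁻¹ := by group
      _ = _ := by rw [← e]; group
  · obtain rfl : k' = k := Nat.eq_of_beq_eq_true hk'
    have hinj : ∀ {x : PH}, F.j (yP k') = γ * F.j x * γ⁻¹ → pz = x := fun {x} h =>
      F.inj (mul_left_cancel (mul_right_cancel (hz'.symm.trans h)))
    simp only [kindOK, Bool.or_eq_true, Bool.and_eq_true, Nat.blt_eq] at hkind
    rcases hkind with ((((⟨-, h⟩ | ⟨-, h⟩) | ⟨-, h⟩) | ⟨-, h⟩) | ⟨⟨hn, hj⟩, h⟩) | ⟨⟨hn, hj⟩, h⟩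
    · exfalso
      have e : yP k' = 1 := (eqW_iff hgy good_nil).mp h
      exact hz1 (hinj (by rw [e, map_one]; group))
    · exfalso
      have e : yP k' = AW [0, 0] := (eqW_iff hgy (good_cons (by norm_num) (good_cons (by norm_num) good_nil))).mp h
      exact hzA (hinj (by rw [e, iP_AW, hγ.a_t, F.j_iP]))
    · exfalso
      have e : yP k' = pa := (eqW_iff hgy (good_cons (by norm_num) good_nil)).mp h
      exact hzi (hinj (by rw [e, F.j_iP, hγ.t_a]))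
    · exfalso
      have e : yP k' = AW [5, 0, 0] := (eqW_iff hgy
        (good_cons (by norm_num) (good_cons (by norm_num) (good_cons (by norm_num) good_nil)))).mp h
      rw [AW_cons, iP_AW] at e
      refine hzia (hinj ?_)
      rw [e, map_mul, map_mul]
      show F.j pa * F.j iP = _
      rw [F.j_iP]
      calc F.j pa * t = γ * t * γ⁻¹ * (γ * F.j pa * γ⁻¹) := by rw [hγ.t_a, hγ.a_t]
        _ = _ := by group
    · obtain rfl : kind = 4 := Nat.eq_of_beq_eq_true hn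
      refine ⟨j, Or.inl ⟨he, ?_⟩⟩
      rw [← hγ.toKPre.tt_iff hz', show yP k' = hP j from ((eqW_iff hgy (good_hW hj)).mp h).trans (AW_hW hj)]
      exact hγ.toKPre.tt_hP j
    · obtain rfl : kind = 5 := Nat.eq_of_beq_eq_true hn
      refine ⟨j, Or.inr ⟨he, ?_⟩⟩
      have e := (eqW_iff (good_append hgy (good_cons (by norm_num) (good_cons (by norm_num) good_nil)))
        (good_hW hj)).mp h
      rw [AW_append, iP_AW, AW_hW hj] at e
      rw [← hγ.toKPre.tt_iff hz', show yP k' = hP j * iP by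
        rw [← e, mul_assoc, iP_sq, mul_one]; rfl]
      exact not_kt_hP_iP j

end CfsgLib.HNStd
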