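import Cfsg.Agent.Lib.HNStd.Quot

/-!
Lifting two-groups through a kernel of odd order; the second central involution is not conjugate to
the first.
-/

set_option autoImplicit false
set_option maxRecDepth 100000
set_option maxHeartbeats 800000

namespace CfsgLib.HNStd

open CfsgLib.CosetEnum CfsgLib.DCoset CfsgLib.HN CfsgLib.HNType
open scoped Pointwise

/-- a homomorphism with kernel of odd order and a two-group as image is a bijection on a Sylow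
subgroup -/
theorem exists_two_lift {U Q : Type*} [Group U] [Group Q] [Finite U] (φ : U →* Q)
    (hodd : Odd (Nat.card ↥φ.ker)) {a : ℕ} (hr : Nat.card ↥φ.range = 2 ^ a) :
    ∃ P : Sylow 2 U, Nat.card ↥(P : Subgroup U) = 2 ^ a ∧
      (∀ q ∈ φ.range, ∃ p ∈ (P : Subgroup U), φ p = q) ∧
      ∀ p ∈ (P : Subgroup U), ∀ q ∈ (P : Subgroup U), φ p = φ q → p = q := by
  have : Fact (Nat.Prime 2) := ⟨Nat.prime_two⟩
  obtain ⟨P⟩ := (inferInstance : Nonempty (Sylow 2 U))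
  have hinj : ∀ p ∈ (P : Subgroup U), ∀ q ∈ (P : Subgroup U), φ p = φ q → p = q := by
    intro p hp q hq h
    have hk : p⁻¹ * q ∈ φ.ker := by rw [MonoidHom.mem_ker, map_mul, map_inv, h, inv_mul_cancel]
    obtain ⟨n, hn⟩ := P.isPGroup' ⟨p⁻¹ * q, mul_mem (inv_mem hp) hq⟩
    have h2 : orderOf (p⁻¹ * q) ∣ 2 ^ n := orderOf_dvd_of_pow_eq_one (congrArg Subtype.val hn)
    have ho : Odd (orderOf (p⁻¹ * q)) := hodd.of_dvd_nat (Subgroup.orderOf_dvd_natCard _ hk)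
    obtain ⟨i, -, hi⟩ := (Nat.dvd_prime_pow Nat.prime_two).mp h2
    have h1 : orderOf (p⁻¹ * q) = 1 := by
      rcases Nat.eq_zero_or_pos i with h0 | h0
      · rw [hi, h0, pow_zero]
      · exact absurd (hi ▸ (Nat.even_pow.mpr ⟨even_two, h0.ne'⟩)) (Nat.not_even_iff_odd.mpr ho)
    exact inv_mul_eq_one.mp (orderOf_eq_one_iff.mp h1)
  have hcard : Nat.card ↥(P : Subgroup U) = Nat.card ↥((P : Subgroup U).map φ) :=
    Nat.card_eq_of_bijective (fun p => (⟨φ p, Subgroup.mem_map_of_mem φ p.2⟩ : ↥((P : Subgroup U).map φ)))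
      ⟨fun p q h => Subtype.ext (hinj p p.2 q q.2 (congrArg Subtype.val h)),
        fun ⟨_, p, hp, e⟩ => ⟨⟨p, hp⟩, Subtype.ext e⟩⟩
  have hle : (P : Subgroup U).map φ ≤ φ.range := Subgroup.map_le_range φ _
  have hdvd : 2 ^ a ∣ Nat.card ↥(P : Subgroup U) := by
    have h1 : 2 ^ a ∣ Nat.card U := by
      rw [← hr, ← Subgroup.index_ker]; exact φ.ker.index_dvd_card
    rw [← (P : Subgroup U).card_mul_index] at h1
    exact (((Nat.prime_two.coprime_iff_not_dvd).mpr P.not_dvd_index).pow_left a).dvd_of_dvd_mul_right h1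
  haveI : Finite ↥φ.range := Finite.of_surjective φ.rangeRestrict φ.rangeRestrict_surjective
  have heq : (P : Subgroup U).map φ = φ.range := Subgroup.eq_of_le_of_card_ge hle (by
    rw [hr, ← hcard]; exact Nat.le_of_dvd Nat.card_pos hdvd)
  refine ⟨P, by rw [hcard, heq, hr], fun q hq => ?_, hinj⟩
  rw [← heq] at hq
  obtain ⟨p, hp, e⟩ := hq
  exact ⟨p, hp, e⟩

namespace Frame

variable {G : Type*} [Group G] [Finite G] {c : Ctx G} {Q : Type*} [Group Q] {R : Red c Q} (F : Frame R)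

include F in
/-- element 690 of the copy is not conjugate to the central involution -/
theorem not_conj_690 (ho : F.out = true) (htw : F.tw = false) (h : G) :
    h * c.z * h⁻¹ ≠ c.f (el 690) := by
  intro hh
  haveI := R.finite_Q
  have : Fact (Nat.Prime 2) := ⟨Nat.prime_two⟩
  have hiT : iP ∈ T := iP_eq ▸ el_mem (by norm_num)
  let U : Subgroup G :=
    { carrier := {u | u ∈ c.N ∧ ∃ p ∈ T, c.Acts u p}
      one_mem' := ⟨c.N.one_mem, 1, T.one_mem, c.acts_one⟩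
      mul_mem' := fun ⟨hu, p, hp, hpu⟩ ⟨hv, q, hq, hqv⟩ => ⟨c.N.mul_mem hu hv, p * q, T.mul_mem hp hq, hpu.mul hqv⟩
      inv_mem' := fun ⟨hu, p, hp, hpu⟩ => ⟨c.N.inv_mem hu, p⁻¹, T.inv_mem hp, hpu.inv⟩ }
  let φ : ↥U →* Q := MonoidHom.mk' (fun u => R.r u) fun u v => R.r_mul (R.hN u.2.1) (R.hN v.2.1)
  have hrange : φ.range = R.Aq T := by
    ext q
    constructor
    · rintro ⟨⟨u, hu, hp⟩, rfl⟩; exact ⟨u, hu, rfl, hp⟩
    · rintro ⟨u, hu, rfl, hp⟩; exact ⟨⟨u, hu, hp⟩, rfl⟩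
  obtain ⟨a, ha⟩ : ∃ a, F.m = 2 ^ a := F.hm.elim (fun h => ⟨0, h.1⟩) fun h => ⟨1, h.1⟩
  have hcT : Nat.card ↥φ.range = 2 ^ (11 + a) := by
    rw [hrange, F.card_Aq hiT, Frame.H, ho, cond_true, top_inf_eq, card_T, ha, pow_add]
    norm_num
  have hkerD : φ.ker = (c.D R.g).subgroupOf U := by
    ext u
    rw [MonoidHom.mem_ker, Subgroup.mem_subgroupOf]
    exact R.r_eq_one (R.hN u.2.1)
  have hodd : Odd (Nat.card ↥φ.ker) := by
    rw [hkerD]
    exact R.pair.odd_D.of_dvd_nat (Subgroup.card_comap_dvd_of_injective _ _ U.subtype_injective)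
  obtain ⟨P, hPc, hPs, hPi⟩ := exists_two_lift φ hodd hcT
  obtain ⟨P', hP'⟩ : ∃ P' : Subgroup G, P' = (P : Subgroup ↥U).map U.subtype := ⟨_, rfl⟩
  have hP'c : Nat.card ↥P' = 2 ^ (11 + a) := by
    rw [hP', Subgroup.card_map_of_injective U.subtype_injective, hPc]
  have hmemU : ∀ {u : G}, u ∈ P' → ∃ hu : u ∈ U, (⟨u, hu⟩ : ↥U) ∈ (P : Subgroup ↥U) := fun {u} hu => by
    rw [hP'] at hu
    obtain ⟨⟨v, hv⟩, hvP, rfl⟩ := hu
    exact ⟨hv, hvP⟩
  -- Sylow in the centraliser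
  have hP'N : P' ≤ c.N := fun u hu => (hmemU hu).1.1
  have hNidx : ¬ 2 ∣ (P'.subgroupOf c.N).index := by
    let ψ : ↥c.N →* Q := MonoidHom.mk' (fun u => R.r u) fun u v => R.r_mul (R.hN u.2) (R.hN v.2)
    have hψ : ψ.range = R.Aq ⊤ := by
      ext q
      constructor
      · rintro ⟨⟨u, hu⟩, rfl⟩
        obtain ⟨p, hp⟩ := c.exists_acts hu
        exact ⟨u, hu, rfl, p, Subgroup.mem_top p, hp⟩
      · rintro ⟨u, hu, rfl, -⟩; exact ⟨⟨u, hu⟩, rfl⟩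
    have hk : ψ.ker = (c.D R.g).subgroupOf c.N := by
      ext u
      rw [MonoidHom.mem_ker, Subgroup.mem_subgroupOf]
      exact R.r_eq_one (R.hN u.2)
    have h1 : Odd (Nat.card ↥ψ.ker) := by
      rw [hk]
      exact R.pair.odd_D.of_dvd_nat (Subgroup.card_comap_dvd_of_injective _ _ c.N.subtype_injective)
    have h2 := ψ.ker.card_mul_index
    rw [Subgroup.index_ker, hψ, F.card_Aq (Subgroup.mem_top _), Frame.H, ho, cond_true, top_inf_eq,
      Subgroup.card_top, ha, show Nat.card PH = 177408000 from card_P] at h2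
    have h3 := (P'.subgroupOf c.N).card_mul_index
    rw [(Nat.card_congr (Subgroup.subgroupOfEquivOfLe hP'N).toEquiv).trans hP'c, ← h2,
      show (177408000 : ℕ) = 2 ^ 11 * 86625 by norm_num,
      show Nat.card ↥ψ.ker * (2 ^ 11 * 86625 * 2 ^ a) = 2 ^ (11 + a) * (Nat.card ↥ψ.ker * 86625) by ring] at h3
    rw [Nat.eq_of_mul_eq_mul_left (Nat.two_pow_pos _) h3]
    exact fun h => Nat.not_even_iff_odd.mpr (h1.mul (by decide : Odd 86625)) (even_iff_two_dvd.mpr h)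
  have hcv : ∀ {u : G}, u ∈ P' → Commute u (c.f (el 690)) := fun {u} hu => by
    obtain ⟨⟨-, p, hp, hpu⟩, -⟩ := hmemU hu
    exact (hpu.commute el690_kP).mpr (central_three (Or.inr (Or.inl rfl)) p hp)
  have hinto : ∀ u ∈ P', h⁻¹ * u * h ∈ c.N := fun u hu => c.mem_N.mpr (by
    show h⁻¹ * u * h * c.z = c.z * (h⁻¹ * u * h)
    calc h⁻¹ * u * h * c.z = h⁻¹ * (u * (h * c.z * h⁻¹)) * h := by group
      _ = h⁻¹ * ((h * c.z * h⁻¹) * u) * h := by rw [hh, (hcv hu).eq]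
      _ = _ := by group)
  obtain ⟨S, hS⟩ : ∃ S : Subgroup G, S = P'.map (MulAut.conj h⁻¹).toMonoidHom := ⟨_, rfl⟩
  have hSN : S ≤ c.N := by
    rw [hS]; rintro _ ⟨u, hu, rfl⟩
    show h⁻¹ * u * h⁻¹⁻¹ ∈ c.N
    rw [inv_inv]; exact hinto u hu
  have hpc : ∀ {A : Subgroup G}, A ≤ c.N → Nat.card ↥A = 2 ^ (11 + a) → ¬ 2 ∣ (A.subgroupOf c.N).index := by
    intro A hA hc
    have e1 := (A.subgroupOf c.N).card_mul_index
    have e2 := (P'.subgroupOf c.N).card_mul_index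
    rw [(Nat.card_congr (Subgroup.subgroupOfEquivOfLe hA).toEquiv).trans hc, ← e2,
      (Nat.card_congr (Subgroup.subgroupOfEquivOfLe hP'N).toEquiv).trans hP'c] at e1
    rw [Nat.eq_of_mul_eq_mul_left (Nat.two_pow_pos _) e1]
    exact hNidx
  have hSc : Nat.card ↥S = 2 ^ (11 + a) := by
    rw [hS]; exact (Subgroup.card_map_of_injective (MulEquiv.injective _)).trans hP'c
  have sy : ∀ {A : Subgroup G} (hA : A ≤ c.N), Nat.card ↥A = 2 ^ (11 + a) →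
      ∃ P0 : Sylow 2 ↥c.N, (P0 : Subgroup ↥c.N) = A.subgroupOf c.N := fun {A} hA hc =>
    ⟨(IsPGroup.of_card ((Nat.card_congr (Subgroup.subgroupOfEquivOfLe hA).toEquiv).trans hc)).toSylow
      (hpc hA hc), rfl⟩
  obtain ⟨S0, hS0⟩ := sy hSN hSc
  obtain ⟨P0, hP0⟩ := sy hP'N hP'c
  obtain ⟨e, he⟩ := MulAction.exists_smul_eq ↥c.N S0 P0
  obtain ⟨d, hd⟩ : ∃ d, d = (e : G) * h⁻¹ := ⟨_, rfl⟩
  have hnorm : ∀ u ∈ P', d * u * d⁻¹ ∈ P' := by
    intro u hu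
    have hmS : h⁻¹ * u * h⁻¹⁻¹ ∈ S := by rw [hS]; exact ⟨u, hu, rfl⟩
    have hmem : (⟨h⁻¹ * u * h⁻¹⁻¹, hSN hmS⟩ : ↥c.N) ∈ S.subgroupOf c.N :=
      Subgroup.mem_subgroupOf.mpr hmS
    have h3 := Subgroup.smul_mem_pointwise_smul _ (MulAut.conj e) _ hmem
    have h4 : (MulAut.conj e • S.subgroupOf c.N : Subgroup ↥c.N) = P'.subgroupOf c.N := by
      rw [← hS0, ← hP0, ← Sylow.coe_subgroup_smul, he]
    rw [h4, Subgroup.mem_subgroupOf] at h3
    have e5 : ((MulAut.conj e • (⟨h⁻¹ * u * h⁻¹⁻¹, hSN hmS⟩ : ↥c.N) : ↥c.N) : G) =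
        d * u * d⁻¹ := by
      show (e : G) * (h⁻¹ * u * h⁻¹⁻¹) * (e : G)⁻¹ = _
      rw [hd]; group
    rwa [e5] at h3
  have hdz : d * c.f (el 690) * d⁻¹ = c.z := by
    rw [hd, show (e : G) * h⁻¹ * c.f (el 690) * ((e : G) * h⁻¹)⁻¹ = (e : G) * (h⁻¹ * c.f (el 690) * h) * (e : G)⁻¹ by
      group, ← hh, show h⁻¹ * (h * c.z * h⁻¹) * h = c.z by group, (c.mem_N.mp e.2).eq, mul_inv_cancel_right]
  have hMz := R.hN c.z_mem_N
  have hM690 := R.hN (c.f_mem_N el690_kP)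
  -- transfer of the counts
  have hP'M : ∀ {u : G}, u ∈ P' → u ∈ R.M := fun hu => R.hN (hP'N hu)
  have hroot : ∀ {v : PH}, v ∈ kP → c.f v ∈ P' →
      Nat.card {q : ↥(R.Aq T) // (q : Q) * q = R.ι v} = Nat.card {u : ↥P' // (u : G) * u = c.f v} := by
    intro v hv hvP
    refine (Nat.card_congr (Equiv.subtypeEquiv (Equiv.ofBijective (fun u : ↥P' =>
      (⟨R.r u, ⟨u, hP'N u.2, rfl, (hmemU u.2).1.2⟩⟩ : ↥(R.Aq T))) ⟨fun u u' e => ?_, fun q => ?_⟩)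
      fun u => ?_)).symm
    · obtain ⟨hu, huP⟩ := hmemU u.2
      obtain ⟨hu', huP'⟩ := hmemU u'.2
      exact Subtype.ext (congrArg U.subtype (hPi _ huP _ huP' (congrArg Subtype.val e)))
    · obtain ⟨p, hp, e⟩ := hPs q.1 (by rw [hrange]; exact q.2)
      exact ⟨⟨p.1, by rw [hP']; exact ⟨p, hp, rfl⟩⟩, Subtype.ext e⟩
    · show (u : G) * u = c.f v ↔ R.r u * R.r u = R.ι v
      rw [Red.ι, ← R.r_mul (hP'M u.2) (hP'M u.2)]
      refine ⟨fun e => by rw [e], fun e => ?_⟩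
      obtain ⟨h1, h1P⟩ := hmemU (P'.mul_mem u.2 u.2)
      obtain ⟨h2, h2P⟩ := hmemU hvP
      exact congrArg Subtype.val (hPi _ h1P _ h2P e)
  -- both central involutions lie in the lift
  have hin : ∀ {v : PH}, v ∈ kP → v ∈ T → (∀ p ∈ T, Commute p v) → v * v = 1 → c.f v ∈ P' := by
    intro v hv hvT hcen hv2
    have hvU : c.f v ∈ U := ⟨c.f_mem_N hv, v, hvT, c.acts_f hv⟩
    obtain ⟨p, hp, e⟩ := hPs (φ ⟨c.f v, hvU⟩) ⟨_, rfl⟩
    have hvv : (⟨c.f v, hvU⟩ : ↥U) * ⟨c.f v, hvU⟩ = 1 := Subtype.ext (by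
      show c.f v * c.f v = 1
      rw [← c.map_mul _ _ hv hv, hv2, c.f_one])
    have hcomm : Commute (⟨c.f v, hvU⟩ : ↥U) p := by
      obtain ⟨⟨u, hu, q, hq, hqu⟩, rfl⟩ : ∃ p' : ↥U, p' = p := ⟨p, rfl⟩
      exact Subtype.ext ((hqu.commute hv).mpr (hcen q hq)).symm.eq
    obtain ⟨n, hn⟩ := P.isPGroup' ⟨p, hp⟩
    have hd : (⟨c.f v, hvU⟩ : ↥U) * p⁻¹ ∈ φ.ker := by rw [MonoidHom.mem_ker, map_mul, map_inv, e, mul_inv_cancel]
    obtain ⟨r, hr⟩ : Odd (orderOf ((⟨c.f v, hvU⟩ : ↥U) * p⁻¹)) :=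
      hodd.of_dvd_nat (Subgroup.orderOf_dvd_natCard _ hd)
    have h2 : ((⟨c.f v, hvU⟩ : ↥U) * p⁻¹) ^ 2 ^ (n + 1) = 1 := by
      rw [hcomm.inv_right.mul_pow, pow_succ', pow_mul, pow_two, hvv, one_pow, one_mul, inv_pow, pow_mul',
        show p ^ 2 ^ n = 1 from congrArg Subtype.val hn, one_pow, inv_one]
    obtain ⟨i, -, hi⟩ := (Nat.dvd_prime_pow Nat.prime_two).mp (orderOf_dvd_of_pow_eq_one h2)
    have h1 : (⟨c.f v, hvU⟩ : ↥U) * p⁻¹ = 1 := by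
      refine orderOf_eq_one_iff.mp ?_
      rcases Nat.eq_zero_or_pos i with h0 | h0
      · rw [hi, h0, pow_zero]
      · exact absurd (hi ▸ (Nat.even_pow.mpr ⟨even_two, h0.ne'⟩)) (Nat.not_even_iff_odd.mpr ⟨r, hr⟩)
    rw [mul_inv_eq_one] at h1
    exact hP' ▸ ⟨_, h1 ▸ hp, rfl⟩
  have hz' : c.f iP ∈ P' := hin iP_kP hiT (fun p _ => (iP_comm p).symm) iP_sq
  have hv' : c.f (el 690) ∈ P' := hin el690_kP (el_mem (by norm_num)) (central_three (Or.inr (Or.inl rfl))) sq_el690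
  let θ : ↥P' → ↥P' := fun q => ⟨d * q * d⁻¹, hnorm q q.2⟩
  have hθ : Function.Bijective θ := Function.Injective.bijective_of_finite fun x y hxy =>
    Subtype.ext (mul_left_cancel (mul_right_cancel (congrArg Subtype.val hxy)))
  have key : Nat.card {u : ↥P' // (u : G) * u = c.f (el 690)} = Nat.card {u : ↥P' // (u : G) * u = c.f iP} := by
    refine Nat.card_congr (Equiv.subtypeEquiv (Equiv.ofBijective θ hθ) fun q => ?_)
    show (q : G) * q = c.f (el 690) ↔ d * q * d⁻¹ * (d * q * d⁻¹) = c.z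
    rw [show d * (q : G) * d⁻¹ * (d * q * d⁻¹) = d * ((q : G) * q) * d⁻¹ by group, ← hdz, mul_left_inj,
      mul_right_inj]
  rw [← hroot el690_kP hv', ← hroot iP_kP hz', iP_eq,
    F.card_roots (by norm_num) (by norm_num) el690_kP el_690_mul,
    F.card_roots (by norm_num) (v' := 0) (by norm_num) (iP_eq ▸ iP_kP) (by rw [← iP_eq, iP_sq, el_zero])] at key
  exact sqCnt_ne (F.hm.imp (fun h => h.1) fun h => h.1) (Or.inl ⟨rfl, rfl⟩)
    (Or.inr (Or.inr ⟨ho, htw, rfl⟩)) key.symm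

end Frame

end CfsgLib.HNStd
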