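import Cfsg.Agent.Lib.HNStd.Struct
import Cfsg.Agent.Lib.HNStd.Count

/-!
The quotient of the normaliser of the odd part: the centraliser of the central involution has an
outer involution, and both partners act as element 1975.
-/

set_option autoImplicit false
set_option maxRecDepth 100000
set_option maxHeartbeats 800000

namespace CfsgLib.HNStd

open CfsgLib.CosetEnum CfsgLib.DCoset CfsgLib.HN CfsgLib.HNType
open scoped Pointwise

section Odd

variable {H Q : Type*} [Group H] [Group Q] {π : H →* Q}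

theorem invol_conj (hodd : ∀ d ∈ π.ker, Odd (orderOf d)) {s s' : H} (hs : s * s = 1) (hs' : s' * s' = 1)
    (h : π s = π s') : ∃ d ∈ π.ker, d * s * d⁻¹ = s' := by
  obtain ⟨d, hd⟩ : ∃ d, d = s * s' := ⟨_, rfl⟩
  have hdk : d ∈ π.ker := by rw [MonoidHom.mem_ker, hd, map_mul, ← h, ← map_mul, hs, map_one]
  have hinv : s * d * s⁻¹ = d⁻¹ := by
    rw [hd, mul_inv_rev, inv_eq_of_mul_eq_one_right hs, inv_eq_of_mul_eq_one_right hs',
      ← mul_assoc, hs, one_mul]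
  obtain ⟨r, hr⟩ := hodd d hdk
  refine ⟨(d ^ (r + 1))⁻¹, π.ker.inv_mem (π.ker.pow_mem hdk _), ?_⟩
  have h2 : s * d ^ (r + 1) * s⁻¹ = (d ^ (r + 1))⁻¹ := by rw [← conj_pow, hinv, inv_pow]
  calc (d ^ (r + 1))⁻¹ * s * (d ^ (r + 1))⁻¹⁻¹ = s * d ^ (r + 1) * s⁻¹ * s * d ^ (r + 1) := by
        rw [h2]; group
    _ = s * (d ^ (r + 1) * d ^ (r + 1)) := by group
    _ = s * d := by rw [← pow_add, show r + 1 + (r + 1) = orderOf d + 1 by omega, pow_succ,
          pow_orderOf_eq_one, one_mul]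
    _ = s' := by rw [hd, ← mul_assoc, hs, one_mul]

theorem exists_lift_invol (hs : Function.Surjective π) (hodd : ∀ d ∈ π.ker, Odd (orderOf d)) {q : Q}
    (hq : q * q = 1) : ∃ u, π u = q ∧ u * u = 1 := by
  obtain ⟨u, rfl⟩ := hs q
  have hk : u * u ∈ π.ker := by rw [MonoidHom.mem_ker, map_mul, hq]
  obtain ⟨r, hr⟩ := hodd _ hk
  refine ⟨u ^ orderOf (u * u), ?_, ?_⟩
  · rw [map_pow, hr, pow_succ, pow_mul, pow_two, hq, one_pow, one_mul]
  · rw [← pow_add, ← two_mul, pow_mul, pow_two, pow_orderOf_eq_one]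

theorem exists_lift_conj (hsurj : Function.Surjective π) (hodd : ∀ d ∈ π.ker, Odd (orderOf d))
    {s s' : H} (hs : s * s = 1) (hs' : s' * s' = 1) {q : Q} (h : q * π s * q⁻¹ = π s') :
    ∃ u, π u = q ∧ u * s * u⁻¹ = s' := by
  obtain ⟨u, rfl⟩ := hsurj q
  obtain ⟨d, hd, e⟩ := invol_conj hodd (s := u * s * u⁻¹)
    (by rw [show u * s * u⁻¹ * (u * s * u⁻¹) = u * (s * s) * u⁻¹ by group, hs]; group) hs'
    (by rw [map_mul, map_mul, map_inv, h])
  refine ⟨d * u, by rw [map_mul, MonoidHom.mem_ker.mp hd, one_mul], ?_⟩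
  rw [← e]; group

theorem exists_lift_commute (hsurj : Function.Surjective π) (hodd : ∀ d ∈ π.ker, Odd (orderOf d))
    {s : H} (hs : s * s = 1) {q : Q} (h : Commute q (π s)) : ∃ u, π u = q ∧ Commute u s := by
  obtain ⟨u, hu, e⟩ := exists_lift_conj hsurj hodd hs hs (q := q)
    (by rw [h.eq, mul_inv_cancel_right])
  exact ⟨u, hu, mul_inv_eq_iff_eq_mul.mp e⟩

theorem isConj_of_image (hsurj : Function.Surjective π) (hodd : ∀ d ∈ π.ker, Odd (orderOf d))
    {s s' : H} (hs : s * s = 1) (hs' : s' * s' = 1) (h : IsConj (π s) (π s')) : IsConj s s' := by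
  obtain ⟨q, hq⟩ := isConj_iff.mp h
  obtain ⟨u, -, e⟩ := exists_lift_conj hsurj hodd hs hs' hq
  exact isConj_iff.mpr ⟨u, e⟩

end Odd

/-- an element normalising a subgroup can be corrected to normalise a Sylow subgroup of it -/
theorem exists_normalising {Q : Type*} [Group Q] [Finite Q] {A P : Subgroup Q} (hPA : P ≤ A) {n : ℕ}
    (hP : Nat.card ↥P = 2 ^ n) (hA : Nat.card ↥A = 15 * 2 ^ n) {d : Q} (hd : ∀ a ∈ A, d * a * d⁻¹ ∈ A) :
    ∃ e ∈ A, ∀ q ∈ P, e * d * q * (e * d)⁻¹ ∈ P := by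
  have : Fact (Nat.Prime 2) := ⟨Nat.prime_two⟩
  have hP' : P.map (MulAut.conj d).toMonoidHom ≤ A := by
    rintro _ ⟨q, hq, rfl⟩; exact hd q (hPA hq)
  have hcard : ∀ R : Subgroup Q, R ≤ A → Nat.card ↥R = 2 ^ n → Nat.card ↥(R.subgroupOf A) = 2 ^ n :=
    fun R hR h => (Nat.card_congr (Subgroup.subgroupOfEquivOfLe hR).toEquiv).trans h
  have hidx : ∀ R : Subgroup ↥A, Nat.card ↥R = 2 ^ n → ¬ 2 ∣ R.index := fun R hR => by
    have h := R.card_mul_index
    rw [hR, hA, mul_comm 15] at h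
    rw [Nat.eq_of_mul_eq_mul_left (Nat.two_pow_pos n) h]
    norm_num
  have h1 := hcard P hPA hP
  have h2 := hcard _ hP' ((Subgroup.card_map_of_injective (MulEquiv.injective _)).trans hP)
  obtain ⟨e, he⟩ := MulAction.exists_smul_eq ↥A ((IsPGroup.of_card h2).toSylow (hidx _ h2))
    ((IsPGroup.of_card h1).toSylow (hidx _ h1))
  refine ⟨e, e.2, fun q hq => ?_⟩
  have hmem : (⟨d * q * d⁻¹, hd q (hPA hq)⟩ : ↥A) ∈ (P.map (MulAut.conj d).toMonoidHom).subgroupOf A :=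
    Subgroup.mem_subgroupOf.mpr ⟨q, hq, rfl⟩
  have h3 := Subgroup.smul_mem_pointwise_smul _ (MulAut.conj e) _ hmem
  have h4 : (MulAut.conj e • (P.map (MulAut.conj d).toMonoidHom).subgroupOf A : Subgroup ↥A) =
      P.subgroupOf A := by
    have := congrArg (fun R : Sylow 2 ↥A => (R : Subgroup ↥A)) he
    rwa [Sylow.coe_subgroup_smul] at this
  rw [h4, Subgroup.mem_subgroupOf] at h3
  have e5 : ((MulAut.conj e • (⟨d * q * d⁻¹, hd q (hPA hq)⟩ : ↥A) : ↥A) : Q) =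
      (e : Q) * d * q * ((e : Q) * d)⁻¹ := by
    show (e : Q) * (d * q * d⁻¹) * (e : Q)⁻¹ = _
    group
  rwa [e5] at h3

/-- a quotient by the odd part of a group containing the centraliser and the partner -/
structure Red {G : Type*} [Group G] (c : Ctx G) (Q : Type*) [Group Q] where
  /-- the fusing element -/
  g : G
  /-- its image -/
  x : PH
  /-- the partner -/
  x' : PH
  pair : c.Pair g x x'
  /-- the group -/
  M : Subgroup G
  hN : c.N ≤ M
  hg : g ∈ M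
  /-- the map -/
  π : ↥M →* Q
  surj : Function.Surjective π
  ker : ∀ u : ↥M, π u = 1 ↔ (u : G) ∈ c.D g

theorem exists_red {G : Type*} [Group G] [Finite G] {c : Ctx G} {g : G} {x x' : PH} (h : c.Pair g x x') :
    ∃ (M : Subgroup G) (_ : (c.D g).subgroupOf M |>.Normal)
      (R : Red c (↥M ⧸ (c.D g).subgroupOf M)), R.g = g ∧ R.x = x ∧ R.M = M ∧
        M = Subgroup.normalizer ((c.D g : Subgroup G) : Set G) := by
  refine ⟨Subgroup.normalizer ((c.D g : Subgroup G) : Set G), Subgroup.normal_in_normalizer, ?_⟩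
  haveI := Subgroup.normal_in_normalizer (H := c.D g)
  refine ⟨⟨g, x, x', h, _, fun n hn => Subgroup.mem_normalizer_iff.mpr fun u =>
      ⟨fun hu => h.normal_D hn hu, fun hu => ?_⟩,
    Subgroup.mem_normalizer_iff.mpr fun u => ⟨fun hu => h.conj_D hu, fun hu => ?_⟩,
    QuotientGroup.mk' _, QuotientGroup.mk'_surjective _, fun u => ?_⟩, rfl, rfl, rfl, rfl⟩
  · have := h.normal_D (c.N.inv_mem hn) hu
    rwa [show n⁻¹ * (n * u * n⁻¹) * n⁻¹⁻¹ = u by group] at this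
  · have := h.conj_D' hu
    rwa [show g⁻¹ * (g * u * g⁻¹) * g = u by group] at this
  · rw [QuotientGroup.mk'_apply, QuotientGroup.eq_one_iff, Subgroup.mem_subgroupOf]

namespace Red

variable {G : Type*} [Group G] {c : Ctx G} {Q : Type*} [Group Q] (R : Red c Q)

open scoped _root_.Classical in
/-- the map, extended by one -/
noncomputable def r (u : G) : Q := if h : u ∈ R.M then R.π ⟨u, h⟩ else 1

theorem r_coe (u : ↥R.M) : R.r u = R.π u := dif_pos u.2

theorem r_mul {u v : G} (hu : u ∈ R.M) (hv : v ∈ R.M) : R.r (u * v) = R.r u * R.r v := by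
  rw [r, r, r, dif_pos hu, dif_pos hv, dif_pos (R.M.mul_mem hu hv), ← map_mul]; rfl

theorem r_one : R.r 1 = 1 := (R.r_coe 1).trans R.π.map_one

theorem r_inv {u : G} (hu : u ∈ R.M) : R.r u⁻¹ = (R.r u)⁻¹ :=
  eq_inv_of_mul_eq_one_left (by rw [← R.r_mul (R.M.inv_mem hu) hu, inv_mul_cancel, R.r_one])

theorem r_conj {u v : G} (hu : u ∈ R.M) (hv : v ∈ R.M) :
    R.r (u * v * u⁻¹) = R.r u * R.r v * (R.r u)⁻¹ := by
  rw [R.r_mul (R.M.mul_mem hu hv) (R.M.inv_mem hu), R.r_mul hu hv, R.r_inv hu]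

theorem r_eq_one {u : G} (hu : u ∈ R.M) : R.r u = 1 ↔ u ∈ c.D R.g := by
  rw [r, dif_pos hu]; exact R.ker ⟨u, hu⟩

theorem mem_D_M {u : G} (hu : u ∈ c.D R.g) : u ∈ R.M := R.hN (c.K_le_N hu.1)

theorem r_eq {u v : G} (hu : u ∈ R.M) (hv : v ∈ R.M) : R.r u = R.r v ↔ u⁻¹ * v ∈ c.D R.g := by
  rw [← R.r_eq_one (R.M.mul_mem (R.M.inv_mem hu) hv), R.r_mul (R.M.inv_mem hu) hv, R.r_inv hu,
    inv_mul_eq_one]

/-- the image of the central involution -/
noncomputable def t : Q := R.r c.z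

/-- the copy in the quotient -/
noncomputable def ι (a : PH) : Q := R.r (c.f a)

theorem ι_mul {a b : PH} (ha : a ∈ kP) (hb : b ∈ kP) : R.ι (a * b) = R.ι a * R.ι b := by
  rw [ι, ι, ι, c.map_mul _ _ ha hb, R.r_mul (R.hN (c.f_mem_N ha)) (R.hN (c.f_mem_N hb))]

theorem ι_iP : R.ι iP = R.t := rfl

theorem t_comm {u : G} (hu : u ∈ c.N) : Commute (R.r u) R.t := by
  show R.r u * R.r c.z = R.r c.z * R.r u
  rw [← R.r_mul (R.hN hu) (R.hN c.z_mem_N), ← R.r_mul (R.hN c.z_mem_N) (R.hN hu), (c.mem_N.mp hu).eq]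

theorem t_sq : R.t * R.t = 1 := by
  rw [t, ← R.r_mul (R.hN c.z_mem_N) (R.hN c.z_mem_N), c.z_sq, R.r_one]

theorem conj_ι {u : G} {p a : PH} (hu : c.Acts u p) (ha : a ∈ kP) :
    R.r u * R.ι a * (R.r u)⁻¹ = R.ι (p * a * p⁻¹) := by
  rw [ι, ι, ← R.r_conj (R.hN hu.mem_N) (R.hN (c.f_mem_N ha)), hu a ha]

variable [Finite G]

theorem finite_Q (R : Red c Q) : Finite Q := Finite.of_surjective _ R.surj

theorem odd_ker (R : Red c Q) : ∀ d ∈ R.π.ker, Odd (orderOf d) := fun d hd => by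
  rw [← Subgroup.orderOf_coe]
  exact R.pair.odd_order ((R.ker d).mp hd)

theorem t_ne : R.t ≠ 1 := fun e => R.pair.z_not_mem_D ((R.r_eq_one (R.hN c.z_mem_N)).mp e)

theorem ι_inj {a b : PH} (ha : a ∈ kP) (hb : b ∈ kP) (h : R.ι a = R.ι b) : a = b := by
  have hd := (R.r_eq (R.hN (c.f_mem_N ha)) (R.hN (c.f_mem_N hb))).mp h
  rw [← c.f_inv ha, ← c.map_mul _ _ (kP.inv_mem ha) hb] at hd
  have hab : a⁻¹ * b ∈ kP := kP.mul_mem (kP.inv_mem ha) hb
  rcases (c.acts_K hd.1).unique (c.acts_f hab) with e | e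
  · exact inv_mul_eq_one.mp e
  · rw [one_mul] at e
    rw [e] at hd
    exact absurd hd R.pair.z_not_mem_D

theorem t_mem_iff {q : Q} : Commute q R.t ↔ ∃ u ∈ c.N, R.r u = q := by
  refine ⟨fun h => ?_, fun ⟨u, hu, e⟩ => e ▸ R.t_comm hu⟩
  obtain ⟨u, hu, hc⟩ := exists_lift_commute R.surj R.odd_ker
    (s := (⟨c.z, R.hN c.z_mem_N⟩ : ↥R.M)) (Subtype.ext c.z_sq) (q := q)
    (by rw [← R.r_coe]; exact h)
  exact ⟨u, c.mem_N.mpr (congrArg Subtype.val hc.eq), by rw [R.r_coe]; exact hu⟩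

/-- the pair read backwards -/
noncomputable def symm : Red c Q :=
  ⟨R.g⁻¹, R.x', R.x, R.pair.symm, R.M, R.hN, R.M.inv_mem R.hg, R.π, R.surj,
    fun u => by rw [R.pair.D_symm]; exact R.ker u⟩

/-- the elements centralising `t` with action in `S` -/
def Aq (S : Subgroup PH) : Subgroup Q where
  carrier := {q | ∃ u ∈ c.N, R.r u = q ∧ ∃ p ∈ S, c.Acts u p}
  one_mem' := ⟨1, c.N.one_mem, R.r_one, 1, S.one_mem, c.acts_one⟩
  mul_mem' := by
    rintro _ _ ⟨u, hu, rfl, p, hp, hup⟩ ⟨v, hv, rfl, q, hq, hvq⟩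
    exact ⟨u * v, c.N.mul_mem hu hv, R.r_mul (R.hN hu) (R.hN hv), p * q, S.mul_mem hp hq, hup.mul hvq⟩
  inv_mem' := by
    rintro _ ⟨u, hu, rfl, p, hp, hup⟩
    exact ⟨u⁻¹, c.N.inv_mem hu, R.r_inv (R.hN hu), p⁻¹, S.inv_mem hp, hup.inv⟩

theorem mem_Aq_CX {q : Q} : q ∈ R.Aq CX ↔ Commute q R.t ∧ Commute q (R.ι R.x) := by
  have hxK := Ctx.central_kP R.pair.hx
  constructor
  · rintro ⟨u, hu, rfl, p, hp, hup⟩
    refine ⟨R.t_comm hu, mul_inv_eq_iff_eq_mul.mp ?_⟩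
    rw [R.conj_ι hup hxK, ((commute_central_iff R.pair.hx).mpr hp).eq, mul_inv_cancel_right]
  · rintro ⟨h1, h2⟩
    obtain ⟨u, hu, rfl⟩ := R.t_mem_iff.mp h1
    obtain ⟨p, hp⟩ := c.exists_acts hu
    refine ⟨u, hu, rfl, p, (commute_central_iff R.pair.hx).mp ?_, hp⟩
    have := R.conj_ι hp hxK
    rw [h2.eq, mul_inv_cancel_right] at this
    exact mul_inv_eq_iff_eq_mul.mp (R.ι_inj hxK ((conj_mem_kP p).mpr hxK) this).symm

end Red

/-- a frame for the centraliser of `t` -/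
structure Frame {G : Type*} [Group G] {c : Ctx G} {Q : Type*} [Group Q] (R : Red c Q) where
  /-- order of the image of the root -/
  m : ℕ
  /-- a root of the central involution, or one -/
  k : G
  hk : k ∈ c.K
  hm : (m = 1 ∧ k = 1 ∧ ∀ v ∈ c.K, v * v ≠ c.z) ∨ (m = 2 ∧ k * k = c.z)
  /-- whether outer elements occur -/
  out : Bool
  /-- an element acting as element 1 -/
  y : G
  /-- whether its square is the central involution -/
  tw : Bool
  hout : (out = false ∧ tw = false ∧ ∀ n p, c.Acts n p → p ∈ kP) ∨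
    (out = true ∧ c.Acts y (el 1) ∧ R.r y * R.r y = bif tw then R.t else 1)

namespace Frame

variable {G : Type*} [Group G] {c : Ctx G} {Q : Type*} [Group Q] {R : Red c Q} (F : Frame R)

/-- the actions which occur -/
noncomputable def H : Subgroup PH := bif F.out then ⊤ else kP

open scoped _root_.Classical in
/-- a chosen element with given action -/
noncomputable def e (p : PH) : G := if p ∈ kP then c.f p else F.y * c.f ((el 1)⁻¹ * p)

theorem rest_kP {p : PH} (hp : p ∉ kP) : (el 1)⁻¹ * p ∈ kP := by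
  rw [Subgroup.mul_mem_iff_of_index_two index_kP, inv_mem_iff]
  exact iff_of_false four_facts.2.2.1 hp

theorem acts_e {p : PH} (hp : p ∈ F.H) : c.Acts (F.e p) p := by
  unfold e
  split_ifs with hK
  · exact c.acts_f hK
  · rcases F.hout with ⟨ho, -, -⟩ | ⟨-, hy, -⟩
    · rw [H, ho, cond_false] at hp
      exact absurd hp hK
    · have := hy.mul (c.acts_f (rest_kP hK))
      rwa [mul_inv_cancel_left] at this

theorem e_iP {p : PH} : F.e (p * iP) = F.e p * c.z := by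
  unfold e
  split_ifs with h1 h2 h2
  · exact c.map_mul _ _ h2 iP_kP
  · exact absurd ((kP.mul_mem_cancel_right iP_kP).mp h1) h2
  · exact absurd ((kP.mul_mem_cancel_right iP_kP).mpr h2) h1
  · rw [← mul_assoc _ p iP, c.map_mul _ _ (rest_kP h2) iP_kP, mul_assoc]
    rfl

theorem k_mem_M : F.k ∈ R.M := R.hN (c.K_le_N F.hk)

theorem e_mem_M {p : PH} (hp : p ∈ F.H) : F.e p ∈ R.M := R.hN (F.acts_e hp).mem_N

/-- the element with action `p` and exponent `i` -/
noncomputable def E (p : PH) (i : ℕ) : Q := R.r (F.e p) * R.r F.k ^ i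

variable [Finite G]

theorem k_not : F.m = 2 → R.r F.k ≠ 1 ∧ R.r F.k ≠ R.t ∧ R.r F.k * R.r F.k = R.t := by
  intro hm2
  obtain ⟨-, hk2⟩ := F.hm.resolve_left (fun h => by omega)
  have h2 : R.r F.k * R.r F.k = R.t := by rw [← R.r_mul F.k_mem_M F.k_mem_M, hk2]; rfl
  refine ⟨fun e => R.t_ne ?_, fun e => R.t_ne ?_, h2⟩
  · rw [← h2, e, one_mul]
  · rw [← h2, e, R.t_sq]

theorem E_inj {p q : PH} (hp : p ∈ F.H) (hq : q ∈ F.H) {i j : ℕ} (hi : i < F.m) (hj : j < F.m)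
    (h : F.E p i = F.E q j) : p = q ∧ i = j := by
  have hM := fun {v : PH} (hv : v ∈ F.H) (l : ℕ) => R.M.mul_mem (F.e_mem_M hv) (R.M.pow_mem F.k_mem_M l)
  have hr : ∀ l : ℕ, R.r (F.k ^ l) = R.r F.k ^ l := fun l => by
    induction l with
    | zero => rw [pow_zero, pow_zero, R.r_one]
    | succ l ih => rw [pow_succ, pow_succ, R.r_mul (R.M.pow_mem F.k_mem_M l) F.k_mem_M, ih]
  have hd := (R.r_eq (hM hp i) (hM hq j)).mp (by
    rw [R.r_mul (F.e_mem_M hp) (R.M.pow_mem F.k_mem_M i), R.r_mul (F.e_mem_M hq) (R.M.pow_mem F.k_mem_M j),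
      hr, hr]; exact h)
  have hact : ∀ {v : PH} (l : ℕ), v ∈ F.H → c.Acts (F.e v * F.k ^ l) v := fun {v} l hv => by
    have := (F.acts_e hv).mul (c.acts_K (c.K.pow_mem F.hk l))
    rwa [mul_one] at this
  have hq' : c.Acts (F.e q * F.k ^ j) p := by
    have := (hact i hp).mul (c.acts_K hd.1)
    rwa [mul_inv_cancel_left, mul_one] at this
  obtain hqp | hqp := hq'.unique (hact j hq)
  · refine ⟨hqp.symm, ?_⟩
    rw [E, E, hqp] at h
    have h' := mul_left_cancel h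
    rcases F.hm with ⟨hm, -, -⟩ | ⟨hm, -⟩
    · omega
    · obtain ⟨k1, -, -⟩ := F.k_not hm
      rw [hm] at hi hj
      interval_cases i <;> interval_cases j <;> simp_all
  · exfalso
    rw [E, E, hqp, e_iP, R.r_mul (F.e_mem_M hp) (R.hN c.z_mem_N), mul_assoc] at h
    have h' : R.r F.k ^ i = R.t * R.r F.k ^ j := mul_left_cancel h
    have ht := R.t_ne
    rcases F.hm with ⟨hm, hk1, -⟩ | ⟨hm, -⟩
    · rw [hk1, R.r_one, one_pow, one_pow, mul_one] at h'
      exact ht h'.symm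
    · obtain ⟨k1, kt, -⟩ := F.k_not hm
      rw [hm] at hi hj
      interval_cases i <;> interval_cases j <;> simp only [pow_zero, pow_one, mul_one] at h'
      · exact ht h'.symm
      · refine kt ?_
        rw [eq_comm, ← eq_inv_mul_iff_mul_eq, mul_one, inv_eq_of_mul_eq_one_right R.t_sq] at h'
        exact h'
      · exact kt h'
      · exact ht (right_eq_mul.mp h')

theorem E_surj {u : G} (hu : u ∈ c.N) {p : PH} (hp : c.Acts u p) :
    ∃ p' ∈ F.H, (p' = p ∨ p' = p * iP) ∧ ∃ i < F.m, F.E p' i = R.r u := by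
  have hpH : p ∈ F.H := by
    rcases F.hout with ⟨ho, -, hin⟩ | ⟨ho, -⟩ <;> rw [H, ho]
    exacts [hin u p hp, Subgroup.mem_top p]
  have hiP : p * iP ∈ F.H := by
    refine F.H.mul_mem hpH ?_
    rcases F.hout with ⟨ho, -⟩ | ⟨ho, -⟩ <;> rw [H, ho]
    exacts [iP_kP, Subgroup.mem_top _]
  obtain ⟨v, hv⟩ : ∃ v, v = (F.e p)⁻¹ * u := ⟨_, rfl⟩
  have hvK : v ∈ c.K := hv ▸ ((F.acts_e hpH).inv.mul hp).mem_K (Or.inl (inv_mul_cancel p))
  have hvM := R.hN (c.K_le_N hvK)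
  have hru : R.r u = R.r (F.e p) * R.r v := by
    rw [← R.r_mul (F.e_mem_M hpH) hvM, hv, mul_inv_cancel_left]
  have hz : R.r (F.e (p * iP)) = R.r (F.e p) * R.t := by
    rw [F.e_iP, R.r_mul (F.e_mem_M hpH) (R.hN c.z_mem_N)]; rfl
  have hvz : ∀ {w : G}, w ∈ R.M → v * w ∈ c.D R.g → R.r v = (R.r w)⁻¹ := fun {w} hw h => by
    refine eq_inv_of_mul_eq_one_left ?_
    rw [← R.r_mul hvM hw]; exact (R.r_eq_one (R.M.mul_mem hvM hw)).mpr h
  have htinv : (R.t)⁻¹ = R.t := inv_eq_of_mul_eq_one_right R.t_sq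
  rcases F.hm with ⟨hm, hk1, hno⟩ | ⟨hm, hk2⟩
  · rcases R.pair.K_cases hno hvK with e | e
    · exact ⟨p, hpH, Or.inl rfl, 0, by omega, by
        rw [E, pow_zero, mul_one, hru, (R.r_eq_one hvM).mpr e, mul_one]⟩
    · exact ⟨p * iP, hiP, Or.inr rfl, 0, by omega, by
        rw [E, pow_zero, mul_one, hz, hru, hvz (R.hN c.z_mem_N) e]; exact congrArg _ htinv.symm⟩
  · obtain ⟨-, -, hkk⟩ := F.k_not hm
    rcases R.pair.K_cases_root F.hk hk2 hvK with e | e | e | e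
    · exact ⟨p, hpH, Or.inl rfl, 0, by omega, by
        rw [E, pow_zero, mul_one, hru, (R.r_eq_one hvM).mpr e, mul_one]⟩
    · exact ⟨p * iP, hiP, Or.inr rfl, 0, by omega, by
        rw [E, pow_zero, mul_one, hz, hru, hvz (R.hN c.z_mem_N) e]; exact congrArg _ htinv.symm⟩
    · refine ⟨p * iP, hiP, Or.inr rfl, 1, by omega, ?_⟩
      rw [E, pow_one, hz, hru, hvz F.k_mem_M e, mul_assoc]
      congr 1
      refine eq_inv_of_mul_eq_one_left ?_
      rw [mul_assoc, hkk, R.t_sq]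
    · refine ⟨p, hpH, Or.inl rfl, 1, by omega, ?_⟩
      rw [E, pow_one, hru, hvz (R.M.inv_mem F.k_mem_M) e, R.r_inv F.k_mem_M, inv_inv]

theorem E_mem {S : Subgroup PH} {p : PH} (hp : p ∈ F.H) (hpS : p ∈ S) (i : ℕ) :
    F.E p i ∈ R.Aq S := by
  refine (R.Aq S).mul_mem ⟨_, (F.acts_e hp).mem_N, rfl, p, hpS, F.acts_e hp⟩ ((R.Aq S).pow_mem ?_ i)
  exact ⟨F.k, c.K_le_N F.hk, rfl, 1, S.one_mem, c.acts_K F.hk⟩

theorem card_Aq {S : Subgroup PH} (hS : iP ∈ S) :
    Nat.card ↥(R.Aq S) = Nat.card ↥(F.H ⊓ S) * F.m := by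
  rw [← Nat.card_fin F.m, ← Nat.card_prod]
  refine (Nat.card_eq_of_bijective
    (fun a : ↥(F.H ⊓ S) × Fin F.m => (⟨F.E a.1 a.2, F.E_mem a.1.2.1 a.1.2.2 a.2⟩ : ↥(R.Aq S)))
    ⟨fun a b h => ?_, fun q => ?_⟩).symm
  · obtain ⟨e1, e2⟩ := F.E_inj a.1.2.1 b.1.2.1 a.2.2 b.2.2 (congrArg Subtype.val h)
    exact Prod.ext (Subtype.ext e1) (Fin.ext e2)
  · obtain ⟨q, u, hu, rfl, p, hpS, hup⟩ := q
    obtain ⟨p', hp', hpp, i, hi, e⟩ := F.E_surj hu hup
    refine ⟨(⟨p', hp', ?_⟩, ⟨i, hi⟩), Subtype.ext e⟩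
    rcases hpp with rfl | rfl
    exacts [hpS, S.mul_mem hpS hS]

theorem sq_in {p : PH} (hp : p ∈ kP) {i : ℕ} (hi : i < F.m) :
    F.E p i * F.E p i = R.ι (p * p * (bif Nat.beq i 0 then 1 else iP)) := by
  have he : F.e p = c.f p := if_pos hp
  have hc : Commute (R.r F.k) (R.r (F.e p)) := by
    show R.r F.k * R.r (F.e p) = R.r (F.e p) * R.r F.k
    rw [he, ← R.r_mul F.k_mem_M (R.hN (c.f_mem_N hp)), ← R.r_mul (R.hN (c.f_mem_N hp)) F.k_mem_M,
      (c.mem_K.mp F.hk p hp).eq]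
  have hsq : R.r (F.e p) * R.r (F.e p) = R.ι (p * p) := by
    rw [he, R.ι_mul hp hp]; rfl
  have hm2 : i = 0 ∨ i = 1 ∧ F.m = 2 := by rcases F.hm with ⟨h, -⟩ | ⟨h, -⟩ <;> omega
  rcases hm2 with rfl | ⟨rfl, hm⟩
  · rw [E, pow_zero, mul_one, hsq, Nat.beq_refl, cond_true, mul_one]
  · rw [E, pow_one, show R.r (F.e p) * R.r F.k * (R.r (F.e p) * R.r F.k) =
      R.r (F.e p) * (R.r F.k * R.r (F.e p)) * R.r F.k by group, hc.eq,
      show R.r (F.e p) * (R.r (F.e p) * R.r F.k) * R.r F.k =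
        R.r (F.e p) * R.r (F.e p) * (R.r F.k * R.r F.k) by group, hsq, (F.k_not hm).2.2,
      show Nat.beq 1 0 = false from rfl, cond_false, R.ι_mul (kP.mul_mem hp hp) iP_kP, R.ι_iP]

theorem sq_out {p : PH} (hpH : p ∈ F.H) (hp : p ∉ kP) (hpX : p ∈ CX) {i : ℕ} (hi : i < F.m) :
    F.E p i * F.E p i = R.ι (p * p * (bif F.tw then iP else 1)) := by
  have hm2 : i = 0 ∨ i = 1 ∧ F.m = 2 := by rcases F.hm with ⟨h, -⟩ | ⟨h, -⟩ <;> omega
  obtain ⟨ho, hy, hyy⟩ : F.out = true ∧ c.Acts F.y (el 1) ∧ R.r F.y * R.r F.y = bif F.tw then R.t else 1 := by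
    refine F.hout.resolve_left fun ⟨ho, _⟩ => hp ?_
    rwa [H, ho, cond_false] at hpH
  obtain ⟨q, hq⟩ : ∃ q, q = (el 1)⁻¹ * p := ⟨_, rfl⟩
  have hqK : q ∈ kP := hq ▸ rest_kP hp
  have he : F.e p = F.y * c.f q := by rw [e, if_neg hp, hq]
  have h1sq := four_facts.2.2.2.1
  have hpp : p * p = el 1 * q * (el 1)⁻¹ * q := by
    rw [inv_eq_of_mul_eq_one_right h1sq, show p = el 1 * q by rw [hq, mul_inv_cancel_left]]; group
  have hqc : el 1 * q * (el 1)⁻¹ ∈ kP := (conj_mem_kP _).mpr hqK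
  have hE0 : R.r (F.e p) * R.r (F.e p) = R.ι (p * p * (bif F.tw then iP else 1)) := by
    rw [he, R.r_mul (R.hN hy.mem_N) (R.hN (c.f_mem_N hqK))]
    show R.r F.y * R.ι q * (R.r F.y * R.ι q) = _
    rw [show R.r F.y * R.ι q * (R.r F.y * R.ι q) =
      R.r F.y * R.ι q * (R.r F.y)⁻¹ * (R.r F.y * R.r F.y) * R.ι q by group, R.conj_ι hy hqK, hyy, hpp]
    cases F.tw
    · rw [cond_false, cond_false, mul_one, mul_one, R.ι_mul hqc hqK]
    · rw [cond_true, cond_true, ← R.ι_iP, ← R.ι_mul hqc iP_kP, ← R.ι_mul (kP.mul_mem hqc iP_kP) hqK,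
        mul_assoc _ iP q, iP_comm q, ← mul_assoc]
  rcases hm2 with rfl | ⟨rfl, hm⟩
  · rw [E, pow_zero, mul_one, hE0]
  · obtain ⟨-, hk2⟩ := F.hm.resolve_left (fun h => by omega)
    have hd := R.pair.outer_inverts F.hk hk2 (F.acts_e hpH).inv (by rwa [inv_mem_iff]) (CX.inv_mem hpX)
    rw [inv_inv] at hd
    have heM := F.e_mem_M hpH
    have h1 : (R.r (F.e p))⁻¹ * R.r F.k * R.r (F.e p) * R.r F.k = 1 := by
      rw [← R.r_inv heM, ← R.r_mul (R.M.inv_mem heM) F.k_mem_M,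
        ← R.r_mul (R.M.mul_mem (R.M.inv_mem heM) F.k_mem_M) heM,
        ← R.r_mul (R.M.mul_mem (R.M.mul_mem (R.M.inv_mem heM) F.k_mem_M) heM) F.k_mem_M]
      exact (R.r_eq_one (R.M.mul_mem (R.M.mul_mem (R.M.mul_mem (R.M.inv_mem heM) F.k_mem_M) heM) F.k_mem_M)).mpr hd
    rw [E, pow_one, show R.r (F.e p) * R.r F.k * (R.r (F.e p) * R.r F.k) = R.r (F.e p) * R.r (F.e p) *
      ((R.r (F.e p))⁻¹ * R.r F.k * R.r (F.e p) * R.r F.k) by group, h1, mul_one, hE0]

theorem card_roots {v v' : ℕ} (hv : v < 2048) (hv' : v' < 2048) (hvK : el v ∈ kP) (h : el v * iP = el v') :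
    Nat.card {q : ↥(R.Aq T) // (q : Q) * q = R.ι (el v)} = sqCnt F.out F.tw F.m v v' := by
  have hvv : el v' * iP = el v := by rw [← h, mul_assoc, iP_sq, mul_one]
  have hH : ∀ {k : ℕ}, k < 2048 → (el k ∈ F.H ↔ (F.out = true ∨ inK k = true)) := fun {k} hk => by
    rw [H]
    cases F.out
    · rw [cond_false, ← inK_iff hk]
      exact ⟨Or.inr, fun e => e.resolve_left (by simp)⟩
    · exact iff_of_true (Subgroup.mem_top _) (Or.inl rfl)
  have hsq : ∀ {k : ℕ}, k < 2048 → ∀ i, i < F.m → el k ∈ F.H →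
      (sqHit F.out F.tw v v' (k + 2048 * i) = true ↔ F.E (el k) i * F.E (el k) i = R.ι (el v)) := by
    intro k hk i hi hkH
    have e1 : (k + 2048 * i) % 2048 = k := by omega
    have e2 : (k + 2048 * i) / 2048 = i := by omega
    rw [sqHit, strict_eq, e1, e2]
    cases hK : inK k
    · have hkK : el k ∉ kP := fun h => by rw [(inK_iff hk).mpr h] at hK; cases hK
      have ho : F.out = true := ((hH hk).mp hkH).resolve_right (by simp [hK])
      rw [cond_false, ho, Bool.true_and, F.sq_out hkH hkK (T_le_CX (el_mem hk)) hi,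
        CfsgLib.HNType.sq_out hk hK]
      cases F.tw
      · rw [cond_false, cond_false, mul_one]
        constructor
        · intro e; rw [Nat.eq_of_beq_eq_true e, hvv]
        · intro e
          have hm : el (sylTSq k) * iP ∈ kP := by
            rw [← CfsgLib.HNType.sq_out hk hK]; exact Subgroup.mul_self_mem_of_index_two index_kP _
          have := R.ι_inj hm hvK e
          rw [← hvv, mul_left_inj] at this
          rw [el_inj (tsq_lt2048 _) hv' this]; exact Nat.beq_refl _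
      · rw [cond_true, cond_true, mul_assoc, iP_sq, mul_one]
        constructor
        · intro e; rw [Nat.eq_of_beq_eq_true e]
        · intro e
          have hm : el (sylTSq k) ∈ kP := by
            have : el (sylTSq k) * iP ∈ kP := by
              rw [← CfsgLib.HNType.sq_out hk hK]; exact Subgroup.mul_self_mem_of_index_two index_kP _
            exact (kP.mul_mem_cancel_right iP_kP).mp this
          rw [el_inj (tsq_lt2048 _) hv (R.ι_inj hm hvK e)]; exact Nat.beq_refl _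
    · have hkK := (inK_iff hk).mp hK
      rw [cond_true, F.sq_in hkK hi, sq_eq_of_inner hk hK]
      have hm : el (sylTSq k) ∈ kP := by rw [← sq_eq_of_inner hk hK]; exact kP.mul_mem hkK hkK
      cases Nat.beq i 0
      · rw [cond_false, cond_false]
        constructor
        · intro e; rw [Nat.eq_of_beq_eq_true e, hvv]
        · intro e
          have := R.ι_inj (kP.mul_mem hm iP_kP) hvK e
          rw [← hvv, mul_left_inj] at this
          rw [el_inj (tsq_lt2048 _) hv' this]; exact Nat.beq_refl _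
      · rw [cond_true, cond_true, mul_one]
        constructor
        · intro e; rw [Nat.eq_of_beq_eq_true e]
        · intro e; rw [el_inj (tsq_lt2048 _) hv (R.ι_inj hm hvK e)]; exact Nat.beq_refl _
  have hH' : ∀ {n : ℕ}, sqHit F.out F.tw v v' n = true → el (n % 2048) ∈ F.H := fun {n} hn => by
    refine (hH (Nat.mod_lt _ (by norm_num))).mpr ?_
    rw [sqHit, strict_eq] at hn
    cases hK : inK (n % 2048)
    · rw [hK, cond_false, Bool.and_eq_true] at hn; exact Or.inl hn.1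
    · exact Or.inr rfl
  let L := (List.range (2048 * F.m)).filter (sqHit F.out F.tw v v')
  have hmemL : ∀ {n : ℕ}, n ∈ L ↔ n < 2048 * F.m ∧ sqHit F.out F.tw v v' n = true := fun {n} => by
    simp only [L, List.mem_filter, List.mem_range]
  have hnd : L.Nodup := List.nodup_range.filter _
  rw [sqCnt, ← List.toFinset_card_of_nodup hnd]
  refine Eq.trans ?_ (Nat.card_eq_finsetCard _)
  refine (Nat.card_eq_of_bijective (fun n : {n // n ∈ L.toFinset} =>
    (⟨⟨F.E (el (n.1 % 2048)) (n.1 / 2048),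
      F.E_mem (hH' (hmemL.mp (List.mem_toFinset.mp n.2)).2) (el_mem (Nat.mod_lt _ (by norm_num))) _⟩, ?_⟩ :
      {q : ↥(R.Aq T) // (q : Q) * q = R.ι (el v)})) ⟨?_, ?_⟩).symm
  · obtain ⟨hn, hhit⟩ := hmemL.mp (List.mem_toFinset.mp n.2)
    refine (hsq (Nat.mod_lt _ (by norm_num)) _ (by omega) (hH' hhit)).mp ?_
    rwa [Nat.mod_add_div]
  · rintro ⟨a, ha⟩ ⟨b, hb⟩ h
    obtain ⟨han, hah⟩ := hmemL.mp (List.mem_toFinset.mp ha)
    obtain ⟨hbn, hbh⟩ := hmemL.mp (List.mem_toFinset.mp hb)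
    obtain ⟨e1, e2⟩ := F.E_inj (hH' hah) (hH' hbh) 
      (i := a / 2048) (j := b / 2048)
      (Nat.div_lt_iff_lt_mul (by norm_num) |>.mpr (by rw [mul_comm]; exact han))
      (Nat.div_lt_iff_lt_mul (by norm_num) |>.mpr (by rw [mul_comm]; exact hbn))
      (congrArg (fun q : {q : ↥(R.Aq T) // (q : Q) * q = R.ι (el v)} => (q.1 : Q)) h)
    have e3 := el_inj (Nat.mod_lt _ (by norm_num)) (Nat.mod_lt _ (by norm_num)) e1
    exact Subtype.ext (show a = b by omega)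
  · rintro ⟨⟨q, u, hu, rfl, p, hpT, hup⟩, hq⟩
    obtain ⟨p', hp', hpp, i, hi, e⟩ := F.E_surj hu hup
    have hp'T : p' ∈ T := by
      rcases hpp with rfl | rfl
      exacts [hpT, T.mul_mem hpT (iP_eq ▸ el_mem (by norm_num))]
    obtain ⟨k, hk, rfl⟩ := exists_el hp'T
    have e1 : (k + 2048 * i) % 2048 = k := by omega
    have e2 : (k + 2048 * i) / 2048 = i := by omega
    refine ⟨⟨k + 2048 * i, List.mem_toFinset.mpr (hmemL.mpr ⟨by omega,
      (hsq hk i hi hp').mpr (by rw [e]; exact hq)⟩)⟩, Subtype.ext (Subtype.ext ?_)⟩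
    show F.E (el ((k + 2048 * i) % 2048)) ((k + 2048 * i) / 2048) = R.r u
    rw [e1, e2, e]

theorem card_inner_T : Nat.card ↥(kP ⊓ T : Subgroup PH) = 2 ^ 10 := by
  have hidx : (kP.subgroupOf T).index = 2 := by
    rw [Subgroup.index_eq_two_iff]
    refine ⟨⟨el 1, el_mem (by norm_num)⟩, fun b => ?_⟩
    simp only [Subgroup.mem_subgroupOf, Subgroup.coe_mul,
      Subgroup.mul_mem_iff_of_index_two index_kP, four_facts.2.2.1, iff_false]
    tauto
  have h := (kP.subgroupOf T).card_mul_index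
  rw [hidx, card_T] at h
  rw [Subgroup.subgroupOf, ← Subgroup.card_map_of_injective T.subtype_injective,
    Subgroup.map_comap_eq, Subgroup.range_subtype, inf_comm] at h
  omega

/-- the central involution and its image have equally many roots in a Sylow subgroup -/
theorem counts_eq {w w' : ℕ} (hw : w = 690 ∧ w' = 1975 ∨ w = 1975 ∧ w' = 690) (hx : R.x = el w) :
    sqCnt F.out F.tw F.m 564 0 = sqCnt F.out F.tw F.m w w' := by
  haveI := R.finite_Q
  have hiT : iP ∈ T := iP_eq ▸ el_mem (by norm_num)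
  obtain ⟨n, hP, hA⟩ : ∃ n, Nat.card ↥(R.Aq T) = 2 ^ n ∧ Nat.card ↥(R.Aq CX) = 15 * 2 ^ n := by
    rw [F.card_Aq hiT, F.card_Aq iP_CX]
    have hmv : F.m = 2 ^ 0 ∨ F.m = 2 ^ 1 := F.hm.imp (fun h => h.1) (fun h => h.1)
    obtain ⟨a, h1, h2⟩ : ∃ a, Nat.card ↥(F.H ⊓ T) = 2 ^ a ∧ Nat.card ↥(F.H ⊓ CX) = 15 * 2 ^ a := by
      rcases F.hout with ⟨ho, -⟩ | ⟨ho, -⟩ <;> rw [H, ho]
      · refine ⟨10, card_inner_T, ?_⟩
        rw [cond_false, inf_comm, show CX ⊓ kP = CK from rfl, relindex_CK]; norm_num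
      · refine ⟨11, ?_, ?_⟩
        · rw [cond_true, top_inf_eq, card_T]; norm_num
        · rw [cond_true, top_inf_eq, card_CX]; norm_num
    rcases hmv with e | e <;> rw [h1, h2, e]
    · exact ⟨a, by ring, by ring⟩
    · exact ⟨a + 1, by ring, by ring⟩
  have hle : R.Aq T ≤ R.Aq CX := by
    rintro _ ⟨u, hu, rfl, p, hp, hup⟩
    exact ⟨u, hu, rfl, p, T_le_CX hp, hup⟩
  have hxK := Ctx.central_kP R.pair.hx
  have hgt : R.r R.g * R.t * (R.r R.g)⁻¹ = R.ι R.x := by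
    rw [Red.t, ← R.r_conj R.hg (R.hN c.z_mem_N), R.pair.fwd]; rfl
  have hgt' : R.r R.g * R.ι R.x' * (R.r R.g)⁻¹ = R.t := by
    rw [Red.ι, ← R.r_conj R.hg (R.hN (c.f_mem_N (Ctx.central_kP R.pair.hx'))), ← R.pair.bwd]
    show R.r _ = R.r _
    congr 1; group
  obtain ⟨e, he, hnorm⟩ := exists_normalising hle hP hA (d := R.r R.g) (fun q hq => by
    obtain ⟨u, hu, rfl, p, hp, hup⟩ := hq
    refine R.mem_Aq_CX.mpr ⟨?_, ?_⟩
    · rw [← hgt']
      have hc : Commute (R.r u) (R.ι R.x') := mul_inv_eq_iff_eq_mul.mp (by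
        rw [R.conj_ι hup (Ctx.central_kP R.pair.hx'), ((commute_central_iff R.pair.hx').mpr hp).eq,
          mul_inv_cancel_right])
      exact hc.map (MulAut.conj (R.r R.g)).toMonoidHom
    · rw [← hgt]
      exact (R.t_comm hu).map (MulAut.conj (R.r R.g)).toMonoidHom)
  obtain ⟨d, hd⟩ : ∃ d, d = e * R.r R.g := ⟨_, rfl⟩
  rw [← hd] at hnorm
  have hdt : d * R.ι (el 564) * d⁻¹ = R.ι (el w) := by
    rw [← iP_eq, R.ι_iP, ← hx, hd, show e * R.r R.g * R.t * (e * R.r R.g)⁻¹ =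
      e * (R.r R.g * R.t * (R.r R.g)⁻¹) * e⁻¹ by group, hgt, (R.mem_Aq_CX.mp he).2.eq, mul_inv_cancel_right]
  let θ : ↥(R.Aq T) → ↥(R.Aq T) := fun q => ⟨d * q * d⁻¹, hnorm q q.2⟩
  have hθ : Function.Bijective θ := Function.Injective.bijective_of_finite fun a b h =>
    Subtype.ext (mul_left_cancel (mul_right_cancel (congrArg Subtype.val h)))
  obtain ⟨w1, w2, w3⟩ : w < 2048 ∧ w' < 2048 ∧ el w * iP = el w' := by
    rcases hw with ⟨rfl, rfl⟩ | ⟨rfl, rfl⟩
    exacts [⟨by norm_num, by norm_num, el_690_mul⟩, ⟨by norm_num, by norm_num, el_1975_mul⟩]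
  rw [← F.card_roots (v := 564) (by norm_num) (v' := 0) (by norm_num) (iP_eq ▸ iP_kP)
      (by rw [← iP_eq, iP_sq, el_zero]),
    ← F.card_roots w1 w2 (hx ▸ hxK) w3]
  refine Nat.card_congr (Equiv.subtypeEquiv (Equiv.ofBijective θ hθ) fun q => ?_)
  show (q : Q) * q = R.ι (el 564) ↔ d * q * d⁻¹ * (d * q * d⁻¹) = R.ι (el w)
  rw [show d * (q : Q) * d⁻¹ * (d * q * d⁻¹) = d * ((q : Q) * q) * d⁻¹ by group, ← hdt, mul_left_inj,
    mul_right_inj]

theorem w_cases {x : PH} (h : x = el 690 ∨ x = el 1975) :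
    ∃ w w', (w = 690 ∧ w' = 1975 ∨ w = 1975 ∧ w' = 690) ∧ x = el w :=
  h.elim (fun e => ⟨690, 1975, Or.inl ⟨rfl, rfl⟩, e⟩) fun e => ⟨1975, 690, Or.inr ⟨rfl, rfl⟩, e⟩

end Frame

namespace Red

variable {G : Type*} [Group G] [Finite G] {c : Ctx G} {Q : Type*} [Group Q] (R : Red c Q)

/-- the root, or one -/
structure Root (m : ℕ) (k : G) : Prop where
  hk : k ∈ c.K
  hm : (m = 1 ∧ k = 1 ∧ ∀ v ∈ c.K, v * v ≠ c.z) ∨ (m = 2 ∧ k * k = c.z)

theorem exists_root (c : Ctx G) : ∃ m k, Root (c := c) m k := by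
  by_cases h : ∃ v ∈ c.K, v * v = c.z
  · obtain ⟨k, hk, e⟩ := h; exact ⟨2, k, hk, Or.inr ⟨rfl, e⟩⟩
  · exact ⟨1, 1, c.K.one_mem, Or.inl ⟨rfl, rfl, fun v hv e => h ⟨v, hv, e⟩⟩⟩

/-- the centraliser has an element acting as element 1, an involution modulo the odd part, and
the image is element 1975 -/
theorem exists_outer {m : ℕ} {k : G} (hr : Root (c := c) m k) :
    ∃ F : Frame R, F.m = m ∧ F.k = k ∧ F.out = true ∧ F.tw = false ∧ R.x = el 1975 := by
  obtain ⟨w, w', hw, hx⟩ := Frame.w_cases R.pair.hx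
  have hm12 : m = 1 ∨ m = 2 := hr.hm.imp (fun h => h.1) (fun h => h.1)
  obtain ⟨n, p, hn, hp⟩ : ∃ n p, c.Acts n p ∧ p ∉ kP := by
    by_contra hne
    push_neg at hne
    let F : Frame R := ⟨m, k, hr.hk, hr.hm, false, 1, false, Or.inl ⟨rfl, rfl, hne⟩⟩
    exact sqCnt_ne hm12 hw (Or.inl ⟨rfl, rfl⟩) (F.counts_eq hw hx)
  obtain ⟨y, hy⟩ : ∃ y, y = n * c.f (p⁻¹ * el 1) := ⟨_, rfl⟩
  have hpK : p⁻¹ * el 1 ∈ kP := by
    rw [Subgroup.mul_mem_iff_of_index_two index_kP, inv_mem_iff]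
    exact iff_of_false hp four_facts.2.2.1
  have hya : c.Acts y (el 1) := by
    have := hn.mul (c.acts_f hpK)
    rwa [mul_inv_cancel_left, ← hy] at this
  have hyy : y * y ∈ c.K := (hya.mul hya).mem_K (Or.inl four_facts.2.2.2.1)
  have hyM := R.hN hya.mem_N
  obtain ⟨tw, htw⟩ : ∃ tw : Bool, R.r y * R.r y = bif tw then R.t else 1 := by
    rw [← R.r_mul hyM hyM]
    have hcase : y * y ∈ c.D R.g ∨ y * y * c.z ∈ c.D R.g := by
      rcases hr.hm with ⟨-, -, hno⟩ | ⟨-, hk2⟩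
      · exact R.pair.K_cases hno hyy
      · have hd := R.pair.outer_inverts hr.hk hk2 hya four_facts.2.2.1 (T_le_CX (el_mem (by norm_num)))
        have hkM := R.hN (c.K_le_N hr.hk)
        have hinv : R.r y * R.r k * (R.r y)⁻¹ = (R.r k)⁻¹ := by
          refine eq_inv_of_mul_eq_one_left ?_
          rw [← R.r_conj hyM hkM, ← R.r_mul (R.M.mul_mem (R.M.mul_mem hyM hkM) (R.M.inv_mem hyM)) hkM]
          exact (R.r_eq_one (R.M.mul_mem (R.M.mul_mem (R.M.mul_mem hyM hkM) (R.M.inv_mem hyM)) hkM)).mpr hd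
        have hkey : Commute (R.r y) (R.r k) → False := fun hc => by
          rw [hc.eq, mul_inv_cancel_right, eq_inv_iff_mul_eq_one] at hinv
          exact R.t_ne (by rw [← hinv, ← R.r_mul hkM hkM, hk2]; rfl)
        have hM2 := R.M.mul_mem hyM hyM
        rcases R.pair.K_cases_root hr.hk hk2 hyy with e | e | e | e
        · exact Or.inl e
        · exact Or.inr e
        · exfalso
          have e1 := (R.r_eq_one (R.M.mul_mem hM2 hkM)).mpr e
          rw [R.r_mul hM2 hkM, R.r_mul hyM hyM] at e1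
          refine hkey ?_
          rw [eq_inv_of_mul_eq_one_right e1]
          exact ((Commute.refl _).mul_right (Commute.refl _)).inv_right
        · exfalso
          have e1 := (R.r_eq_one (R.M.mul_mem hM2 (R.M.inv_mem hkM))).mpr e
          rw [R.r_mul hM2 (R.M.inv_mem hkM), R.r_mul hyM hyM, R.r_inv hkM, mul_inv_eq_one] at e1
          refine hkey ?_
          rw [← e1]
          exact (Commute.refl _).mul_right (Commute.refl _)
    rcases hcase with e | e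
    · exact ⟨false, (R.r_eq_one (R.hN (c.K_le_N hyy))).mpr e⟩
    · refine ⟨true, ?_⟩
      have e1 := (R.r_eq_one (R.M.mul_mem (R.hN (c.K_le_N hyy)) (R.hN c.z_mem_N))).mpr e
      rw [R.r_mul (R.hN (c.K_le_N hyy)) (R.hN c.z_mem_N)] at e1
      show R.r (y * y) = R.t
      rw [eq_inv_of_mul_eq_one_left e1]
      exact inv_eq_of_mul_eq_one_right R.t_sq
  let F : Frame R := ⟨m, k, hr.hk, hr.hm, true, y, tw, Or.inr ⟨rfl, hya, htw⟩⟩
  have key : ¬ (tw = true ∨ tw = false ∧ w = 690) := by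
    rintro (h | ⟨h, h'⟩)
    · exact sqCnt_ne hm12 hw (Or.inr (Or.inl ⟨rfl, h⟩)) (F.counts_eq hw hx)
    · exact sqCnt_ne hm12 hw (Or.inr (Or.inr ⟨rfl, h, h'⟩)) (F.counts_eq hw hx)
  have htw' : tw = false := by cases tw <;> simp_all
  refine ⟨F, rfl, rfl, rfl, htw', ?_⟩
  rcases hw with ⟨rfl, -⟩ | ⟨rfl, -⟩
  · exact absurd (Or.inr ⟨htw', rfl⟩) key
  · exact hx

end Red

namespace Frame

variable {G : Type*} [Group G] [Finite G] {c : Ctx G} {Q : Type*} [Group Q] {R : Red c Q} (F : Frame R)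

/-- the image of the extension of index two -/
theorem exists_hom (ho : F.out = true) (htw : F.tw = false) :
    ∃ j : PH →* Q, (∀ p, j p = R.r (F.e p)) ∧ Function.Injective j ∧ j iP = R.t ∧
      (∀ q, Commute q R.t → ∃ p, ∃ i < F.m, j p * R.r F.k ^ i = q) := by
  obtain ⟨-, hy, hyy⟩ : F.out = true ∧ c.Acts F.y (el 1) ∧ R.r F.y * R.r F.y = bif F.tw then R.t else 1 :=
    F.hout.resolve_left fun h => by rw [ho] at h; simp at h
  rw [htw, cond_false] at hyy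
  have h1 := four_facts.2.2.2.1
  have h1K := four_facts.2.2.1
  have h1i : (el 1)⁻¹ = el 1 := inv_eq_of_mul_eq_one_right h1
  have e_in : ∀ {p : PH}, p ∈ kP → R.r (F.e p) = R.ι p := fun {p} hp => by rw [e, if_pos hp]; rfl
  have e_out : ∀ {p : PH}, p ∉ kP → R.r (F.e p) = R.r F.y * R.ι ((el 1)⁻¹ * p) := fun {p} hp => by
    rw [e, if_neg hp, R.r_mul (R.hN hy.mem_N) (R.hN (c.f_mem_N (rest_kP hp)))]; rfl
  have hmul : ∀ p q, R.r (F.e (p * q)) = R.r (F.e p) * R.r (F.e q) := by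
    intro p q
    by_cases hp : p ∈ kP <;> by_cases hq : q ∈ kP
    · rw [e_in (kP.mul_mem hp hq), e_in hp, e_in hq, R.ι_mul hp hq]
    · rw [e_out (fun h => hq ((kP.mul_mem_cancel_left hp).mp h)), e_in hp, e_out hq, ← mul_assoc ((el 1)⁻¹) p q]
      have hc := (conj_mem_kP (el 1)).mpr hp
      rw [show (el 1)⁻¹ * p * q = el 1 * p * (el 1)⁻¹ * ((el 1)⁻¹ * q) by
          rw [h1i, show el 1 * p * el 1 * (el 1 * q) = el 1 * p * (el 1 * el 1) * q by group, h1, mul_one],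
        R.ι_mul hc (rest_kP hq), ← R.conj_ι hy hp,
        show R.r F.y * (R.r F.y * R.ι p * (R.r F.y)⁻¹ * R.ι ((el 1)⁻¹ * q)) =
          R.r F.y * R.r F.y * R.ι p * (R.r F.y)⁻¹ * R.ι ((el 1)⁻¹ * q) by group, hyy, one_mul,
        inv_eq_of_mul_eq_one_right hyy]
      group
    · rw [e_out (fun h => hp ((kP.mul_mem_cancel_right hq).mp h)), e_out hp, e_in hq, ← mul_assoc,
        R.ι_mul (rest_kP hp) hq, mul_assoc]
    · rw [e_in ((Subgroup.mul_mem_iff_of_index_two index_kP).mpr (iff_of_false hp hq)), e_out hp, e_out hq,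
        show R.r F.y * R.ι ((el 1)⁻¹ * p) * (R.r F.y * R.ι ((el 1)⁻¹ * q)) =
          R.r F.y * R.ι ((el 1)⁻¹ * p) * (R.r F.y)⁻¹ * (R.r F.y * R.r F.y) * R.ι ((el 1)⁻¹ * q) by group,
        hyy, mul_one, R.conj_ι hy (rest_kP hp), ← R.ι_mul ((conj_mem_kP _).mpr (rest_kP hp)) (rest_kP hq)]
      congr 1
      rw [h1i, show el 1 * (el 1 * p) * el 1 * (el 1 * q) = el 1 * el 1 * p * (el 1 * el 1) * q by group, h1]
      group
  refine ⟨MonoidHom.mk' (fun p => R.r (F.e p)) hmul, fun p => rfl, fun p q h => ?_, ?_, fun q hq => ?_⟩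
  · have hm : 0 < F.m := by rcases F.hm with ⟨h, -⟩ | ⟨h, -⟩ <;> omega
    have htop : ∀ v : PH, v ∈ F.H := fun v => by rw [H, ho]; exact Subgroup.mem_top v
    exact (F.E_inj (htop p) (htop q) hm hm (by rw [E, E, pow_zero, mul_one, mul_one]; exact h)).1
  · exact e_in iP_kP
  · obtain ⟨u, hu, rfl⟩ := R.t_mem_iff.mp hq
    obtain ⟨p, hp⟩ := c.exists_acts hu
    obtain ⟨p', -, -, i, hi, e⟩ := F.E_surj hu hp
    exact ⟨p', i, hi, e⟩

end Frame

end CfsgLib.HNStd
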