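import Cfsg.Agent.Lib.HNType.Five
import Cfsg.Agent.Lib.HNType.TwoB.Model

/-!
A chart in a finite group whose central involution fuses to element 1975 gives a copy of HN.
-/

set_option autoImplicit false
set_option maxRecDepth 100000
set_option maxHeartbeats 1600000

namespace CfsgLib.HNStd

open CfsgLib.CosetEnum CfsgLib.DCoset CfsgLib.HN CfsgLib.HNType CfsgLib.HNType.Five
open scoped Pointwise

variable {G : Type*} [Group G] {t : G} (Φ : Chart t)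

/-- an element exchanging `t` and `a` and fixing `e`, from a conjugating element -/
theorem exists_swap_of [Finite G] (ht : orderOf t = 2) {g : G} (hg : g * t * g⁻¹ = Φ.hom (el 1975)) :
    ∃ γ : G, Swap Φ γ := by
  haveI := finite_PH
  have : Fact (Nat.Prime 2) := ⟨Nat.prime_two⟩
  have : Fact (Nat.Prime 5) := ⟨by norm_num⟩
  have hmove : ∀ v : ↥T, ∃ v', Φ.hom v' = g⁻¹ * Φ.hom v * g := fun v => by
    refine Φ.exists_of_commute ?_
    have h1 := ((central_three (Or.inr (Or.inr rfl)) v.1 v.2).map Φ.hom).eq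
    rw [← hg] at h1
    show g⁻¹ * Φ.hom v * g * t = t * (g⁻¹ * Φ.hom v * g)
    calc g⁻¹ * Φ.hom v * g * t = g⁻¹ * (Φ.hom v * (g * t * g⁻¹)) * g := by group
      _ = _ := by rw [h1]; group
  choose m hm using hmove
  let mh : ↥T →* PH :=
    { toFun := m
      map_one' := Φ.hom_inj (by rw [hm, Subgroup.coe_one, map_one]; group)
      map_mul' := fun u v => Φ.hom_inj (by
        rw [hm, map_mul, hm, hm, Subgroup.coe_mul, map_mul]; group) }
  have hinj : Function.Injective mh := fun u v h => Subtype.ext (Φ.hom_inj (by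
    have h1 : Φ.hom (m u) = Φ.hom (m v) := congrArg Φ.hom h
    rw [hm, hm] at h1
    exact mul_left_cancel (mul_right_cancel h1)))
  have hcard : Nat.card ↥mh.range = 2 ^ 11 := by
    rw [Nat.card_congr (MonoidHom.ofInjective hinj).toEquiv.symm, card_T]; norm_num
  have hidx : ∀ H : Subgroup PH, Nat.card ↥H = 2 ^ 11 → ¬ 2 ∣ H.index := fun H hH => by
    have h := H.card_mul_index
    rw [hH, card_P] at h
    omega
  obtain ⟨c, hc⟩ := MulAction.exists_smul_eq PH ((IsPGroup.of_card hcard).toSylow (hidx _ hcard))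
    ((IsPGroup.of_card (G := ↥T) (n := 11) (by rw [card_T]; norm_num)).toSylow (hidx _ (by rw [card_T]; norm_num)))
  have hmemT : ∀ v, c * m v * c⁻¹ ∈ T := fun v => by
    have h2 := Subgroup.smul_mem_pointwise_smul (m v) (MulAut.conj c) _
      (show m v ∈ mh.range from ⟨v, rfl⟩)
    have h3 : (MulAut.conj c • mh.range : Subgroup PH) = T := by
      have := congrArg (fun P : Sylow 2 PH => (P : Subgroup PH)) hc
      rwa [Sylow.coe_subgroup_smul] at this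
    rw [h3] at h2
    exact h2
  let θ : ↥T → ↥T := fun v => ⟨c * m v * c⁻¹, hmemT v⟩
  have θinj : Function.Injective θ := fun u v h =>
    hinj (mul_left_cancel (mul_right_cancel (congrArg Subtype.val h)))
  have θbij : Function.Bijective θ := θinj.bijective_of_finite
  obtain ⟨d, hd⟩ : ∃ d, d = Φ.hom c * g⁻¹ := ⟨_, rfl⟩
  have hθ : ∀ v : ↥T, Φ.hom (θ v) = d * Φ.hom v * d⁻¹ := fun v => by
    show Φ.hom (c * m v * c⁻¹) = _
    rw [map_mul, map_mul, map_inv, hm, hd]; group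
  have h19 : d * Φ.hom (el 1975) * d⁻¹ = t := by
    rw [hd, ← hg, show Φ.hom c * g⁻¹ * (g * t * g⁻¹) * (Φ.hom c * g⁻¹)⁻¹
      = Φ.hom c * t * (Φ.hom c)⁻¹ by group, (Φ.commute_hom c).eq, mul_inv_cancel_right]
  obtain ⟨k, hk, hke⟩ := exists_el (θ ⟨iP, by rw [iP_eq]; exact el_mem (by norm_num)⟩).2
  have hkc : ∀ x ∈ T, Commute x (el k) := fun x hx => by
    obtain ⟨v, hv⟩ := θbij.2 ⟨x, hx⟩
    rw [hke, show x = ((θ v : ↥T) : PH) from (congrArg Subtype.val hv).symm]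
    refine Φ.hom_inj ((Φ.hom.map_mul _ _).trans (Eq.trans ?_ (Φ.hom.map_mul _ _).symm))
    rw [hθ, hθ,
      show d * Φ.hom v * d⁻¹ * (d * Φ.hom iP * d⁻¹) = d * (Φ.hom v * Φ.hom iP) * d⁻¹ by group,
      ← map_mul, ← iP_comm, map_mul]
    group
  have hdt : Φ.hom (el k) = d * t * d⁻¹ := by rw [hke, hθ, Φ.hom_iP]
  have hd0 : Φ.hom (el k) = d * t * d⁻¹ ∧ k = 1975 := by
    refine ⟨hdt, ?_⟩
    rcases central_cases hk hkc with rfl | rfl | rfl | rfl
    · rw [el_zero, map_one] at hdt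
      have h1 : t = 1 := conj_eq_one_iff.mp hdt.symm
      rw [h1, orderOf_one] at ht
      exact absurd ht (by norm_num)
    · rw [← iP_eq, Φ.hom_iP] at hdt
      have he : Φ.hom (el 1975) = t :=
        mul_left_cancel (mul_right_cancel (h19.trans hdt))
      have := el_inj (by norm_num) (by norm_num : 564 < 2048)
        (Φ.hom_inj (by rw [he, ← iP_eq, Φ.hom_iP]) : el 1975 = el 564)
      exact absurd this (by norm_num)
    · exact absurd hdt.symm (Φ.not_conj_690 d)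
    · rfl
  obtain ⟨-, rfl⟩ := hd0
  obtain ⟨γ0, hγ0⟩ : ∃ γ0, γ0 = (Φ.hom pc)⁻¹ * d * Φ.hom pc := ⟨_, rfl⟩
  have hpa : Φ.hom pa = (Φ.hom pc)⁻¹ * Φ.hom (el 1975) * Φ.hom pc := by
    rw [extra_facts.1, map_mul, map_mul, map_inv]
  have htc := (Φ.commute_hom pc).eq
  have h0a : γ0 * Φ.hom pa * γ0⁻¹ = t := by
    rw [hγ0, hpa]
    calc (Φ.hom pc)⁻¹ * d * Φ.hom pc * ((Φ.hom pc)⁻¹ * Φ.hom (el 1975) * Φ.hom pc) *
          ((Φ.hom pc)⁻¹ * d * Φ.hom pc)⁻¹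
        = (Φ.hom pc)⁻¹ * (d * Φ.hom (el 1975) * d⁻¹) * Φ.hom pc := by group
      _ = t := by rw [h19, mul_assoc, ← htc, inv_mul_cancel_left]
  have h0t : γ0 * t * γ0⁻¹ = Φ.hom pa := by
    rw [hγ0, hpa, hdt]
    calc (Φ.hom pc)⁻¹ * d * Φ.hom pc * t * ((Φ.hom pc)⁻¹ * d * Φ.hom pc)⁻¹
        = (Φ.hom pc)⁻¹ * d * (Φ.hom pc * t) * (Φ.hom pc)⁻¹ * d⁻¹ * Φ.hom pc := by group
      _ = _ := by rw [htc]; group
  -- make it fix `e`
  let Y : Subgroup PH := Subgroup.centralizer ({pa} : Set PH)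
  have hY : ∀ x, x ∈ Y ↔ Commute x pa := fun x => Subgroup.mem_centralizer_singleton_iff
  have hYc : Nat.card ↥Y = 30720 := by
    refine (Nat.card_eq_of_bijective (fun n : Fin 30720 => (⟨yP n, (hY _).mpr (yP_comm n.2)⟩ : ↥Y))
      ⟨fun a b h => Fin.ext (yP_injective a.2 b.2 (congrArg Subtype.val h)), fun y => ?_⟩).symm.trans
      (Nat.card_fin _)
    obtain ⟨n, hn, h⟩ := exists_y ((hY _).mp y.2)
    exact ⟨⟨n, hn⟩, Subtype.ext h⟩
  obtain ⟨-, -, -, -, -, -, -, -, -, -, -, -, -, -, hae, he5, he1, -⟩ := base_facts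
  obtain ⟨e0, he0c, he0⟩ : ∃ e0, Commute e0 pa ∧ Φ.hom e0 = γ0 * Φ.hom Five.pe * γ0⁻¹ := by
    obtain ⟨x', hx'⟩ := Φ.exists_of_commute (u := γ0 * Φ.hom Five.pe * γ0⁻¹) (by
      have h := (hae.symm.map Φ.hom).eq
      have e : Commute (γ0 * Φ.hom Five.pe * γ0⁻¹) (γ0 * Φ.hom pa * γ0⁻¹) := by
        show γ0 * Φ.hom Five.pe * γ0⁻¹ * (γ0 * Φ.hom pa * γ0⁻¹) = γ0 * Φ.hom pa * γ0⁻¹ * (γ0 * Φ.hom Five.pe * γ0⁻¹)
        calc _ = γ0 * (Φ.hom Five.pe * Φ.hom pa) * γ0⁻¹ := by group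
          _ = _ := by rw [h]; group
      exact Eq.mp (congrArg (Commute _) h0a) e)
    refine ⟨x', Φ.hom_inj ?_, hx'⟩
    have h := (Φ.commute_hom Five.pe).eq
    rw [map_mul, map_mul, hx', ← h0t]
    calc γ0 * Φ.hom Five.pe * γ0⁻¹ * (γ0 * t * γ0⁻¹) = γ0 * (Φ.hom Five.pe * t) * γ0⁻¹ := by group
      _ = _ := by rw [h]; group
  have he05 : e0 ^ 5 = 1 := Φ.hom_inj (by
    rw [map_pow, he0, conj_pow, ← map_pow, he5, map_one]; group)
  have he01 : e0 ≠ 1 := fun h => he1 (Φ.hom_inj (by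
    rw [h, map_one] at he0; rw [map_one]; exact conj_eq_one_iff.mp he0.symm))
  obtain ⟨c1, hc1, j, hj⟩ : ∃ c1, Commute c1 pa ∧ ∃ j < 5, c1 * e0 * c1⁻¹ = Five.pe ^ j := by
    let E : ↥Y := ⟨Five.pe, (hY _).mpr hae.symm⟩
    have hE : orderOf E = 5 := orderOf_eq_prime (Subtype.ext he5) fun h => he1 (congrArg Subtype.val h)
    have hEi : ¬ 5 ∣ (Subgroup.zpowers E).index := by
      have h := (Subgroup.zpowers E).card_mul_index
      rw [Nat.card_zpowers, hE, hYc] at h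
      omega
    have hxp : IsPGroup 5 (Subgroup.zpowers (⟨e0, (hY _).mpr he0c⟩ : ↥Y)) :=
      IsPGroup.of_card (n := 1) (by
        rw [Nat.card_zpowers, pow_one]
        exact orderOf_eq_prime (Subtype.ext he05) fun h => he01 (congrArg Subtype.val h))
    obtain ⟨P, hP⟩ := hxp.exists_le_sylow
    obtain ⟨c1, hc1⟩ := MulAction.exists_smul_eq ↥Y P
      ((IsPGroup.of_card (G := ↥(Subgroup.zpowers E)) (n := 1)
        (by rw [Nat.card_zpowers, hE, pow_one])).toSylow hEi)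
    have hmem : MulAut.conj c1 ⟨e0, (hY _).mpr he0c⟩ ∈ ((c1 • P : Sylow 5 ↥Y) : Subgroup ↥Y) := by
      rw [Sylow.coe_subgroup_smul]
      exact Subgroup.smul_mem_pointwise_smul _ (MulAut.conj c1) _ (hP (Subgroup.mem_zpowers _))
    rw [hc1] at hmem
    obtain ⟨k, hk⟩ := Subgroup.mem_zpowers_iff.mp
      (show MulAut.conj c1 ⟨e0, (hY _).mpr he0c⟩ ∈ Subgroup.zpowers E from hmem)
    refine ⟨c1.1, (hY _).mp c1.2, (k % (5 : ℕ)).toNat, by omega, ?_⟩
    rw [show k = (k % (5 : ℕ)) + (5 : ℕ) * (k / (5 : ℕ)) from (Int.emod_add_mul_ediv k _).symm, zpow_add,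
      zpow_mul, zpow_natCast E, ← hE, pow_orderOf_eq_one, one_zpow, mul_one, hE] at hk
    have hk' := congrArg Subtype.val hk
    rw [show k % ((5 : ℕ) : ℤ) = ((k % ((5 : ℕ) : ℤ)).toNat : ℤ) from
      (Int.toNat_of_nonneg (Int.emod_nonneg _ (by norm_num))).symm, zpow_natCast] at hk'
    exact hk'.symm
  obtain ⟨c2, hc2, hj2⟩ : ∃ c2, Commute c2 pa ∧ c2 * Five.pe ^ j * c2⁻¹ = Five.pe := by
    have hy := yP_comm (show 134 < 30720 by norm_num)
    have hy2 : (yP 134)⁻¹ * Five.pe * yP 134 = Five.pe * Five.pe := by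
      rw [mul_assoc, extra_facts.2.2.1, inv_mul_cancel_left]
    have hd2 : ∀ k : ℕ, (yP 134)⁻¹ * Five.pe ^ k * yP 134 = Five.pe ^ (2 * k) := fun k => by
      have h : ((yP 134)⁻¹ * Five.pe * (yP 134)⁻¹⁻¹) ^ k = (yP 134)⁻¹ * Five.pe ^ k * (yP 134)⁻¹⁻¹ := conj_pow
      simp only [inv_inv] at h
      rw [← h, hy2, pow_mul, pow_two]
    have hpw : ∀ k, Five.pe ^ k = Five.pe ^ (k % 5) := fun k => by
      conv_lhs => rw [← Nat.mod_add_div k 5, pow_add, pow_mul, he5, one_pow, mul_one]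
    obtain ⟨hj5, hje⟩ := hj
    have hj0 : j ≠ 0 := fun h => by
      rw [h, pow_zero] at hje
      exact he01 (conj_eq_one_iff.mp hje)
    have h1 : yP 134 * Five.pe ^ (2 * j) * (yP 134)⁻¹ = Five.pe ^ j := by rw [← hd2]; group
    interval_cases j
    · exact absurd rfl hj0
    · exact ⟨1, Commute.one_left _, by rw [one_mul, inv_one, mul_one, pow_one]⟩
    · refine ⟨yP 134, hy, ?_⟩
      calc yP 134 * Five.pe ^ 2 * (yP 134)⁻¹ = yP 134 * Five.pe ^ (2 * 1) * (yP 134)⁻¹ := by rw [Nat.mul_one]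
        _ = Five.pe := by rw [← hd2]; simp only [pow_one]; group
    · refine ⟨(yP 134)⁻¹, hy.inv_left, ?_⟩
      rw [inv_inv, hd2, hpw, show 2 * 3 % 5 = 1 by norm_num, pow_one]
    · refine ⟨yP 134 * yP 134, hy.mul_left hy, ?_⟩
      calc yP 134 * yP 134 * Five.pe ^ 4 * (yP 134 * yP 134)⁻¹
          = yP 134 * (yP 134 * Five.pe ^ (2 * 2) * (yP 134)⁻¹) * (yP 134)⁻¹ := by
            rw [show 2 * 2 = 4 by norm_num]; group
        _ = yP 134 * Five.pe ^ (2 * 1) * (yP 134)⁻¹ := by rw [← hd2, Nat.mul_one]; group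
        _ = Five.pe := by rw [← hd2]; simp only [pow_one]; group
  refine ⟨Φ.hom (c2 * c1) * γ0, ?_, ?_, ?_⟩
  · calc _ = Φ.hom (c2 * c1) * (γ0 * Φ.hom pa * γ0⁻¹) * (Φ.hom (c2 * c1))⁻¹ := by group
      _ = t := by rw [h0a, (Φ.commute_hom _).eq, mul_inv_cancel_right]
  · calc _ = Φ.hom (c2 * c1) * (γ0 * t * γ0⁻¹) * (Φ.hom (c2 * c1))⁻¹ := by group
      _ = _ := by rw [h0t, ((hc2.mul_left hc1).map Φ.hom).eq, mul_inv_cancel_right]
  · calc _ = Φ.hom (c2 * c1) * (γ0 * Φ.hom Five.pe * γ0⁻¹) * (Φ.hom (c2 * c1))⁻¹ := by group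
      _ = Φ.hom (c2 * (c1 * e0 * c1⁻¹) * c2⁻¹) := by
        rw [← he0]; simp only [map_mul, map_inv]; group
      _ = _ := by rw [hj.2, hj2]

/-- the element of order five -/
theorem exists_five_of [Finite G] (ht : orderOf t = 2) {g : G} (hg : g * t * g⁻¹ = Φ.hom (el 1975)) :
    ∃ s : G, s ^ 5 = 1 ∧ (Φ.hom (toP hX))⁻¹ * s * Φ.hom (toP hX) * s ^ 2 = 1 ∧
      Commute s (Φ.hom (toP hY)) ∧ (Φ.hom (toP hZ) * s) ^ 3 = 1 := by
  obtain ⟨γ, hγ⟩ := exists_swap_of Φ ht hg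
  obtain ⟨n, hn, hv, hTv, hTva, ⟨e, he, hen⟩ | ⟨e, he, hen⟩⟩ := hγ.image_b
  · rw [toP_hX, toP_hY, toP_hZ]
    exact hγ.first_branch hn hv hTv hTva he hen
  · exact (hγ.second_branch_absurd hn hv hTv hTva he hen).elim

/-- a copy of HN on a chart -/
theorem exists_emb_of [Finite G] (ht : orderOf t = 2) {g : G} (hg : g * t * g⁻¹ = Φ.hom (el 1975)) :
    ∃ E : TwoB.Emb t, E.χ = Φ := by
  obtain ⟨s, h5, hx, hy, hz⟩ := exists_five_of Φ ht hg
  obtain ⟨Ψ, hΨ, hc, -⟩ := exists_embedding (Φ.hom.comp toP) (Φ.hom_inj.comp toP_injective) s h5 hx hy hz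
  exact ⟨⟨Φ, Ψ, hΨ, hc⟩, rfl⟩

end CfsgLib.HNStd
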