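import Cfsg.Agent.Lib.HNStd.Lift
import Cfsg.Agent.Lib.HNStd.Swap

/-!
Without a root of the central involution the group is HN.
-/

set_option autoImplicit false
set_option maxRecDepth 100000
set_option maxHeartbeats 1600000

namespace CfsgLib.HNStd

open CfsgLib.CosetEnum CfsgLib.DCoset CfsgLib.HN CfsgLib.HNType CfsgLib.HNType.TwoB

theorem Q0_sq {q : ↥cL} (hq : q ∈ Q0) : q ^ 4 = 1 := by
  obtain ⟨v, -, hv⟩ := exists_code hq
  have hqq : ME (q * q) 1 := me_trans (me_mul hv hv) (qc_self v)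
  rw [show q ^ 4 = q * q * (q * q) by simp [pow_succ, mul_assoc]]
  rcases hqq with e | e <;> rw [e]
  · exact one_mul 1
  · rw [one_mul, zL_sq]

theorem w0_kP : wordP w0 ∈ kP := by
  have h := el690_kP
  rw [el690_eq] at h
  have := (conj_mem_kP (wordP u690)⁻¹).mp (by rwa [inv_inv])
  exact this

namespace Red

variable {G : Type*} [Group G] [Finite G] {c : Ctx G} {Q : Type*} [Group Q] (R : Red c Q)

/-- a chart of the centraliser of `t` and a copy of HN, everything else in the quotient -/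
theorem exists_copy (F : Frame R) (hm : F.m = 1) (ho : F.out = true) (htw : F.tw = false)
    (hx : R.x = el 1975) :
    ∃ E : Emb R.t, E.Φ.range = ⊤ ∧ E.Φ za = R.ι (wordP w0) ∧
      ∀ y, orderOf y = 2 → IsConj y R.t ∨ IsConj y (E.Φ za) := by
  haveI := R.finite_Q
  obtain ⟨j, hj, hinj, hjt, hsurj⟩ := F.exists_hom ho htw
  have hk1 : F.k = 1 := (F.hm.resolve_right fun h => by omega).2.1
  have hmem : ∀ p, j p ∈ Subgroup.centralizer ({R.t} : Set Q) := fun p =>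
    Subgroup.mem_centralizer_singleton_iff.mpr (by
      rw [← hjt, ← map_mul, ← map_mul, iP_comm])
  let χ : Chart R.t := ⟨MulEquiv.ofBijective (j.codRestrict _ hmem)
    ⟨fun p q h => hinj (congrArg Subtype.val h), fun q => by
      obtain ⟨p, i, hi, e⟩ := hsurj q (Subgroup.mem_centralizer_singleton_iff.mp q.2)
      refine ⟨p, Subtype.ext ?_⟩
      rw [hk1, R.r_one, one_pow, mul_one] at e
      exact e⟩, hjt⟩
  have hhom : ∀ p, χ.hom p = j p := fun p => rfl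
  have ht : orderOf R.t = 2 := CfsgLib.Invol.orderOf_two_of_mul_self R.t_sq R.t_ne
  have hι : ∀ {p : PH}, p ∈ kP → j p = R.ι p := fun {p} hp => by
    rw [hj, Frame.e, if_pos hp]; rfl
  have hg : R.r R.g * R.t * (R.r R.g)⁻¹ = χ.hom (el 1975) := by
    show R.r R.g * R.r c.z * (R.r R.g)⁻¹ = _
    rw [← R.r_conj R.hg (R.hN c.z_mem_N), R.pair.fwd, hx, hhom, hι el1975_kP]; rfl
  obtain ⟨E, hE⟩ := exists_emb_of χ ht hg
  obtain ⟨h1, h2⟩ := E.range_eq_top ht
  exact ⟨E, h1, by rw [E.map_za, hE, hhom, hι w0_kP], h2⟩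

end Red

section Collapse

variable {G : Type*} [Group G] [Finite G] {c : Ctx G} {Q : Type*} [Group Q] {R : Red c Q}

theorem eq_bot_of_copy [IsSimpleGroup G] (hM : R.M = Subgroup.normalizer ((c.D R.g : Subgroup G) : Set G))
    (F : Frame R) (ho : F.out = true) (htw : F.tw = false) (E : Emb R.t) (hE : E.Φ.range = ⊤)
    (hza : E.Φ za = R.ι (wordP w0)) (hcls : ∀ y, orderOf y = 2 → IsConj y R.t ∨ IsConj y (E.Φ za)) :
    c.D R.g = ⊥ := by
  classical
  haveI := R.finite_Q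
  have : Fact (Nat.Prime 2) := ⟨Nat.prime_two⟩
  have ht : orderOf R.t = 2 := CfsgLib.Invol.orderOf_two_of_mul_self R.t_sq R.t_ne
  haveI hQs : IsSimpleGroup Q := by
    haveI := isSimple_G
    haveI : Nontrivial Q := ⟨⟨R.t, 1, R.t_ne⟩⟩
    exact IsSimpleGroup.isSimpleGroup_of_surjective E.Φ (MonoidHom.range_eq_top.mp hE)
  obtain ⟨v, hv⟩ : ∃ v, v = c.f (wordP w0) := ⟨_, rfl⟩
  have hvN : v ∈ c.N := hv ▸ c.f_mem_N w0_kP
  have hvM : v ∈ R.M := R.hN hvN
  have hrv : R.r v = E.Φ za := by rw [hv, hza]; rfl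
  have hzaT : ¬ IsConj (E.Φ za) R.t := E.not_isConj_of_CH CH_za
  have hrv1 : R.r v ≠ 1 := by
    rw [hrv, ← map_one E.Φ]
    exact fun h => za_ne_one (E.inj h)
  have hv2 : v * v = 1 := by
    have h := sq_el690
    rw [el690_eq, show (wordP u690)⁻¹ * wordP w0 * wordP u690 * ((wordP u690)⁻¹ * wordP w0 * wordP u690) =
      (wordP u690)⁻¹ * (wordP w0 * wordP w0) * (wordP u690)⁻¹⁻¹ by group, inv_inv,
      mul_assoc, inv_mul_eq_one, eq_comm, mul_eq_right] at h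
    rw [hv, ← c.map_mul _ _ w0_kP w0_kP, h, c.f_one]
  have hvz : ¬ IsConj c.z v := fun h => by
    obtain ⟨a, ha⟩ := isConj_iff.mp h
    have hu := R.ι_mul (a := wordP w0) (b := wordP w0) w0_kP w0_kP
    obtain ⟨j, hj, hinj, -, -⟩ := F.exists_hom ho htw
    have hι : ∀ {p : PH}, p ∈ kP → j p = R.ι p := fun {p} hp => by
      rw [hj, Frame.e, if_pos hp]; rfl
    have hconj : IsConj (R.ι (wordP w0)) (R.ι (el 690)) := by
      rw [← hι w0_kP, ← hι el690_kP, el690_eq]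
      exact isConj_iff.mpr ⟨(j (wordP u690))⁻¹, by simp only [map_mul, map_inv, inv_inv]⟩
    have h690M := R.hN (c.f_mem_N el690_kP)
    have hlift := isConj_of_image R.surj R.odd_ker (s := (⟨v, hvM⟩ : ↥R.M))
      (s' := ⟨c.f (el 690), h690M⟩) (Subtype.ext hv2)
      (Subtype.ext (by show c.f _ * c.f _ = 1; rw [← c.map_mul _ _ el690_kP el690_kP, sq_el690, c.f_one]))
      (by rw [← R.r_coe, ← R.r_coe]; show IsConj (R.r v) (R.ι (el 690)); rw [hv]; exact hconj)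
    obtain ⟨b, hb⟩ := isConj_iff.mp hlift
    refine F.not_conj_690 ho htw ((b : G) * a) ?_
    have hb' : (b : G) * v * (b : G)⁻¹ = c.f (el 690) := congrArg Subtype.val hb
    rw [← hb', ← ha]; group
  -- transport of the class
  have hT : ∀ {s : G}, s ∈ R.M → s * s = 1 → (IsConj s c.z ↔ IsConj (R.r s) R.t) := by
    intro s hs hs2
    have back : ∀ {w : G} (hw : w ∈ R.M), w * w = 1 → IsConj (R.r s) (R.r w) → IsConj s w := by
      intro w hw hw2 h
      obtain ⟨b, hb⟩ := isConj_iff.mp (isConj_of_image R.surj R.odd_ker (s := (⟨s, hs⟩ : ↥R.M))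
        (s' := ⟨w, hw⟩) (Subtype.ext hs2) (Subtype.ext hw2) (by rw [← R.r_coe, ← R.r_coe]; exact h))
      exact isConj_iff.mpr ⟨b, congrArg Subtype.val hb⟩
    refine ⟨fun h => ?_, back (R.hN c.z_mem_N) c.z_sq⟩
    by_cases h1 : R.r s = 1
    · exfalso
      have hd := (R.r_eq_one hs).mp h1
      have := R.pair.odd_order hd
      rcases eq_or_ne s 1 with rfl | hne
      · exact c.z_ne (isConj_one_right.mp h)
      · rw [CfsgLib.Invol.orderOf_two_of_mul_self hs2 hne] at this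
        exact absurd this (by decide)
    rcases hcls _ (CfsgLib.Invol.orderOf_two_of_mul_self (by rw [← R.r_mul hs hs, hs2, R.r_one]) h1) with e | e
    · exact e
    · exact absurd (h.symm.trans (back hvM hv2 (hrv ▸ e))) hvz
  -- two-elements centralise the odd part
  let C1 : Subgroup G := R.M ⊓ Subgroup.centralizer ((c.D R.g : Subgroup G) : Set G)
  have hC1n : ∀ m ∈ R.M, ∀ u ∈ C1, m * u * m⁻¹ ∈ C1 := by
    intro m hm u hu
    refine ⟨R.M.mul_mem (R.M.mul_mem hm hu.1) (R.M.inv_mem hm), Subgroup.mem_centralizer_iff.mpr fun d hd => ?_⟩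
    have hd' : m⁻¹ * d * m ∈ c.D R.g := by
      have := (Subgroup.mem_normalizer_iff''.mp (hM ▸ hm) d).1 hd
      exact this
    have e := Subgroup.mem_centralizer_iff.mp hu.2 _ hd'
    calc d * (m * u * m⁻¹) = m * ((m⁻¹ * d * m) * u) * m⁻¹ := by group
      _ = _ := by rw [e]; group
  have hC1top : ∀ q : Q, ∃ u ∈ C1, R.r u = q := by
    let S : Subgroup Q :=
      { carrier := {q | ∃ u ∈ C1, R.r u = q}
        one_mem' := ⟨1, C1.one_mem, R.r_one⟩
        mul_mem' := fun ⟨u, hu, e⟩ ⟨w, hw, e'⟩ => ⟨u * w, C1.mul_mem hu hw, by rw [R.r_mul hu.1 hw.1, e, e']⟩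
        inv_mem' := fun ⟨u, hu, e⟩ => ⟨u⁻¹, C1.inv_mem hu, by rw [R.r_inv hu.1, e]⟩ }
    haveI : S.Normal := ⟨by
      rintro _ ⟨u, hu, rfl⟩ q
      obtain ⟨⟨m, hm⟩, rfl⟩ := R.surj q
      exact ⟨m * u * m⁻¹, hC1n m hm u hu, by rw [R.r_conj hm hu.1, ← R.r_coe]⟩⟩
    have hvS : R.r v ∈ S := ⟨v, ⟨hvM, Subgroup.mem_centralizer_iff.mpr fun d hd => by
      rw [hv]; exact (c.mem_K.mp hd.1 _ w0_kP).eq⟩, rfl⟩
    rcases (inferInstance : S.Normal).eq_bot_or_eq_top with h | h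
    · exact absurd (Subgroup.mem_bot.mp (h ▸ hvS)) hrv1
    · exact fun q => (h ▸ Subgroup.mem_top q : q ∈ S)
  have hodd1 : ∀ {d : G} {n : ℕ}, d ∈ c.D R.g → d ^ 2 ^ n = 1 → d = 1 := fun {d n} hd h => by
    have ho := R.pair.odd_order hd
    obtain ⟨i, -, hi⟩ := (Nat.dvd_prime_pow Nat.prime_two).mp (orderOf_dvd_of_pow_eq_one h)
    refine orderOf_eq_one_iff.mp ?_
    rcases Nat.eq_zero_or_pos i with h0 | h0
    · rw [hi, h0, pow_zero]
    · exact absurd (hi ▸ (Nat.even_pow.mpr ⟨even_two, h0.ne'⟩)) (Nat.not_even_iff_odd.mpr ho)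
  have htwoC : ∀ {u : G} {n : ℕ}, u ∈ R.M → u ^ 2 ^ n = 1 → u ∈ C1 := by
    intro u n hu hn
    obtain ⟨a, ha, hr⟩ := hC1top (R.r u)
    obtain ⟨d, hd, rfl⟩ : ∃ d ∈ c.D R.g, u = a * d := ⟨a⁻¹ * u, (R.r_eq ha.1 hu).mp hr, by group⟩
    have hdM := R.mem_D_M hd
    have hk : ∀ k : ℕ, ∃ b ∈ C1, (a * d) ^ k = b * d ^ k := by
      intro k
      induction k with
      | zero => exact ⟨1, C1.one_mem, by simp⟩
      | succ k ih =>
        obtain ⟨b, hb, e⟩ := ih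
        refine ⟨b * (d ^ k * a * (d ^ k)⁻¹), C1.mul_mem hb (hC1n _ (R.M.pow_mem hdM k) a ha), ?_⟩
        rw [pow_succ, e, pow_succ]; group
    obtain ⟨b, hb, e⟩ := hk (2 ^ n)
    rw [hn] at e
    have h2 : d ^ 2 ^ n ∈ C1 := by rw [eq_inv_of_mul_eq_one_right e.symm]; exact C1.inv_mem hb
    have hcop : Nat.Coprime (2 ^ n) (orderOf d) :=
      (Nat.coprime_two_left.mpr (R.pair.odd_order hd)).pow_left n
    obtain ⟨k, hk'⟩ := exists_pow_eq_self_of_coprime hcop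
    exact C1.mul_mem ha (hk' ▸ C1.pow_mem h2 k)
  have huniq : ∀ {u w : G} {n k : ℕ}, u ∈ R.M → w ∈ R.M → u ^ 2 ^ n = 1 → w ^ 2 ^ k = 1 →
      R.r u = R.r w → u = w := by
    intro u w n k hu hw hn hk h
    have hd := (R.r_eq hu hw).mp h
    have hc : Commute u (u⁻¹ * w) :=
      (Subgroup.mem_centralizer_iff.mp (htwoC hu hn).2 _ hd).symm
    refine inv_mul_eq_one.mp (hodd1 (n := n + k) hd ?_)
    have e : (u * (u⁻¹ * w)) ^ 2 ^ (n + k) = 1 := by
      rw [mul_inv_cancel_left, pow_add, pow_mul', hk, one_pow]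
    rwa [hc.mul_pow, pow_add, pow_mul, hn, one_pow, one_mul, ← pow_add] at e
  have hlift : ∀ {q : Q} {n : ℕ}, q ^ 2 ^ n = 1 → ∃ u ∈ R.M, u ^ 2 ^ n = 1 ∧ R.r u = q := by
    intro q n hq
    obtain ⟨⟨u, hu⟩, hqu⟩ := R.surj q
    rw [← R.r_coe] at hqu
    have hpow : ∀ k : ℕ, R.r (u ^ k) = R.r u ^ k := fun k => by
      induction k with
      | zero => rw [pow_zero, pow_zero, R.r_one]
      | succ k ih => rw [pow_succ, pow_succ, R.r_mul (R.M.pow_mem hu k) hu, ih]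
    obtain ⟨e, he⟩ : ∃ e, e = orderOf (u ^ 2 ^ n) := ⟨_, rfl⟩
    have hd : u ^ 2 ^ n ∈ c.D R.g := (R.r_eq_one (R.M.pow_mem hu _)).mp (by rw [hpow, hqu, hq])
    have hcop : Nat.Coprime e (orderOf q) := by
      refine Nat.Coprime.coprime_dvd_right (orderOf_dvd_of_pow_eq_one hq) (Nat.Coprime.pow_right n ?_)
      exact he ▸ (Nat.coprime_two_left.mpr (R.pair.odd_order hd)).symm
    obtain ⟨m, hm⟩ := exists_pow_eq_self_of_coprime hcop
    refine ⟨(u ^ e) ^ m, R.M.pow_mem (R.M.pow_mem hu e) m, ?_, ?_⟩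
    · rw [← pow_mul, ← pow_mul, show e * (m * 2 ^ n) = 2 ^ n * e * m by ring, pow_mul, pow_mul, he,
        pow_orderOf_eq_one, one_pow]
    · rw [← pow_mul, hpow, pow_mul, hqu, hm]
  -- the two-group over the normal subgroup of the centraliser
  obtain ⟨R0, hR0⟩ : ∃ R0 : Subgroup Q, R0 = (Q0.map E.ψ).map (E.Lz).subtype := ⟨_, rfl⟩
  have hR04 : ∀ q ∈ R0, q ^ 4 = 1 := by
    rw [hR0]; rintro _ ⟨_, ⟨a, ha, rfl⟩, rfl⟩
    rw [← map_pow, ← map_pow, Q0_sq ha, map_one, map_one]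
  let U : Subgroup G :=
    { carrier := {u | u ∈ C1 ∧ R.r u ∈ R0}
      one_mem' := ⟨C1.one_mem, by rw [R.r_one]; exact R0.one_mem⟩
      mul_mem' := fun ⟨hu, hu'⟩ ⟨hw, hw'⟩ => ⟨C1.mul_mem hu hw, by rw [R.r_mul hu.1 hw.1]; exact R0.mul_mem hu' hw'⟩
      inv_mem' := fun ⟨hu, hu'⟩ => ⟨C1.inv_mem hu, by rw [R.r_inv hu.1]; exact R0.inv_mem hu'⟩ }
  let φ : ↥U →* Q := MonoidHom.mk' (fun u => R.r u) fun u w => R.r_mul u.2.1.1 w.2.1.1
  have hφr : φ.range = R0 := by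
    refine le_antisymm (by rintro _ ⟨u, rfl⟩; exact u.2.2) fun q hq => ?_
    obtain ⟨u, hu, hun, rfl⟩ := hlift (n := 2) (hR04 q hq)
    exact ⟨⟨u, htwoC hu hun, hq⟩, rfl⟩
  have hφo : Odd (Nat.card ↥φ.ker) := by
    have hk : φ.ker = (c.D R.g).subgroupOf U := by
      ext u
      rw [MonoidHom.mem_ker, Subgroup.mem_subgroupOf]
      exact R.r_eq_one u.2.1.1
    rw [hk]
    exact R.pair.odd_D.of_dvd_nat (Subgroup.card_comap_dvd_of_injective _ _ U.subtype_injective)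
  obtain ⟨a, ha⟩ : ∃ a, Nat.card ↥φ.range = 2 ^ a := by
    refine IsPGroup.iff_card.mp fun q => ⟨2, Subtype.ext ?_⟩
    exact hR04 q.1 (hφr ▸ q.2)
  obtain ⟨P0, -, hPs, -⟩ := exists_two_lift φ hφo ha
  obtain ⟨P, hP⟩ : ∃ P : Subgroup G, P = (P0 : Subgroup ↥U).map U.subtype := ⟨_, rfl⟩
  have hPmem : ∀ {u : G}, u ∈ P ↔ u ∈ R.M ∧ (∃ n, u ^ 2 ^ n = 1) ∧ R.r u ∈ R0 := by
    intro u
    constructor
    · rw [hP]; rintro ⟨p, hp, rfl⟩
      obtain ⟨n, hn⟩ := P0.isPGroup' ⟨p, hp⟩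
      exact ⟨p.2.1.1, ⟨n, congrArg Subtype.val (congrArg Subtype.val hn)⟩, p.2.2⟩
    · rintro ⟨hu, ⟨n, hn⟩, hr⟩
      obtain ⟨p, hp, e⟩ := hPs _ (hφr ▸ hr)
      obtain ⟨k, hk⟩ := P0.isPGroup' ⟨p, hp⟩
      rw [hP]
      exact ⟨p, hp, huniq p.2.1.1 hu (congrArg Subtype.val (congrArg Subtype.val hk)) hn e⟩
  -- the centraliser
  obtain ⟨CV, hCV⟩ : ∃ CV : Subgroup G, CV = Subgroup.centralizer ({v} : Set G) := ⟨_, rfl⟩
  have memCV : ∀ {u : G}, u ∈ CV ↔ Commute u v := fun {u} => by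
    rw [hCV]; exact Subgroup.mem_centralizer_singleton_iff
  let L := ↥CV
  let ML : Subgroup L := R.M.subgroupOf CV
  have hML : ∀ {x : L}, x ∈ ML ↔ (x : G) ∈ R.M := Iff.rfl
  have hbar : ∀ {u : G}, u ∈ R.M → u ∈ CV → R.r u ∈ E.Lz := fun {u} hu hc =>
    Subgroup.mem_centralizer_singleton_iff.mpr (by
      rw [← hrv, ← R.r_mul hu hvM, ← R.r_mul hvM hu, (memCV.mp hc).eq])
  let bar : ↥ML →* ↥E.Lz := MonoidHom.mk' (fun x => ⟨R.r (x.1 : G), hbar x.2 x.1.2⟩) fun x y =>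
    Subtype.ext (R.r_mul x.2 y.2)
  have hcomm_of : ∀ {u : G} {n : ℕ}, u ∈ R.M → u ^ 2 ^ n = 1 → R.r u ∈ E.Lz → u ∈ CV := by
    intro u n hu hn hr
    refine memCV.mpr (mul_inv_eq_iff_eq_mul.mp (huniq (n := 1) (k := 1)
      (R.M.mul_mem (R.M.mul_mem hu hvM) (R.M.inv_mem hu)) hvM ?_ ?_ ?_))
    · rw [pow_one, conj_pow, pow_two, hv2]; group
    · rw [pow_one, pow_two, hv2]
    · rw [R.r_conj hu hvM, hrv, Subgroup.mem_centralizer_singleton_iff.mp hr, mul_inv_cancel_right]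
  have hliftL : ∀ {q : ↥E.Lz} {n : ℕ}, q ^ 2 ^ n = 1 →
      ∃ x : ↥ML, (x.1 : G) ^ 2 ^ n = 1 ∧ bar x = q := by
    intro q n hq
    obtain ⟨u, hu, hun, hr⟩ := hlift (congrArg Subtype.val hq : (q : Q) ^ 2 ^ n = 1)
    exact ⟨⟨⟨u, hcomm_of hu hun (hr ▸ q.2)⟩, hu⟩, hun, Subtype.ext hr⟩
  have hliftC : ∀ q : ↥E.Lz, ∃ x : ↥ML, bar x = q := by
    intro q
    obtain ⟨u, hu, hc⟩ := exists_lift_commute R.surj R.odd_ker (s := (⟨v, hvM⟩ : ↥R.M))
      (Subtype.ext hv2) (q := (q : Q)) (by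
        rw [← R.r_coe]; show Commute (q : Q) (R.r v); rw [hrv]
        exact Subgroup.mem_centralizer_singleton_iff.mp q.2)
    exact ⟨⟨⟨u, memCV.mpr (congrArg Subtype.val hc.eq)⟩, u.2⟩, Subtype.ext ((R.r_coe u).trans hu)⟩
  have hP_le : P ≤ CV := fun u hu => by
    obtain ⟨h1, ⟨n, h2⟩, h3⟩ := hPmem.mp hu
    refine hcomm_of h1 h2 ?_
    rw [hR0] at h3
    obtain ⟨w, -, e⟩ := h3
    exact e ▸ w.2
  let H0 := E.hyp ht
  have hH0 : ∀ q : ↥E.Lz, q ∈ H0.M := fun q => by rw [H0.M_eq_top]; exact Subgroup.mem_top q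
  have hQmem : ∀ {x : ↥ML}, (∃ n, (x.1 : G) ^ 2 ^ n = 1) → ((x.1 : G) ∈ P ↔ bar x ∈ H0.Q) := by
    intro x hx
    rw [hPmem]
    constructor
    · rintro ⟨-, -, h⟩
      rw [hR0] at h
      obtain ⟨w, hw, e⟩ := h
      exact (Subtype.ext e : w = bar x) ▸ hw
    · intro h
      exact ⟨x.2, hx, hR0 ▸ ⟨bar x, h, rfl⟩⟩
  have hTbar : ∀ {x : ↥ML}, (x.1 : G) * (x.1 : G) = 1 → (IsConj (x.1 : G) c.z ↔ H0.T (bar x)) :=
    fun {x} hx => hT x.2 hx
  have hz2 : c.z ^ 2 ^ 1 = 1 := by rw [pow_one, pow_two, c.z_sq]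
  have hrz : R.r c.z = E.Φ (tL : HNG) := by rw [tL_val, E.map_gi]; rfl
  have hzCV : c.z ∈ CV := memCV.mpr (hv ▸ (c.mem_N.mp (c.f_mem_N w0_kP)).symm)
  let zM : ↥ML := ⟨⟨c.z, hzCV⟩, R.hN c.z_mem_N⟩
  let vM : ↥ML := ⟨⟨v, memCV.mpr (Commute.refl _)⟩, hvM⟩
  have hbz : bar zM = H0.t := Subtype.ext hrz
  have hbv : bar vM = H0.z₀ := Subtype.ext hrv
  obtain ⟨sM, hs2, hbs⟩ := hliftL (q := H0.s₀) (n := 1) (by rw [pow_one, pow_two]; exact H0.s_sq)
  rw [pow_one, pow_two] at hs2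
  have hbar2 : ∀ {x : ↥ML}, (x.1 : G) * (x.1 : G) = 1 → bar x * bar x = 1 := fun {x} hx => by
    rw [← map_mul, show x * x = 1 from Subtype.ext (Subtype.ext hx), map_one]
  have hmulv : ∀ {x : ↥ML}, (x.1 : G) * (x.1 : G) = 1 →
      ((x.1 : G) * v) * ((x.1 : G) * v) = 1 := fun {x} hx => by
    rw [show (x.1 : G) * v * ((x.1 : G) * v) = (x.1 : G) * (v * (x.1 : G)) * v by group,
      ← (memCV.mp x.1.2).eq, show (x.1 : G) * ((x.1 : G) * v) * v = (x.1 : G) * (x.1 : G) * (v * v) by group,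
      hx, hv2, one_mul]
  have hTv : ∀ {x : ↥ML}, (x.1 : G) * (x.1 : G) = 1 →
      (IsConj ((x.1 : G) * v) c.z ↔ H0.T (bar x * H0.z₀)) := fun {x} hx => by
    rw [← hbv, ← map_mul]
    exact hTbar (x := x * vM) (hmulv hx)
  have hconjL : ∀ {m x : ↥ML} {n k : ℕ}, (x.1 : G) ^ 2 ^ n = 1 → ∀ {y : ↥ML}, (y.1 : G) ^ 2 ^ k = 1 →
      bar m * bar x * (bar m)⁻¹ = bar y → m.1 * x.1 * m.1⁻¹ = y.1 := by
    intro m x n k hx y hy e
    refine Subtype.ext (huniq (n := n) (k := k) (m * x * m⁻¹).2 y.2 ?_ hy ?_)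
    · show ((m.1 : G) * x.1 * (m.1 : G)⁻¹) ^ 2 ^ n = 1
      rw [conj_pow, hx]; group
    · rw [← map_inv, ← map_mul, ← map_mul] at e
      exact congrArg Subtype.val e
  let H : Hyp L :=
    { M := ML
      Q := P.subgroupOf CV
      z₀ := vM.1
      T := fun x => IsConj (x : G) c.z
      t := zM.1
      s₀ := sM.1
      z_central := fun g => Subtype.ext (memCV.mp g.2).eq
      z_sq := Subtype.ext hv2
      T_conj := fun g x h =>
        (isConj_iff.mpr ⟨(g : G), rfl⟩ : IsConj (x : G) (↑(g * x * g⁻¹) : G)).symm.trans h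
      T_z := fun h => hvz h.symm
      Q_le := fun x hx => (hPmem.mp hx).1
      z_mem := (hQmem (x := vM) ⟨1, by rw [pow_one, pow_two]; exact hv2⟩).mpr (hbv ▸ H0.z_mem)
      Q_normal := fun m hm q hq => by
        obtain ⟨hqM, ⟨n, hn⟩, -⟩ := hPmem.mp hq
        have hmq : bar (⟨m, hm⟩ * ⟨q, hqM⟩ * ⟨m, hm⟩⁻¹) ∈ H0.Q := by
          rw [map_mul, map_mul, map_inv]
          exact H0.Q_normal _ (hH0 _) _ ((hQmem (x := ⟨q, hqM⟩) ⟨n, hn⟩).mp hq)
        refine (hQmem (x := ⟨m, hm⟩ * ⟨q, hqM⟩ * ⟨m, hm⟩⁻¹) ⟨n, ?_⟩).mpr hmq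
        show ((m : G) * q * (m : G)⁻¹) ^ 2 ^ n = 1
        rw [conj_pow, show (q : G) ^ 2 ^ n = 1 from hn]; group
      Q_comm := fun p hp q hq => by
        obtain ⟨hpM, -, -⟩ := hPmem.mp hp
        obtain ⟨hqM, ⟨n, hn⟩, -⟩ := hPmem.mp hq
        have hvP : (v : G) ∈ P :=
          (hQmem (x := vM) ⟨1, by rw [pow_one, pow_two]; exact hv2⟩).mpr (hbv ▸ H0.z_mem)
        obtain ⟨-, ⟨k, hk⟩, -⟩ := hPmem.mp (P.mul_mem hq hvP)
        have hq0 := (hQmem (x := ⟨q, hqM⟩) ⟨n, hn⟩).mp hq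
        have hp0 := (hQmem (x := ⟨p, hpM⟩) (hPmem.mp hp).2.1).mp hp
        rcases H0.Q_comm _ hp0 _ hq0 with e | e
        · exact Or.inl (hconjL (m := ⟨p, hpM⟩) (x := ⟨q, hqM⟩) hn (y := ⟨q, hqM⟩) hn e)
        · rw [← hbv] at e
          exact Or.inr (hconjL (m := ⟨p, hpM⟩) (x := ⟨q, hqM⟩) hn (y := ⟨q, hqM⟩ * vM) hk
            (e.trans (map_mul bar _ _).symm))
      t_sq := Subtype.ext c.z_sq
      t_mem := (hQmem (x := zM) ⟨1, hz2⟩).mpr (hbz ▸ H0.t_mem)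
      t_T := ⟨IsConj.refl _, (hTv (x := zM) c.z_sq).mpr (hbz ▸ H0.t_T.2)⟩
      s_sq := Subtype.ext hs2
      s_T := ⟨(hTbar hs2).mpr (hbs ▸ H0.s_T.1), fun h => H0.s_T.2 (hbs ▸ (hTv hs2).mp h)⟩
      A_conj := fun x hx hx2 h1 h2 => by
        have hx2' : (x : G) * x = 1 := congrArg Subtype.val hx2
        obtain ⟨hq, m, -, hm⟩ := H0.A_conj (bar ⟨x, hx⟩) (hH0 _) (hbar2 hx2')
          ((hTbar (x := ⟨x, hx⟩) hx2').mp h1) ((hTv (x := ⟨x, hx⟩) hx2').mp h2)
        obtain ⟨mm, rfl⟩ := hliftC m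
        have h21 : (x : G) ^ 2 ^ 1 = 1 := by rw [pow_one, pow_two, hx2']
        exact ⟨(hQmem (x := ⟨x, hx⟩) ⟨1, h21⟩).mpr hq, mm.1, mm.2,
          hconjL (x := zM) hz2 (y := ⟨x, hx⟩) h21 (hbz ▸ hm)⟩
      B_conj := fun x hx hx2 h1 h2 => by
        have hx2' : (x : G) * x = 1 := congrArg Subtype.val hx2
        obtain ⟨m, -, hm⟩ := H0.B_conj (bar ⟨x, hx⟩) (hH0 _) (hbar2 hx2')
          ((hTbar (x := ⟨x, hx⟩) hx2').mp h1) fun h => h2 ((hTv (x := ⟨x, hx⟩) hx2').mpr h)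
        obtain ⟨mm, rfl⟩ := hliftC m
        have h21 : (x : G) ^ 2 ^ 1 = 1 := by rw [pow_one, pow_two, hx2']
        exact ⟨mm.1, mm.2, hconjL (x := sM) (n := 1) (by rw [pow_one, pow_two, hs2]) (y := ⟨x, hx⟩) h21
          (hbs ▸ hm)⟩
      cent_t := fun g h => R.hN (c.mem_N.mpr (congrArg Subtype.val h))
      cent_s := fun g h => by
        have hsc : IsConj (R.r (sM.1 : G)) R.t := by
          have := H0.s_T.1
          rw [← hbs] at this
          exact this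
        obtain ⟨⟨b, hb⟩, -, e⟩ := exists_lift_conj R.surj R.odd_ker (s := (⟨c.z, R.hN c.z_mem_N⟩ : ↥R.M))
          (s' := ⟨(sM.1 : G), sM.2⟩) (Subtype.ext c.z_sq) (Subtype.ext hs2)
          (q := (isConj_iff.mp hsc.symm).choose) (by
            rw [← R.r_coe, ← R.r_coe]; exact (isConj_iff.mp hsc.symm).choose_spec)
        have e' : b * c.z * b⁻¹ = (sM.1 : G) := congrArg Subtype.val e
        have hg : (g : G) * (sM.1 : G) = (sM.1 : G) * g := congrArg Subtype.val h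
        have hgN : b⁻¹ * (g : G) * b ∈ c.N := c.mem_N.mpr (by
          show b⁻¹ * (g : G) * b * c.z = c.z * (b⁻¹ * (g : G) * b)
          calc b⁻¹ * (g : G) * b * c.z = b⁻¹ * ((g : G) * (b * c.z * b⁻¹)) * b := by group
            _ = b⁻¹ * ((b * c.z * b⁻¹) * g) * b := by rw [e', hg]
            _ = _ := by group)
        show (g : G) ∈ R.M
        have := R.M.mul_mem (R.M.mul_mem hb (R.hN hgN)) (R.M.inv_mem hb)
        rwa [show b * (b⁻¹ * (g : G) * b) * b⁻¹ = g by group] at this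
      inventory := fun i hi hc hT1 hT2 => by
        have hiM : i ∈ ML := R.hN (c.mem_N.mpr (congrArg Subtype.val hc))
        have hi' : (i : G) * i = 1 := congrArg Subtype.val hi
        let iM : ↥ML := ⟨i, hiM⟩
        have hti : ((zM * iM).1 : G) * ((zM * iM).1 : G) = 1 := by
          show c.z * i * (c.z * i) = 1
          have hc' : Commute (i : G) c.z := congrArg Subtype.val hc
          rw [show c.z * (i : G) * (c.z * i) = c.z * ((i : G) * c.z) * i by group, hc'.eq,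
            show c.z * (c.z * (i : G)) * i = c.z * c.z * ((i : G) * i) by group, c.z_sq, hi', one_mul]
        have h1 := (hTbar (x := zM * iM) hti).mp hT1
        have h2 := fun h => hT2 ((hTv (x := zM * iM) hti).mpr h)
        rw [map_mul, hbz] at h1 h2
        rcases H0.inventory (bar iM) (hbar2 hi') (by
          rw [← hbz, ← map_mul, ← map_mul]
          exact congrArg bar (Subtype.ext hc)) h1 h2 with e | e
        · exact Or.inl ((hTbar (x := iM) hi').mpr e)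
        · exact Or.inr ((hTv (x := iM) hi').mpr e)
      wreath := fun x hx y hy x2 y2 h1 h2 h3 h4 h5 => by
        have x2' : (x : G) * x = 1 := congrArg Subtype.val x2
        have y2' : (y : G) * y = 1 := congrArg Subtype.val y2
        let xM : ↥ML := ⟨x, hx⟩
        let yM : ↥ML := ⟨y, hy⟩
        have hw := H0.wreath (bar xM) (hH0 _) (bar yM) (hH0 _) (hbar2 x2') (hbar2 y2')
          ((hTbar (x := xM) x2').mp h1) (fun h => h2 ((hTv (x := xM) x2').mpr h))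
          ((hTbar (x := yM) y2').mp h3) (fun h => h4 ((hTv (x := yM) y2').mpr h)) (by
            rw [← map_mul, ← map_pow, ← map_one bar]
            exact congrArg bar (Subtype.ext h5))
        rw [← map_mul, ← map_pow] at hw
        refine (hQmem (x := (xM * yM) ^ 2) ⟨1, ?_⟩).mpr hw
        show (((x : G) * y) ^ 2) ^ 2 ^ 1 = 1
        rw [← pow_mul]
        exact congrArg Subtype.val h5
      transitive := fun P' hP'Q hz hfree htr => by
        let Pb : Subgroup ↥E.Lz := (P'.subgroupOf ML).map bar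
        have hP'M : ∀ p ∈ P', p ∈ ML := fun p hp => (hPmem.mp (hP'Q hp)).1
        have hP'two : ∀ p ∈ P', ∃ n, (p : G) ^ 2 ^ n = 1 := fun p hp => (hPmem.mp (hP'Q hp)).2.1
        have hback : ∀ q ∈ Pb, ∃ p, ∃ hp : p ∈ P', bar ⟨p, hP'M p hp⟩ = q := by
          rintro _ ⟨p, hp, rfl⟩; exact ⟨p.1, hp, rfl⟩
        have hres := H0.transitive Pb ?_ ?_ ?_ ?_
        · intro p hp
          obtain ⟨n, hn⟩ := hP'two p hp
          rcases hres (bar ⟨p, hP'M p hp⟩) ⟨⟨p, hP'M p hp⟩, hp, rfl⟩ with e | e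
          · left
            exact Subtype.ext (huniq (k := 0) (hP'M p hp) R.M.one_mem hn (one_pow _)
              (by show R.r (p : G) = R.r 1; rw [R.r_one]; exact congrArg Subtype.val e))
          · right
            exact Subtype.ext (huniq (k := 1) (hP'M p hp) hvM hn (by rw [pow_one, pow_two, hv2])
              (by rw [hrv]; exact congrArg Subtype.val e))
        · intro q hq
          obtain ⟨p, hp, rfl⟩ := hback q hq
          exact (hQmem (x := ⟨p, hP'M p hp⟩) (hP'two p hp)).mp (hP'Q hp)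
        · exact ⟨vM, hz, hbv⟩
        · intro q hq hq2 hh
          obtain ⟨p, hp, rfl⟩ := hback q hq
          obtain ⟨n, hn⟩ := hP'two p hp
          have hp2 : (p : G) * p = 1 := by
            refine huniq (n := n) (k := 0) (R.M.mul_mem (hP'M p hp) (hP'M p hp)) R.M.one_mem ?_ (one_pow _) ?_
            · rw [← pow_two, ← pow_mul, mul_comm, pow_mul, hn, one_pow]
            · rw [R.r_one, R.r_mul (u := (p : G)) (v := (p : G)) (hP'M p hp) (hP'M p hp)]
              exact congrArg Subtype.val hq2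
          exact hfree p hp (Subtype.ext hp2) ⟨(hTbar (x := ⟨p, hP'M p hp⟩) hp2).mpr hh.1,
            (hTv (x := ⟨p, hP'M p hp⟩) hp2).mpr hh.2⟩
        · intro y1 _ y2 _ a1 a2 b1 b2 c1 c2
          obtain ⟨u1, hu1, rfl⟩ := hliftL (q := y1) (n := 1) (by rw [pow_one, pow_two]; exact a1)
          obtain ⟨u2, hu2, rfl⟩ := hliftL (q := y2) (n := 1) (by rw [pow_one, pow_two]; exact a2)
          rw [pow_one, pow_two] at hu1 hu2
          obtain ⟨p1, hp1, p2, hp2, m, hm, hmod, e⟩ := htr u1.1 u1.2 u2.1 u2.2 (Subtype.ext hu1)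
            (Subtype.ext hu2) ((hTbar hu1).mpr b1) ((hTv hu1).mpr b2) ((hTbar hu2).mpr c1) ((hTv hu2).mpr c2)
          refine ⟨_, ⟨⟨p1, hP'M p1 hp1⟩, hp1, rfl⟩, _, ⟨⟨p2, hP'M p2 hp2⟩, hp2, rfl⟩, bar ⟨m, hm⟩, hH0 _,
            fun q hq => ?_, ?_⟩
          · obtain ⟨p, hp, rfl⟩ := hback q hq
            rw [← hbv, ← map_inv, ← map_mul, ← map_mul, ← map_mul]
            rcases hmod p hp with e' | e'
            · exact Or.inl (congrArg bar (Subtype.ext e'))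
            · exact Or.inr (congrArg bar (Subtype.ext e'))
          · rw [← map_inv, ← map_mul, ← map_mul, ← map_mul, ← map_mul]
            exact congrArg bar (Subtype.ext e) }
  have hCv : Subgroup.centralizer ({v} : Set G) ≤ R.M := fun g hg => by
    rw [← hCV] at hg
    exact H.mem_M ⟨g, hg⟩
  have htop : R.M = ⊤ := by
    refine eq_top_of_centralizers R.M c.orderOf_z
      (CfsgLib.Invol.orderOf_two_of_mul_self hv2 fun e => hrv1 (by rw [e, R.r_one])) hvz R.hN hCv ?_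
    intro y hy hy2
    have hy2' : y * y = 1 := by rw [← pow_two, ← hy2, pow_orderOf_eq_one]
    have hry : R.r y ≠ 1 := fun e => by
      have := R.pair.odd_order ((R.r_eq_one hy).mp e)
      rw [hy2] at this
      exact absurd this (by decide)
    have back : ∀ {w : G} (hw : w ∈ R.M), w * w = 1 → IsConj (R.r y) (R.r w) →
        ∃ k ∈ R.M, k * y * k⁻¹ = w := fun {w} hw hw2 h => by
      obtain ⟨q, hq⟩ := isConj_iff.mp h
      obtain ⟨b, -, e⟩ := exists_lift_conj R.surj R.odd_ker (s := (⟨y, hy⟩ : ↥R.M)) (s' := ⟨w, hw⟩)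
        (Subtype.ext hy2') (Subtype.ext hw2) (q := q) (by rw [← R.r_coe, ← R.r_coe]; exact hq)
      exact ⟨b, b.2, congrArg Subtype.val e⟩
    rcases hcls _ (CfsgLib.Invol.orderOf_two_of_mul_self (by rw [← R.r_mul hy hy, hy2', R.r_one]) hry) with e | e
    · obtain ⟨k, hk, hk'⟩ := back (R.hN c.z_mem_N) c.z_sq e
      exact ⟨k, hk, Or.inl hk'⟩
    · obtain ⟨k, hk, hk'⟩ := back hvM hv2 (hrv ▸ e)
      exact ⟨k, hk, Or.inr hk'⟩
  rw [hM] at htop
  haveI : (c.D R.g).Normal := Subgroup.normalizer_eq_top_iff.mp htop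
  exact (inferInstance : (c.D R.g).Normal).eq_bot_or_eq_top.resolve_right fun h =>
    R.pair.z_not_mem_D (h ▸ Subgroup.mem_top c.z)

end Collapse

/-- without a root of the central involution the group is HN -/
theorem iso_of_no_root {G : Type*} [Group G] [Finite G] [IsSimpleGroup G] (c : Ctx G) {g : G} {x x' : PH}
    (h : c.Pair g x x') (hno : ∀ k ∈ c.K, k * k ≠ c.z) : Nonempty (G ≃* Cfsg.Spor.HN) := by
  classical
  obtain ⟨M, hn, R, hRg, -, hRM, hMdef⟩ := exists_red h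
  obtain ⟨F, hm, -, ho, htw, hx⟩ := R.exists_outer (m := 1) (k := 1)
    ⟨c.K.one_mem, Or.inl ⟨rfl, rfl, hno⟩⟩
  obtain ⟨E, hE, hza, hcls⟩ := R.exists_copy F hm ho htw hx
  have hM : R.M = Subgroup.normalizer ((c.D R.g : Subgroup G) : Set G) := by
    rw [hRM, hRg]; exact hMdef
  have hbot := eq_bot_of_copy hM F ho htw E hE hza hcls
  have hall : ∀ u : G, u ∈ R.M := fun u => by
    rw [hM, hbot]
    exact Subgroup.mem_normalizer_iff.mpr fun d => by simp
  have hbij : Function.Bijective R.r := by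
    refine ⟨fun u w e => ?_, fun q => ?_⟩
    · have := (R.r_eq (hall u) (hall w)).mp e
      rw [hbot, Subgroup.mem_bot, inv_mul_eq_one] at this
      exact this
    · obtain ⟨u, rfl⟩ := R.surj q
      exact ⟨u, R.r_coe u⟩
  let e1 : G ≃* _ := MulEquiv.ofBijective (MonoidHom.mk' R.r fun u w => R.r_mul (hall u) (hall w)) hbij
  exact ⟨e1.trans (MulEquiv.ofBijective E.Φ ⟨E.inj, MonoidHom.range_eq_top.mp hE⟩).symm⟩

end CfsgLib.HNStd
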