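import Cfsg.Agent.Lib.HNStd.Fuse
import Cfsg.Agent.Lib.HNStd.Cent

/-!
The centraliser of the copy and its conjugate: the elements of odd order form a common subgroup,
and the quotient by it is cyclic of order two or four.
-/

set_option autoImplicit false
set_option maxRecDepth 100000
set_option maxHeartbeats 800000

namespace CfsgLib.HNStd

open CfsgLib.DCoset CfsgLib.HN CfsgLib.HNType

theorem commute_central_iff {x p : PH} (h : x = el 690 ∨ x = el 1975) : Commute p x ↔ p ∈ CX :=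
  (Ctx.central_comm h).trans mem_CX.symm

theorem conj_CK {c h : PH} (hc : c ∈ CX) (hh : h ∈ CK) : c * h * c⁻¹ ∈ CK :=
  mem_CK.mpr ⟨mem_CX.mp (CX.mul_mem (CX.mul_mem hc (mem_CX.mpr (mem_CK.mp hh).1)) (CX.inv_mem hc)),
    (conj_mem_kP c).mpr (mem_CK.mp hh).2⟩

theorem CK_le_CX {h : PH} (hh : h ∈ CK) : h ∈ CX := mem_CX.mpr (mem_CK.mp hh).1

theorem iP_CX : iP ∈ CX := mem_CX.mpr (iP_comm _)

theorem el_614_CX : el 614 ∈ CX := T_le_CX (el_mem (by norm_num))

namespace Ctx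

variable {G : Type*} [Group G] (c : Ctx G)

/-- the conjugate of the centraliser of the copy -/
noncomputable def gK (g : G) : Subgroup G := c.K.map (MulAut.conj g).toMonoidHom

/-- the odd part of the centraliser of the copy -/
noncomputable def D (g : G) : Subgroup G := c.K ⊓ c.gK g

variable {c}

theorem mem_gK {g u : G} : u ∈ c.gK g ↔ g⁻¹ * u * g ∈ c.K := by
  rw [gK, Subgroup.mem_map_equiv, MulAut.conj_symm_apply]

theorem conj_mem_gK {g u : G} (hu : u ∈ c.K) : g * u * g⁻¹ ∈ c.gK g :=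
  mem_gK.mpr (by rwa [show g⁻¹ * (g * u * g⁻¹) * g = u by group])

theorem Pair.w_mem {g : G} {x x' : PH} (h : c.Pair g x x') : c.f x ∈ c.L :=
  c.f_mem (central_kP h.hx)

theorem Pair.gK_le {g : G} {x x' : PH} (h : c.Pair g x x') {y : G} (hy : y ∈ c.gK g) :
    y ∈ c.N ∧ Commute y (c.f x) := by
  have hu := mem_gK.mp hy
  have e1 := (c.mem_K.mp hu x' (central_kP h.hx')).eq
  have e2 := (c.mem_N.mp (c.K_le_N hu)).eq
  rw [← h.bwd] at e1
  refine ⟨c.mem_N.mpr ?_, ?_⟩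
  · show y * c.z = c.z * y
    calc y * c.z = g * (g⁻¹ * y * g * (g⁻¹ * c.z * g)) * g⁻¹ := by group
      _ = _ := by rw [e1]; group
  · show y * c.f x = c.f x * y
    rw [← h.fwd]
    calc y * (g * c.z * g⁻¹) = g * (g⁻¹ * y * g * c.z) * g⁻¹ := by group
      _ = _ := by rw [e2]; group

variable [Finite G]

/-- what centralises the image of the central involution normalises the conjugate centraliser -/
theorem Pair.normal_gK {g : G} {x x' : PH} (h : c.Pair g x x') {n y : G} (hn : Commute n (c.f x))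
    (hy : y ∈ c.gK g) : n * y * n⁻¹ ∈ c.gK g := by
  have hN : g⁻¹ * n * g ∈ c.N := c.mem_N.mpr (by
    show g⁻¹ * n * g * c.z = c.z * (g⁻¹ * n * g)
    calc g⁻¹ * n * g * c.z = g⁻¹ * (n * (g * c.z * g⁻¹)) * g := by group
      _ = g⁻¹ * ((g * c.z * g⁻¹) * n) * g := by rw [h.fwd, hn.eq]
      _ = _ := by group)
  have := c.conj_K hN (mem_gK.mp hy)
  refine mem_gK.mpr ?_
  rwa [show g⁻¹ * (n * y * n⁻¹) * g = g⁻¹ * n * g * (g⁻¹ * y * g) * (g⁻¹ * n * g)⁻¹ by group]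

theorem Pair.commute_fx {g : G} {x x' : PH} (h : c.Pair g x x') {n : G} {p : PH} (hn : c.Acts n p) :
    Commute n (c.f x) ↔ p ∈ CX :=
  (hn.commute (central_kP h.hx)).trans (commute_central_iff h.hx)

theorem Pair.unique_gK {g : G} {x x' : PH} (h : c.Pair g x x') {y : G} (hy : y ∈ c.gK g)
    (hy2 : y * y = 1) : y = 1 ∨ y = c.f x := by
  rcases h.unique_invol (mem_gK.mp hy)
    (by rw [show g⁻¹ * y * g * (g⁻¹ * y * g) = g⁻¹ * (y * y) * g by group, hy2]; group) with e | e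
  · left
    calc y = g * (g⁻¹ * y * g) * g⁻¹ := by group
      _ = 1 := by rw [e]; group
  · right
    rw [← h.fwd]
    calc y = g * (g⁻¹ * y * g) * g⁻¹ := by group
      _ = _ := by rw [e]

/-- the inner centraliser meets the conjugate in two elements -/
theorem Pair.meet {g : G} {x x' : PH} (h : c.Pair g x x') {a : PH} (ha : a ∈ CK) (hg : c.f a ∈ c.gK g) :
    a = 1 ∨ a = x := by
  let Y : Subgroup PH :=
    { carrier := {b | b ∈ CK ∧ c.f b ∈ c.gK g}
      one_mem' := ⟨CK.one_mem, by rw [c.f_one]; exact (c.gK g).one_mem⟩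
      mul_mem' := fun {u v} hu hv => ⟨CK.mul_mem hu.1 hv.1, by
        rw [c.map_mul _ _ (mem_CK.mp hu.1).2 (mem_CK.mp hv.1).2]; exact (c.gK g).mul_mem hu.2 hv.2⟩
      inv_mem' := fun {u} hu => ⟨CK.inv_mem hu.1, by
        rw [c.f_inv (mem_CK.mp hu.1).2]; exact (c.gK g).inv_mem hu.2⟩ }
  obtain ⟨w, hw, hxw⟩ : ∃ w, (w = 690 ∨ w = 1975) ∧ x = el w := by
    rcases h.hx with e | e
    exacts [⟨_, Or.inl rfl, e⟩, ⟨_, Or.inr rfl, e⟩]
  rw [hxw]
  refine small_normal hw (Y := Y) (fun b hb => hb.1) (fun d hd b hb => ?_) (fun b hb hb2 => ?_) a ⟨ha, hg⟩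
  · refine ⟨conj_CK (CK_le_CX hd) hb.1, ?_⟩
    have hdK := (mem_CK.mp hd).2
    rw [c.f_conj hdK (mem_CK.mp hb.1).2]
    exact h.normal_gK ((h.commute_fx (c.acts_f hdK)).mpr (CK_le_CX hd)) hb.2
  · have hbK := (mem_CK.mp hb.1).2
    rcases h.unique_gK hb.2 (by rw [← c.map_mul _ _ hbK hbK, hb2, c.f_one]) with e | e
    · exact Or.inl (c.inj _ _ hbK kP.one_mem (e.trans c.f_one.symm))
    · exact Or.inr (hxw ▸ c.inj _ _ hbK (central_kP h.hx) e)

/-- the action of the conjugate on the copy -/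
theorem Pair.acts_gK {g : G} {x x' : PH} (h : c.Pair g x x') {y : G} (hy : y ∈ c.gK g) :
    ∃ μ, c.Acts y μ ∧ μ ∈ CX ∧ ∀ a ∈ CK, μ * a * μ⁻¹ = a ∨ μ * a * μ⁻¹ = x * a := by
  obtain ⟨hyN, hyw⟩ := h.gK_le hy
  obtain ⟨μ, hμ⟩ := c.exists_acts hyN
  have hμX := (h.commute_fx hμ).mp hyw
  refine ⟨μ, hμ, hμX, fun a ha => ?_⟩
  have haK := (mem_CK.mp ha).2
  have hmem : μ * a * μ⁻¹ * a⁻¹ ∈ CK := CK.mul_mem (conj_CK hμX ha) (CK.inv_mem ha)
  have hg : c.f (μ * a * μ⁻¹ * a⁻¹) ∈ c.gK g := by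
    rw [c.map_mul _ _ ((conj_mem_kP μ).mpr haK) (kP.inv_mem haK), c.f_inv haK, ← hμ a haK,
      show y * c.f a * y⁻¹ * (c.f a)⁻¹ = y * (c.f a * y⁻¹ * (c.f a)⁻¹) by group]
    exact (c.gK g).mul_mem hy
      (h.normal_gK ((h.commute_fx (c.acts_f haK)).mpr (CK_le_CX ha)) ((c.gK g).inv_mem hy))
  rcases h.meet hmem hg with e | e
  · exact Or.inl (mul_inv_eq_one.mp e)
  · exact Or.inr (mul_inv_eq_iff_eq_mul.mp e)

/-- the possible actions -/
theorem Pair.acts_gK_cases {g : G} {x x' : PH} (h : c.Pair g x x') {y : G} (hy : y ∈ c.gK g) :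
    ∃ μ, c.Acts y μ ∧ (μ * μ = 1 ∨ x = el 1975 ∧
      ∃ a, (a = 1 ∨ a = iP ∨ a = el 690 ∨ a = el 1975) ∧ μ = el 614 * a) := by
  obtain ⟨μ, hμ, hμX, hc⟩ := h.acts_gK hy
  refine ⟨μ, hμ, ?_⟩
  rcases h.hx with rfl | rfl
  · exact Or.inl (commutant_690 hμX hc)
  · obtain ⟨a, ha, e | e⟩ := commutant_1975 hμX hc
    · subst e
      refine Or.inl ?_
      rcases ha with rfl | rfl | rfl | rfl
      exacts [one_mul 1, iP_sq, sq_el690, sq_el1975]
    · exact Or.inr ⟨rfl, a, ha, e⟩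

theorem four_sq {a : PH} (ha : a = 1 ∨ a = iP ∨ a = el 690 ∨ a = el 1975) :
    el 614 * a * (el 614 * a) = el 690 := by
  obtain ⟨hK, hsq, -⟩ := four_facts
  have hc : Commute (el 614) a := by
    rcases ha with rfl | rfl | rfl | rfl
    exacts [Commute.one_right _, (iP_comm _).symm,
      central_three (Or.inr (Or.inl rfl)) _ (el_mem (by norm_num)),
      central_three (Or.inr (Or.inr rfl)) _ (el_mem (by norm_num))]
  have ha2 : a * a = 1 := by
    rcases ha with rfl | rfl | rfl | rfl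
    exacts [one_mul 1, iP_sq, sq_el690, sq_el1975]
  rw [show el 614 * a * (el 614 * a) = el 614 * (a * el 614) * a by group, ← hc.eq,
    show el 614 * (el 614 * a) * a = el 614 * el 614 * (a * a) by group, hsq, ha2, mul_one]

theorem Pair.pow_four {g : G} {x x' : PH} (h : c.Pair g x x') {y : G} (hy : y ∈ c.gK g) :
    y ^ 4 ∈ c.D g := by
  obtain ⟨μ, hμ, hcase⟩ := h.acts_gK_cases hy
  refine ⟨(hμ.pow 4).mem_K (Or.inl ?_), (c.gK g).pow_mem hy 4⟩
  rw [show μ ^ 4 = μ * μ * (μ * μ) by simp [pow_succ, mul_assoc]]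
  rcases hcase with e | ⟨-, a, ha, rfl⟩
  · rw [e, one_mul]
  · rw [four_sq ha, sq_el690]

theorem Pair.not_mem_N {g : G} {x x' : PH} (h : c.Pair g x x') : g ∉ c.N := fun hg => by
  have e := h.fwd
  rw [(c.mem_N.mp hg).eq, mul_inv_cancel_right] at e
  exact (central_ne h.hx).2 (c.inj _ _ (central_kP h.hx) iP_kP e.symm)

theorem Pair.odd_D {g : G} {x x' : PH} (h : c.Pair g x x') : Odd (Nat.card ↥(c.D g)) := by
  have hg := h.not_mem_N
  rw [← c.norm_eq, c.std.2.2.2] at hg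
  exact c.std.2.1.2 g hg

theorem Pair.odd_order {g : G} {x x' : PH} (h : c.Pair g x x') {u : G} (hu : u ∈ c.D g) :
    Odd (orderOf u) := h.odd_D.of_dvd_nat (Subgroup.orderOf_dvd_natCard _ hu)

/-- an element of a group whose fourth power lies in a subgroup and of odd order lies in it -/
theorem mem_of_odd {H : Type*} [Group H] (S : Subgroup H) {u : H} (ho : Odd (orderOf u))
    (h4 : u ^ 4 ∈ S) : u ∈ S := by
  obtain ⟨r, hr⟩ := ho
  have h2 : u ^ 2 ∈ S := by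
    have e : u ^ 2 = (u ^ 4) ^ (r + 1) := by
      rw [← pow_mul, show 4 * (r + 1) = orderOf u * 2 + 2 by omega, pow_add, pow_mul, pow_orderOf_eq_one,
        one_pow, one_mul]
    rw [e]; exact S.pow_mem h4 _
  have e : u = (u ^ 2) ^ (r + 1) := by
    rw [← pow_mul, show 2 * (r + 1) = orderOf u + 1 by omega, pow_succ, pow_orderOf_eq_one, one_mul]
  rw [e]; exact S.pow_mem h2 _

theorem Pair.gK_odd {g : G} {x x' : PH} (h : c.Pair g x x') {y : G} (hy : y ∈ c.gK g)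
    (ho : Odd (orderOf y)) : y ∈ c.D g := mem_of_odd _ ho (h.pow_four hy)

/-- the odd part consists of the elements of odd order -/
theorem Pair.mem_D {g : G} {x x' : PH} (h : c.Pair g x x') {u : G} :
    u ∈ c.D g ↔ u ∈ c.K ∧ Odd (orderOf u) := by
  refine ⟨fun hu => ⟨hu.1, h.odd_order hu⟩, fun ⟨hu, ho⟩ => ⟨hu, ?_⟩⟩
  have h' := h.symm
  have h1 : g⁻¹ * u * g⁻¹⁻¹ ∈ c.gK g⁻¹ := conj_mem_gK hu
  have h2 := (h'.gK_odd h1 (by rw [orderOf_conj]; exact ho)).1
  refine mem_gK.mpr ?_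
  rwa [inv_inv] at h2

theorem Pair.D_symm {g : G} {x x' : PH} (h : c.Pair g x x') : c.D g⁻¹ = c.D g :=
  SetLike.ext fun _ => h.symm.mem_D.trans h.mem_D.symm

theorem Pair.conj_D {g : G} {x x' : PH} (h : c.Pair g x x') {u : G} (hu : u ∈ c.D g) :
    g * u * g⁻¹ ∈ c.D g :=
  h.gK_odd (conj_mem_gK hu.1) (by rw [orderOf_conj]; exact h.odd_order hu)

theorem Pair.conj_D' {g : G} {x x' : PH} (h : c.Pair g x x') {u : G} (hu : u ∈ c.D g) :
    g⁻¹ * u * g ∈ c.D g := by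
  have := h.symm.conj_D (h.D_symm.symm ▸ hu)
  rwa [h.D_symm, inv_inv] at this

theorem Pair.normal_D {g : G} {x x' : PH} (h : c.Pair g x x') {n u : G} (hn : n ∈ c.N)
    (hu : u ∈ c.D g) : n * u * n⁻¹ ∈ c.D g :=
  h.mem_D.mpr ⟨c.conj_K hn hu.1, by rw [orderOf_conj]; exact h.odd_order hu⟩

theorem Pair.z_not_mem_D {g : G} {x x' : PH} (h : c.Pair g x x') : c.z ∉ c.D g := fun hz => by
  have := h.odd_order hz
  rw [c.orderOf_z] at this
  exact absurd this (by decide)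

theorem Pair.pow_four_K {g : G} {x x' : PH} (h : c.Pair g x x') {u : G} (hu : u ∈ c.K) :
    u ^ 4 ∈ c.D g := by
  have := h.conj_D' (h.pow_four (conj_mem_gK hu))
  rwa [show g⁻¹ * (g * u * g⁻¹) ^ 4 * g = u ^ 4 by rw [conj_pow]; group] at this

/-- without a root of the central involution the quotient has order two -/
theorem Pair.K_cases {g : G} {x x' : PH} (h : c.Pair g x x') (hno : ∀ k ∈ c.K, k * k ≠ c.z) {u : G}
    (hu : u ∈ c.K) : u ∈ c.D g ∨ u * c.z ∈ c.D g := by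
  obtain ⟨e, he⟩ : ∃ e, e = orderOf (u ^ 4) := ⟨_, rfl⟩
  have hodd : Odd e := he ▸ h.odd_order (h.pow_four_K hu)
  obtain ⟨v, hv⟩ : ∃ v, v = u ^ e := ⟨_, rfl⟩
  have hv4 : v * v * (v * v) = 1 := by
    rw [show v * v * (v * v) = v ^ 4 by simp [pow_succ, mul_assoc], hv, ← pow_mul, mul_comm, pow_mul,
      he, pow_orderOf_eq_one]
  have hvK : v ∈ c.K := hv ▸ c.K.pow_mem hu e
  have hv2 : v * v = 1 :=
    (h.unique_invol (c.K.mul_mem hvK hvK) hv4).resolve_right (hno v hvK)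
  rcases h.unique_invol hvK hv2 with e1 | e1
  · left
    exact h.mem_D.mpr ⟨hu, hodd.of_dvd_nat (orderOf_dvd_of_pow_eq_one (hv ▸ e1))⟩
  · right
    refine h.mem_D.mpr ⟨c.K.mul_mem hu c.z_mem_K, hodd.of_dvd_nat (orderOf_dvd_of_pow_eq_one ?_)⟩
    have hc : Commute u c.z := c.mem_N.mp (c.K_le_N hu)
    obtain ⟨r, rfl⟩ := hodd
    rw [hc.mul_pow, ← hv, e1, pow_succ, pow_mul, pow_two, c.z_sq, one_pow, one_mul, c.z_sq]

/-- a root of the central involution forces the fourth central involution -/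
theorem Pair.root_facts {g : G} {x x' : PH} (h : c.Pair g x x') {k : G} (hk : k ∈ c.K)
    (hk2 : k * k = c.z) :
    x = el 1975 ∧ ∃ a, (a = 1 ∨ a = iP ∨ a = el 690 ∨ a = el 1975) ∧
      c.Acts (g * k * g⁻¹) (el 614 * a) := by
  obtain ⟨μ, hμ, hcase⟩ := h.acts_gK_cases (conj_mem_gK (g := g) hk)
  have hsq : c.Acts (c.f x) (μ * μ) := by
    have := hμ.mul hμ
    rwa [show g * k * g⁻¹ * (g * k * g⁻¹) = g * (k * k) * g⁻¹ by group, hk2, h.fwd] at this
  rcases hcase with e | ⟨hx, a, ha, rfl⟩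
  · exfalso
    rw [e] at hsq
    rcases hsq.unique (c.acts_f (central_kP h.hx)) with e1 | e1
    · exact (central_ne h.hx).1 e1
    · exact (central_ne h.hx).2 (e1.trans (one_mul iP))
  · exact ⟨hx, a, ha, hμ⟩

theorem four_mem_CX {a : PH} (ha : a = 1 ∨ a = iP ∨ a = el 690 ∨ a = el 1975) {p : PH} (hp : p ∈ CX) :
    Commute p a := by
  rcases ha with rfl | rfl | rfl | rfl
  exacts [Commute.one_right _, (iP_comm _).symm, (commute_central_iff (Or.inl rfl)).mpr hp,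
    mem_CX.mp hp]

theorem four_mul {a b : PH} (ha : a = 1 ∨ a = iP ∨ a = el 690 ∨ a = el 1975)
    (hb : b = 1 ∨ b = iP ∨ b = el 690 ∨ b = el 1975) :
    a * b = 1 ∨ a * b = iP ∨ a * b = el 690 ∨ a * b = el 1975 := by
  have e1 : iP * el 690 = el 1975 := by rw [iP_comm, el_690_mul]
  have e2 : iP * el 1975 = el 690 := by rw [iP_comm, el_1975_mul]
  have e3 : el 690 * el 1975 = iP := by rw [← el_690_mul, ← mul_assoc, sq_el690, one_mul]
  have e4 : el 1975 * el 690 = iP := by rw [← el_1975_mul, ← mul_assoc, sq_el1975, one_mul]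
  rcases ha with rfl | rfl | rfl | rfl <;> rcases hb with rfl | rfl | rfl | rfl <;>
    simp [el_690_mul, el_1975_mul, e1, e2, e3, e4, iP_sq, sq_el690, sq_el1975]

/-- with a root of the central involution the quotient is cyclic of order four -/
theorem Pair.K_cases_root {g : G} {x x' : PH} (h : c.Pair g x x') {k : G} (hk : k ∈ c.K)
    (hk2 : k * k = c.z) {u : G} (hu : u ∈ c.K) :
    u ∈ c.D g ∨ u * c.z ∈ c.D g ∨ u * k ∈ c.D g ∨ u * k⁻¹ ∈ c.D g := by
  obtain ⟨hx, a, ha, hμ0⟩ := h.root_facts hk hk2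
  subst hx
  have key : ∀ {v : G} {b : PH}, v ∈ c.K → (b = 1 ∨ b = iP ∨ b = el 690 ∨ b = el 1975) →
      c.Acts (g * v * g⁻¹) b → v ∈ c.D g ∨ v * c.z ∈ c.D g := by
    intro v b hv hb hact
    by_cases h1 : b = 1 ∨ b = iP
    · left
      have := h.conj_D' ⟨hact.mem_K h1, conj_mem_gK hv⟩
      rwa [show g⁻¹ * (g * v * g⁻¹) * g = v by group] at this
    · right
      have h2 : b = el 690 ∨ b = el 1975 :=
        (hb.resolve_left fun e => h1 (Or.inl e)).resolve_left fun e => h1 (Or.inr e)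
      have hm : g * (v * c.z) * g⁻¹ ∈ c.K := by
        have := hact.mul (c.acts_f el1975_kP)
        rw [← h.fwd, show g * v * g⁻¹ * (g * c.z * g⁻¹) = g * (v * c.z) * g⁻¹ by group] at this
        refine this.mem_K ?_
        rcases h2 with rfl | rfl
        · right; rw [← el_690_mul, ← mul_assoc, sq_el690, one_mul]
        · left; exact sq_el1975
      have := h.conj_D' ⟨hm, conj_mem_gK (c.K.mul_mem hv c.z_mem_K)⟩
      rwa [show g⁻¹ * (g * (v * c.z) * g⁻¹) * g = v * c.z by group] at this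
  obtain ⟨μ, hμ, hμX, hc⟩ := h.acts_gK (conj_mem_gK hu)
  obtain ⟨b, hb, e | e⟩ := commutant_1975 hμX hc
  · subst e
    exact (key hu hb hμ).imp id Or.inl
  · subst e
    have hprod := hμ.mul hμ0
    rw [show g * u * g⁻¹ * (g * k * g⁻¹) = g * (u * k) * g⁻¹ by group] at hprod
    obtain ⟨hc1, hsq, -⟩ := four_facts
    have e : el 614 * b * (el 614 * a) = el 690 * (b * a) := by
      rw [show el 614 * b * (el 614 * a) = el 614 * (b * el 614) * a by group,
        ← (four_mem_CX hb el_614_CX).eq,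
        show el 614 * (el 614 * b) * a = el 614 * el 614 * (b * a) by group, hsq]
    rw [e] at hprod
    rcases key (c.K.mul_mem hu hk) (four_mul (Or.inr (Or.inr (Or.inl rfl))) (four_mul hb ha)) hprod with
      e1 | e1
    · exact Or.inr (Or.inr (Or.inl e1))
    · refine Or.inr (Or.inr (Or.inr ?_))
      rwa [mul_assoc, show k * c.z = k⁻¹ by
        refine eq_inv_of_mul_eq_one_left ?_
        rw [mul_assoc, ← (c.mem_N.mp (c.K_le_N hk)).eq, ← mul_assoc, hk2, c.z_sq]] at e1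

/-- an outer element of the common centraliser inverts the root modulo the odd part -/
theorem Pair.outer_inverts {g : G} {x x' : PH} (h : c.Pair g x x') {k : G} (hk : k ∈ c.K)
    (hk2 : k * k = c.z) {n : G} {p : PH} (hn : c.Acts n p) (hpK : p ∉ kP) (hpX : p ∈ CX) :
    n * k * n⁻¹ * k ∈ c.D g := by
  obtain ⟨hx, a, ha, hμ⟩ := h.root_facts hk hk2
  subst hx
  obtain ⟨y, hy⟩ : ∃ y, y = g * k * g⁻¹ := ⟨_, rfl⟩
  rw [← hy] at hμ
  have hyg : y ∈ c.gK g := hy ▸ conj_mem_gK hk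
  have haK : a ∈ kP := by
    rcases ha with rfl | rfl | rfl | rfl
    exacts [kP.one_mem, iP_kP, el690_kP, el1975_kP]
  obtain ⟨hcK, hsq, h1K, -, hc1, -⟩ := four_facts
  have hcaK : el 614 * a ∈ kP := kP.mul_mem hcK haK
  obtain ⟨k0, hk0⟩ : ∃ k0, k0 = (c.f (el 614 * a))⁻¹ * y := ⟨_, rfl⟩
  have hk0K : k0 ∈ c.K := hk0 ▸ hμ.split hcaK
  have hcom : Commute y (c.f (el 614 * a)) := (hμ.commute hcaK).mpr (Commute.refl _)
  have hy2 : y * y = c.f (el 1975) := by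
    rw [hy, show g * k * g⁻¹ * (g * k * g⁻¹) = g * (k * k) * g⁻¹ by group, hk2, h.fwd]
  have hk02 : k0 * k0 = c.z := by
    rw [hk0, show (c.f (el 614 * a))⁻¹ * y * ((c.f (el 614 * a))⁻¹ * y) =
      (c.f (el 614 * a))⁻¹ * (y * (c.f (el 614 * a))⁻¹) * y by group, hcom.inv_right.eq,
      show (c.f (el 614 * a))⁻¹ * ((c.f (el 614 * a))⁻¹ * y) * y =
        (c.f (el 614 * a) * c.f (el 614 * a))⁻¹ * (y * y) by group,
      ← c.map_mul _ _ hcaK hcaK, four_sq ha, hy2, ← c.f_inv el690_kP,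
      inv_eq_of_mul_eq_one_right sq_el690, ← c.map_mul _ _ el690_kP el1975_kP,
      show el 690 * el 1975 = iP by rw [← el_690_mul, ← mul_assoc, sq_el690, one_mul]]
    rfl
  -- the root `k0` is congruent to `k` or to its inverse
  have hroot : ∀ {v : G}, v ∈ c.K → v * v = c.z → v * k ∈ c.D g ∨ v * k⁻¹ ∈ c.D g := by
    intro v hv hv2
    rcases h.K_cases_root hk hk2 hv with e | e | e | e
    · exfalso
      exact h.z_not_mem_D (hv2 ▸ (c.D g).mul_mem e e)
    · exfalso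
      have := (c.D g).mul_mem e e
      rw [show v * c.z * (v * c.z) = v * (c.z * v) * c.z by group, ← (c.mem_N.mp (c.K_le_N hv)).eq,
        show v * (v * c.z) * c.z = v * v * (c.z * c.z) by group, c.z_sq, mul_one, hv2] at this
      exact h.z_not_mem_D this
    · exact Or.inl e
    · exact Or.inr e
  have hnN := hn.mem_N
  have hD : ∀ {d : G}, d ∈ c.D g → n * d * n⁻¹ ∈ c.D g := fun hd => h.normal_D hnN hd
  have hkN := c.K_le_N hk
  have hDk : ∀ {d : G}, d ∈ c.D g → k⁻¹ * d * k ∈ c.D g := fun {d} hd => by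
    have := h.normal_D (c.N.inv_mem hkN) hd
    rwa [inv_inv] at this
  -- it suffices to treat `k0`
  suffices h0 : n * k0 * n⁻¹ * k0 ∈ c.D g by
    have hnk : n * k * n⁻¹ * (n * k * n⁻¹) = c.z := by
      rw [show n * k * n⁻¹ * (n * k * n⁻¹) = n * (k * k) * n⁻¹ by group, hk2, (c.mem_N.mp hnN).eq,
        mul_inv_cancel_right]
    refine (hroot (c.conj_K hnN hk) hnk).resolve_right fun hb => ?_
    have h2 : k0 * k0 ∈ c.D g := by
      rcases hroot hk0K hk02 with e | e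
      · -- k0 = d1 k⁻¹
        have h1 : n * k0 * n⁻¹ * k ∈ c.D g := by
          have : n * (k0 * k) * n⁻¹ * (k⁻¹ * (n * k * n⁻¹ * k⁻¹)⁻¹ * k) ∈ c.D g :=
            (c.D g).mul_mem (hD e) (hDk ((c.D g).inv_mem hb))
          rwa [show n * (k0 * k) * n⁻¹ * (k⁻¹ * (n * k * n⁻¹ * k⁻¹)⁻¹ * k) = n * k0 * n⁻¹ * k * (k⁻¹ * k⁻¹ * (k * k)) by group,
            show k⁻¹ * k⁻¹ * (k * k) = 1 by group, mul_one] at this
        have h3 : k0⁻¹ * k ∈ c.D g := by
          have := (c.D g).mul_mem ((c.D g).inv_mem h0) h1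
          rwa [show (n * k0 * n⁻¹ * k0)⁻¹ * (n * k0 * n⁻¹ * k) = k0⁻¹ * k by group] at this
        have := (c.D g).mul_mem e ((c.D g).inv_mem h3)
        rwa [show k0 * k * (k0⁻¹ * k)⁻¹ = k0 * k0 by group] at this
      · -- k0 = d1 k
        have h1 : n * k0 * n⁻¹ * k⁻¹ ∈ c.D g := by
          have : n * (k0 * k⁻¹) * n⁻¹ * (n * k * n⁻¹ * k⁻¹) ∈ c.D g := (c.D g).mul_mem (hD e) hb
          rwa [show n * (k0 * k⁻¹) * n⁻¹ * (n * k * n⁻¹ * k⁻¹) = n * k0 * n⁻¹ * k⁻¹ by group] at this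
        have h3 : k0⁻¹ * k⁻¹ ∈ c.D g := by
          have := (c.D g).mul_mem ((c.D g).inv_mem h0) h1
          rwa [show (n * k0 * n⁻¹ * k0)⁻¹ * (n * k0 * n⁻¹ * k⁻¹) = k0⁻¹ * k⁻¹ by group] at this
        have := (c.D g).mul_mem e ((c.D g).inv_mem h3)
        rwa [show k0 * k⁻¹ * (k0⁻¹ * k⁻¹)⁻¹ = k0 * k0 by group] at this
    exact h.z_not_mem_D (hk02 ▸ h2)
  -- the action on the conjugate root
  have hnw : Commute n (c.f (el 1975)) := (h.commute_fx hn).mpr hpX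
  have hny : n * y * n⁻¹ ∈ c.gK g := h.normal_gK hnw hyg
  obtain ⟨q, hq⟩ : ∃ q, q = p * (el 614 * a) * p⁻¹ * (el 614 * a)⁻¹ := ⟨_, rfl⟩
  have hnk0 : n * k0 * n⁻¹ * (n * k0 * n⁻¹) = c.z := by
    rw [show n * k0 * n⁻¹ * (n * k0 * n⁻¹) = n * (k0 * k0) * n⁻¹ by group, hk02, (c.mem_N.mp hnN).eq,
      mul_inv_cancel_right]
  have hk04 : k0 * c.z = k0⁻¹ := eq_inv_of_mul_eq_one_left (by
    rw [mul_assoc, ← (c.mem_N.mp (c.K_le_N hk0K)).eq, ← mul_assoc, hk02, c.z_sq])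
  have hsame : n * k0 * n⁻¹ * k0 ∈ c.D g ∨ n * k0 * n⁻¹ * k0⁻¹ ∈ c.D g := by
    rcases hroot (c.conj_K hnN hk0K) hnk0 with e | e <;> rcases hroot hk0K hk02 with e' | e'
    · right
      have := (c.D g).mul_mem e ((c.D g).inv_mem e')
      rwa [show n * k0 * n⁻¹ * k * (k0 * k)⁻¹ = n * k0 * n⁻¹ * k0⁻¹ by group] at this
    · left
      have := (c.D g).mul_mem e (hDk e')
      rwa [show n * k0 * n⁻¹ * k * (k⁻¹ * (k0 * k⁻¹) * k) = n * k0 * n⁻¹ * k0 by group] at this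
    · left
      have := (c.D g).mul_mem e (h.normal_D hkN e')
      rwa [show n * k0 * n⁻¹ * k⁻¹ * (k * (k0 * k) * k⁻¹) = n * k0 * n⁻¹ * k0 by group] at this
    · right
      have := (c.D g).mul_mem e ((c.D g).inv_mem e')
      rwa [show n * k0 * n⁻¹ * k⁻¹ * (k0 * k⁻¹)⁻¹ = n * k0 * n⁻¹ * k0⁻¹ by group] at this
  refine hsame.resolve_right fun hb => ?_
  exfalso
  have hqK : q ∈ kP := hq ▸ kP.mul_mem ((conj_mem_kP p).mpr hcaK) (kP.inv_mem hcaK)
  have hcX : el 614 * a ∈ CX := by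
    refine CX.mul_mem el_614_CX (mem_CX.mpr ?_)
    rcases ha with rfl | rfl | rfl | rfl
    exacts [Commute.one_left _, iP_comm _, ((commute_690_iff).mpr (Commute.refl _)).symm, Commute.refl _]
  have hfq : c.f q ∈ c.gK g := by
    have hsub : n * k0 * n⁻¹ * k0⁻¹ ∈ c.gK g := hb.2
    have hy0 : y = c.f (el 614 * a) * k0 := by rw [hk0, mul_inv_cancel_left]
    have e : c.f q = n * y * n⁻¹ * y⁻¹ * (y * (k0⁻¹ * (n * k0 * n⁻¹ * k0⁻¹)⁻¹ * k0) * y⁻¹) := by
      rw [hq, c.map_mul _ _ ((conj_mem_kP p).mpr hcaK) (kP.inv_mem hcaK), c.f_inv hcaK, ← hn _ hcaK, hy0]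
      group
    rw [e]
    have hd : k0⁻¹ * (n * k0 * n⁻¹ * k0⁻¹)⁻¹ * k0 ∈ c.D g := by
      have := h.normal_D (c.N.inv_mem (c.K_le_N hk0K)) ((c.D g).inv_mem hb)
      rwa [inv_inv] at this
    exact (c.gK g).mul_mem ((c.gK g).mul_mem hny ((c.gK g).inv_mem hyg))
      ((c.gK g).mul_mem ((c.gK g).mul_mem hyg hd.2) ((c.gK g).inv_mem hyg))
  have hqC : q ∈ CK := mem_CK.mpr ⟨mem_CX.mp (hq ▸ CX.mul_mem (CX.mul_mem (CX.mul_mem hpX hcX)
    (CX.inv_mem hpX)) (CX.inv_mem hcX)), hqK⟩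
  have hq' : q = p * el 614 * p⁻¹ * (el 614)⁻¹ := by
    rw [hq, show p * (el 614 * a) * p⁻¹ * (el 614 * a)⁻¹ = p * el 614 * (a * p⁻¹) * a⁻¹ * (el 614)⁻¹ by
      group, ← ((four_mem_CX ha hpX).inv_left).eq]
    group
  obtain ⟨b, hb1, hb'⟩ : ∃ b ∈ CK, p = el 1 * b := by
    refine ⟨(el 1)⁻¹ * p, mem_CK.mpr ⟨mem_CX.mp (CX.mul_mem (CX.inv_mem (T_le_CX (el_mem (by norm_num))))
      hpX), ?_⟩, by group⟩
    rw [Subgroup.mul_mem_iff_of_index_two index_kP, inv_mem_iff]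
    exact iff_of_false h1K hpK
  obtain ⟨μ', hμ', -, hcom'⟩ := h.acts_gK hyg
  have hb2 : b * el 614 * b⁻¹ = el 614 ∨ b * el 614 * b⁻¹ = el 1975 * el 614 := by
    have hb3 : el 614 * b * (el 614)⁻¹ = b ∨ el 614 * b * (el 614)⁻¹ = el 1975 * b := by
      have e : μ' * b * μ'⁻¹ = el 614 * b * (el 614)⁻¹ := by
        have hab := four_mem_CX ha (CK_le_CX hb1)
        rcases hμ.unique hμ' with rfl | rfl
        · rw [show el 614 * a * b * (el 614 * a)⁻¹ = el 614 * (a * b) * a⁻¹ * (el 614)⁻¹ by group,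
            ← hab.eq]; group
        · rw [show el 614 * a * iP * b * (el 614 * a * iP)⁻¹ = el 614 * (a * (iP * b * iP⁻¹)) * a⁻¹ * (el 614)⁻¹ by
            group, iP_comm b, mul_inv_cancel_right, ← hab.eq]; group
      rw [← e]; exact hcom' b hb1
    have hxb : Commute b (el 1975) := mem_CX.mp (CK_le_CX hb1)
    rcases hb3 with e | e
    · left; rw [mul_inv_eq_iff_eq_mul] at e; rw [mul_inv_eq_iff_eq_mul, ← e]
    · right
      rw [mul_inv_eq_iff_eq_mul] at e ⊢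
      calc b * el 614 = el 1975 * el 1975 * (b * el 614) := by rw [sq_el1975, one_mul]
        _ = el 1975 * (el 1975 * b * el 614) := by group
        _ = el 1975 * el 614 * b := by rw [← e]; group
  rcases h.meet hqC hfq with e | e <;> rw [hq', hb'] at e
  all_goals
    have e' : el 1 * (b * el 614 * b⁻¹) * (el 1)⁻¹ = (el 1 * b) * el 614 * (el 1 * b)⁻¹ := by group
  all_goals
    have h19 : el 1 * el 1975 * (el 1)⁻¹ = el 1975 := by
      rw [(central_three (Or.inr (Or.inr rfl)) _ (el_mem (by norm_num : (1 : ℕ) < 2048))).eq,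
        mul_inv_cancel_right]
  · rw [mul_inv_eq_one, ← e'] at e
    rcases hb2 with e2 | e2 <;> rw [e2] at e
    · rw [hc1, mul_eq_left] at e
      exact (central_ne (Or.inl rfl)).1 e
    · rw [show el 1 * (el 1975 * el 614) * (el 1)⁻¹ = el 1 * el 1975 * (el 1)⁻¹ * (el 1 * el 614 * (el 1)⁻¹) by
        group, hc1, h19, ← mul_assoc, ← (mem_CX.mp el_614_CX).eq, mul_assoc, mul_eq_left] at e
      rw [← el_1975_mul, ← mul_assoc, sq_el1975, one_mul] at e
      exact iP_ne_one e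
  · rw [mul_inv_eq_iff_eq_mul, ← e'] at e
    rcases hb2 with e2 | e2 <;> rw [e2] at e
    · rw [hc1, ← (mem_CX.mp el_614_CX).eq] at e
      exact el_ne (by norm_num) (by norm_num) (by norm_num) (mul_left_cancel e : el 690 = el 1975)
    · rw [show el 1 * (el 1975 * el 614) * (el 1)⁻¹ = el 1 * el 1975 * (el 1)⁻¹ * (el 1 * el 614 * (el 1)⁻¹) by
        group, hc1, h19, ← mul_assoc, mul_eq_left] at e
      exact (central_ne (Or.inl rfl)).1 e

end Ctx

end CfsgLib.HNStd
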