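import Cfsg.Agent.Lib.HNType.Fusion
import Cfsg.Agent.Lib.HNType.FiveBase
import Cfsg.Agent.Lib.HNStd.Data

/-!
A standard double cover of the Higman-Sims group: the checks on the group on 1408 points.
-/

set_option autoImplicit false
set_option maxRecDepth 100000
set_option maxHeartbeats 4000000

namespace CfsgLib.HNStd

open CfsgLib.CosetEnum CfsgLib.DCoset CfsgLib.HN CfsgLib.HNType

/-- image of a point under a product of elements of the Sylow subgroup -/
noncomputable def sEval : List ℕ → ℕ → ℕ
  | [], x => x
  | k :: l, x => strict (tWord (sylWord k) x) fun y => sEval l y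

/-- two products of elements of the Sylow subgroup agree -/
noncomputable def eqS (l m : List ℕ) : Bool :=
  (List.range 6).all fun b => Nat.beq (sEval l (basePt b)) (sEval m (basePt b))

/-- all entries are numbers of elements -/
def ltS (l : List ℕ) : Bool := l.all fun k => Nat.blt k 2048

/-- an element as a word in the letters -/
def elW (k : ℕ) : List ℕ := (sylWord k).flatMap fun j => sylW.getD j []

/-- two words in the letters agree -/
noncomputable def eqL (v w : List ℕ) : Bool :=
  (List.range 6).all fun b => Nat.beq (space.C.run (basePt b) v) (space.C.run (basePt b) w)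

/-- all letters are generators -/
def okW (w : List ℕ) : Bool := w.all fun c => Nat.blt c 5

/-- a word lies in the subgroup of index two -/
noncomputable def innerW (w : List ℕ) : Bool := colP (space.C.run (basePt 0) w) == colP 0

/-- a power of a word -/
def powL (w : List ℕ) (n : ℕ) : List ℕ := (List.replicate n w).flatten

/-- a witness of the fusion -/
noncomputable def witOK (e : ℕ × List ℕ × ℕ × List ℕ × ℕ × List ℕ) : Bool :=
  let r := e.1
  let P := e.2.1
  let n := e.2.2.1
  let Q := e.2.2.2.1
  let m := e.2.2.2.2.1
  let c := e.2.2.2.2.2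
  let a := P ++ Q ++ (P ++ Q)
  Nat.blt r 2048 && okW P && okW Q && okW c && innerW P && innerW Q && innerW c &&
  eqL (P ++ elW r) (elW r ++ P) && eqL (Q ++ elW r) (elW r ++ Q) &&
  Nat.beq (n % 2) 1 && eqL (powL P n) [] && Nat.beq (m % 2) 1 && eqL (powL Q m) [] &&
  eqL (a ++ a) [] && !eqL a [] && !eqL a [0, 0] && eqL (elW r ++ c) (c ++ (a ++ elW r))

/-- the representatives are the three expected -/
noncomputable def witReps : Bool :=
  [1, 101, 21].all fun r => witData.any fun e => Nat.beq e.1 r

/-- a root of the central involution is conjugate to the representative -/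
noncomputable def rootOK (e : ℕ × List ℕ) : Bool :=
  Nat.blt e.1 2048 && okW e.2 && eqL (e.2 ++ elW e.1) (elW 21 ++ e.2)

/-- every inner root of the central involution is listed -/
noncomputable def rootClassOK (k : ℕ) : Bool := strict k fun k =>
  !inK k || !Nat.beq (sylTSq k) 564 || rootData.any fun e => Nat.beq e.1 k

/-- the fourth power of an inner element is not the central involution -/
noncomputable def eightOK (k : ℕ) : Bool := strict k fun k =>
  !inK k || !Nat.beq (sylTSq (sylTSq k)) 564

/-- the quaternion group -/
noncomputable def quatOK : Bool :=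
  inK 21 && inK 43 && Nat.beq (sylTSq 21) 564 && Nat.beq (sylTSq 43) 564 &&
  eqS [21, 43, 21, 43] [564]

/-- a word centralising a representative and moving element 1975 -/
noncomputable def moveWordOK (e : ℕ × List ℕ) : Bool :=
  Nat.blt e.1 2048 && okW e.2 && innerW e.2 && eqL (e.2 ++ elW e.1) (elW e.1 ++ e.2) &&
  !eqL (e.2 ++ elW 1975) (elW 1975 ++ e.2) && !eqL (e.2 ++ elW 1975) (elW 690 ++ e.2)

/-- a conjugate of a representative -/
noncomputable def moveOK (e : ℕ × ℕ × ℕ) : Bool :=
  Nat.blt e.1 2048 && Nat.blt e.2.1 moveWords.length && Nat.blt e.2.2 2048 &&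
  let r := (moveWords.getD e.2.1 (0, [])).1
  eqS [e.1, e.2.2] [e.2.2, r] || eqS [e.1, e.2.2] [e.2.2, r, 564]

/-- every element with square in the centre and outside the centre of the Sylow subgroup is listed -/
noncomputable def moveClassOK (k : ℕ) : Bool := strict k fun k =>
  !(Nat.beq (sylTSq k) 0 || Nat.beq (sylTSq k) 564) ||
  Nat.beq k 0 || Nat.beq k 564 || Nat.beq k 690 || Nat.beq k 1975 ||
  moveData.any fun e => Nat.beq e.1 k

/-- an involution from a root of a central involution -/
noncomputable def sqOK (w : ℕ) (e : ℕ × ℕ × ℕ × ℕ) : Bool :=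
  let x := [e.1, e.2.1, e.1, e.2.2.1]
  Nat.blt e.1 2048 && Nat.blt e.2.1 2048 && Nat.blt e.2.2.1 2048 && inK e.2.1 &&
  eqS [e.2.1, e.2.2.1] [] &&
  let i := bif Nat.beq e.2.2.2 0 then x else x ++ x
  eqS (i ++ i) [] && !eqS i [] && !eqS i [w]

/-- every root is listed -/
noncomputable def sqClassOK (w : ℕ) (l : List (ℕ × ℕ × ℕ × ℕ)) (k : ℕ) : Bool := strict k fun k =>
  !inK k || !Nat.beq (sylTSq k) w || l.any fun e => Nat.beq e.1 k

/-- two elements of the same odd prime order with product an involution -/
noncomputable def pairOK (p : ℕ) (u v : List ℕ) : Bool :=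
  okW u && okW v && innerW u && innerW v &&
  eqL (u ++ elW 1975) (elW 1975 ++ u) && eqL (v ++ elW 1975) (elW 1975 ++ v) &&
  eqL (powL u p) [] && eqL (powL v p) [] && !eqL u [] && !eqL v [] &&
  eqL (u ++ v ++ (u ++ v)) [] && !eqL (u ++ v) [] && !eqL (u ++ v) (elW 690) &&
  !eqL (u ++ v) (elW 1975)

/-- the elements whose commutators with the inner part lie in `{1, w}` -/
noncomputable def testOK (w : ℕ) (ts allowed : List ℕ) (k : ℕ) : Bool := strict k fun k =>
  allowed.any (fun m => Nat.beq m k) ||
  ts.any fun s => Nat.blt s 2048 && inK s && !eqS [k, s] [s, k] && !eqS [k, s] [w, s, k]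

/-- element 614 -/
noncomputable def fourOK : Bool :=
  inK 614 && Nat.beq (sylTSq 614) 690 && !inK 1 && Nat.beq (sylTSq 1) 564 &&
  eqS [1, 614] [614, 690, 1] && eqS [614, 564] [666] && eqS [614, 1975] [962] && eqS [614, 690] [972]

/-- element 690 fixes no point, element 1975 does -/
noncomputable def fixOK : Bool :=
  Nat.blt fixPt 1408 && Nat.beq (sEval [1975] fixPt) fixPt &&
  Cert.allBelow 1408 fun x => !Nat.beq (sEval [690] x) x

theorem wit_ok : witData.all witOK = true := by decide +kernel
theorem witReps_ok : witReps = true := by decide +kernel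
theorem root_ok : rootData.all rootOK = true := by decide +kernel
theorem rootClass_ok : Cert.allBelow 2048 rootClassOK = true := by decide +kernel
theorem eight_ok : Cert.allBelow 2048 eightOK = true := by decide +kernel
theorem quat_ok : quatOK = true := by decide +kernel
theorem moveWord_ok : moveWords.all moveWordOK = true := by decide +kernel
theorem move_ok : moveData.all moveOK = true := by decide +kernel
theorem moveClass_ok : Cert.allBelow 2048 moveClassOK = true := by decide +kernel
theorem sq690_ok : sqData690.all (sqOK 690) = true := by decide +kernel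
theorem sq1975_ok : sqData1975.all (sqOK 1975) = true := by decide +kernel
theorem sqClass690_ok : Cert.allBelow 2048 (sqClassOK 690 sqData690) = true := by decide +kernel
theorem sqClass1975_ok : Cert.allBelow 2048 (sqClassOK 1975 sqData1975) = true := by decide +kernel
theorem three_ok : pairOK 3 threeA threeB = true := by decide +kernel
theorem five_ok : pairOK 5 fiveA fiveB = true := by decide +kernel
theorem test690_ok :
    Cert.allBelow 2048 (testOK 690 testers690 [0, 82, 103, 164, 564, 690, 807, 1975]) = true := by
  decide +kernel
theorem test1975_ok :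
    Cert.allBelow 2048 (testOK 1975 testers1975 [0, 564, 614, 666, 690, 962, 972, 1975]) = true := by
  decide +kernel
theorem four_ok : fourOK = true := by decide +kernel
theorem fix_ok : fixOK = true := by decide +kernel

end CfsgLib.HNStd
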