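import Cfsg.Agent.Lib.HNStd.Table
import Cfsg.Agent.Lib.HNType.FiveChart

/-!
Facts on the group on 1408 points: witnesses of fusion and the centraliser of element 1975.
-/

set_option autoImplicit false
set_option maxRecDepth 100000

namespace CfsgLib.HNStd

open CfsgLib.CosetEnum CfsgLib.DCoset CfsgLib.HN CfsgLib.HNType
open scoped Pointwise

theorem okW_iff {w : List ℕ} : okW w = true ↔ ∀ c ∈ w, c < 5 := by
  simp [okW, List.all_eq_true]

theorem okW_append {v w : List ℕ} (hv : okW v = true) (hw : okW w = true) : okW (v ++ w) = true := by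
  rw [okW_iff] at hv hw ⊢
  exact fun c hc => (List.mem_append.mp hc).elim (hv c) (hw c)

theorem eqL_iff {v w : List ℕ} (hv : okW v = true) (hw : okW w = true) :
    eqL v w = true ↔ wordP v = wordP w := by
  simp only [eqL, List.all_eq_true, List.mem_range]
  refine ⟨fun h => eq_of_base fun b hb => ?_, fun h b hb => ?_⟩
  · rw [img_word (okW_iff.mp hv), img_word (okW_iff.mp hw), bp_val]
    exact Nat.eq_of_beq_eq_true (h b hb)
  · have e := congrArg (fun x => img x (bp hb)) h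
    simp only [img_word (okW_iff.mp hv), img_word (okW_iff.mp hw), bp_val] at e
    rw [e]; exact Nat.beq_refl _

theorem eqL_not {v w : List ℕ} (hv : okW v = true) (hw : okW w = true) :
    eqL v w = false ↔ wordP v ≠ wordP w := by
  rw [← Bool.not_eq_true, eqL_iff hv hw]

theorem wordP_app (v w : List ℕ) : wordP (v ++ w) = wordP v * wordP w :=
  Subtype.ext (prodW_append valid.pgen v w)

theorem wordP_powL (w : List ℕ) : ∀ n, wordP (powL w n) = wordP w ^ n
  | 0 => rfl
  | n + 1 => by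
    rw [powL, List.replicate_succ, List.flatten_cons, wordP_app, ← powL, wordP_powL w n, pow_succ']

theorem okW_powL {w : List ℕ} (hw : okW w = true) (n : ℕ) : okW (powL w n) = true := by
  rw [okW_iff] at hw ⊢
  intro c hc
  obtain ⟨l, hl, hcl⟩ := List.mem_flatten.mp hc
  rw [List.eq_of_mem_replicate hl] at hcl
  exact hw c hcl

theorem flatMap_syl_ok {l : List ℕ} (h : ∀ j ∈ l, j < 4) :
    okW (l.flatMap fun j => sylW.getD j []) = true := by
  rw [okW_iff]
  intro c hc
  obtain ⟨j, hj, hcj⟩ := List.mem_flatMap.mp hc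
  exact (tab_spec (h j hj)).1 c hcj

theorem wordP_flatMap_syl : ∀ l : List ℕ, wordP (l.flatMap fun j => sylW.getD j []) = sProd l
  | [] => rfl
  | j :: l => by
    rw [List.flatMap_cons, wordP_app, wordP_flatMap_syl l, sProd, sProd, List.map_cons, List.prod_cons,
      sG]

theorem elW_ok {k : ℕ} (hk : k < 2048) : okW (elW k) = true := flatMap_syl_ok (el_key hk).1

theorem wordP_elW (k : ℕ) : wordP (elW k) = el k := wordP_flatMap_syl _

theorem innerW_iff {w : List ℕ} (hw : okW w = true) : innerW w = true ↔ wordP w ∈ kP := by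
  have hkey : ((wordP w).1.unop valid.zero : ℕ) = space.C.run (basePt 0) w := by
    rw [show valid.zero = bp (b := 0) (by norm_num) from (Fin.ext (by decide +kernel : basePt 0 = 0)).symm]
    exact img_word (okW_iff.mp hw) _
  rw [innerW, beq_iff_eq, ← hkey, mem_kP]
  refine ⟨fun h => (keeps_or_flips (wordP w).2).resolve_right fun hf => ?_, fun h => h valid.zero⟩
  have e := hf valid.zero
  rw [show (valid.zero : Fin space.C.N).val = 0 from rfl, h] at e
  cases hb : colP 0 <;> simp [hb] at e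

/-- the product of a list of elements of the Sylow subgroup -/
noncomputable def sP (l : List ℕ) : PH := (l.map el).prod

theorem sP_cons (k : ℕ) (l : List ℕ) : sP (k :: l) = el k * sP l := List.prod_cons

theorem sP_nil : sP [] = 1 := rfl

theorem img_sP : ∀ {l : List ℕ}, (∀ k ∈ l, k < 2048) → ∀ p : Fin space.C.N, img (sP l) p = sEval l p
  | [], _, p => rfl
  | k :: l, h, p => by
    rw [List.forall_mem_cons] at h
    rw [sP_cons, img_mul, sEval, strict_eq, ← img_sProd (el_key h.1).1 p, ← el]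
    exact img_sP h.2 _

theorem eqS_iff {l m : List ℕ} (hl : ∀ k ∈ l, k < 2048) (hm : ∀ k ∈ m, k < 2048) :
    eqS l m = true ↔ sP l = sP m := by
  simp only [eqS, List.all_eq_true, List.mem_range]
  refine ⟨fun h => eq_of_base fun b hb => ?_, fun h b hb => ?_⟩
  · rw [img_sP hl, img_sP hm, bp_val]
    exact Nat.eq_of_beq_eq_true (h b hb)
  · have e := congrArg (fun x => img x (bp hb)) h
    simp only [img_sP hl, img_sP hm, bp_val] at e
    rw [e]; exact Nat.beq_refl _

theorem eqS_not {l m : List ℕ} (hl : ∀ k ∈ l, k < 2048) (hm : ∀ k ∈ m, k < 2048) :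
    eqS l m = false ↔ sP l ≠ sP m := by
  rw [← Bool.not_eq_true, eqS_iff hl hm]

theorem el_ne {k l : ℕ} (hk : k < 2048) (hl : l < 2048) (h : k ≠ l) : el k ≠ el l := fun e =>
  h (el_inj hk hl e)

theorem iP_ne_one : iP ≠ 1 := by rw [iP_eq, ← el_zero]; exact el_ne (by norm_num) (by norm_num) (by norm_num)

theorem el_690_mul : el 690 * iP = el 1975 := counts.2.2

theorem el_1975_mul : el 1975 * iP = el 690 := by
  rw [← el_690_mul, mul_assoc, iP_sq, mul_one]

theorem sq_eq_of_inner {k : ℕ} (hk : k < 2048) (hK : inK k = true) : el k * el k = el (sylTSq k) := by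
  have h := (el_spec hk).tsq
  rwa [hK, cond_true, mul_one] at h

theorem sq_el690 : el 690 * el 690 = 1 := by
  rw [sq_eq_of_inner (by norm_num) (by decide +kernel), show sylTSq 690 = 0 by decide +kernel, el_zero]

theorem sq_el1975 : el 1975 * el 1975 = 1 := by
  rw [sq_eq_of_inner (by norm_num) (by decide +kernel), show sylTSq 1975 = 0 by decide +kernel, el_zero]

theorem el690_kP : el 690 ∈ kP := (inK_iff (by norm_num)).mp (by decide +kernel)

theorem el1975_kP : el 1975 ∈ kP := (inK_iff (by norm_num)).mp (by decide +kernel)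

theorem iP_mem_kP : iP ∈ kP := iP_kP

theorem T_isPGroup : IsPGroup 2 ↥T := IsPGroup.of_card (n := 11) (by rw [card_T]; norm_num)

theorem isPGroup_zpowers {H : Type*} [Group H] {x : H} {n : ℕ} (hx : x ^ 2 ^ n = 1) :
    IsPGroup 2 (Subgroup.zpowers x) := by
  rintro ⟨y, hy⟩
  obtain ⟨m, rfl⟩ := Subgroup.mem_zpowers_iff.mp hy
  exact ⟨n, Subtype.ext (show (x ^ m) ^ 2 ^ n = 1 by
    rw [← zpow_natCast, zpow_comm, zpow_natCast, hx, one_zpow])⟩

theorem exists_conj_T' {x : PH} {n : ℕ} (hx : x ^ 2 ^ n = 1) : ∃ c : PH, c * x * c⁻¹ ∈ T := by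
  have : Fact (Nat.Prime 2) := ⟨Nat.prime_two⟩
  have hidx : ¬ 2 ∣ T.index := by
    have h := T.card_mul_index
    rw [card_T, card_P] at h
    omega
  obtain ⟨P, hP⟩ := (isPGroup_zpowers hx).exists_le_sylow
  obtain ⟨c, hc⟩ := MulAction.exists_smul_eq PH P (T_isPGroup.toSylow hidx)
  refine ⟨c, ?_⟩
  have hmem : MulAut.conj c x ∈ ((c • P : Sylow 2 PH) : Subgroup PH) := by
    rw [Sylow.coe_subgroup_smul]
    exact Subgroup.smul_mem_pointwise_smul _ (MulAut.conj c) _ (hP (Subgroup.mem_zpowers _))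
  rw [hc] at hmem
  exact hmem

/-- the fourth power of an inner element is not the central involution -/
theorem pow_four_ne {h : PH} (hh : h ∈ kP) : h ^ 4 ≠ iP := fun e => by
  obtain ⟨c, hc⟩ := exists_conj_T' (x := h) (n := 3) (by
    rw [show (2 : ℕ) ^ 3 = 4 + 4 by norm_num, pow_add, e, iP_sq])
  obtain ⟨k, hk, ek⟩ := exists_el hc
  have hK : inK k = true := by rw [inK_iff hk, ek, conj_mem_kP]; exact hh
  have h' := Cert.allBelow_spec eight_ok k hk
  simp only [eightOK, strict_eq, hK, Bool.not_true, Bool.false_or, Bool.not_eq_true'] at h'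
  have h2K : inK (sylTSq k) = true := by
    rw [inK_iff (tsq_lt2048 _), ← sq_eq_of_inner hk hK]
    exact mul_mem ((inK_iff hk).mp hK) ((inK_iff hk).mp hK)
  have e4 : el (sylTSq (sylTSq k)) = el 564 := by
    rw [← sq_eq_of_inner (tsq_lt2048 _) h2K, ← sq_eq_of_inner hk hK, ← iP_eq, ek,
      show c * h * c⁻¹ * (c * h * c⁻¹) * (c * h * c⁻¹ * (c * h * c⁻¹)) = c * h ^ 4 * c⁻¹ by
        simp [pow_succ, mul_assoc], e, ← iP_comm, mul_inv_cancel_right]
  rw [el_inj (tsq_lt2048 _) (by norm_num) e4, Nat.beq_refl] at h'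
  cases h'

/-- a quaternion group in the Sylow subgroup of the subgroup of index two -/
theorem exists_quat : ∃ a b : PH, a ∈ T ∧ b ∈ T ∧ a ∈ kP ∧ b ∈ kP ∧ a * a = iP ∧ b * b = iP ∧
    a * b * (a * b) = iP := by
  have h := quat_ok
  simp only [quatOK, Bool.and_eq_true] at h
  obtain ⟨⟨⟨⟨ha, hb⟩, ha2⟩, hb2⟩, hab⟩ := h
  refine ⟨el 21, el 43, el_mem (by norm_num), el_mem (by norm_num), (inK_iff (by norm_num)).mp ha,
    (inK_iff (by norm_num)).mp hb, ?_, ?_, ?_⟩
  · rw [sq_eq_of_inner (by norm_num) ha, Nat.eq_of_beq_eq_true ha2, iP_eq]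
  · rw [sq_eq_of_inner (by norm_num) hb, Nat.eq_of_beq_eq_true hb2, iP_eq]
  · have e := (eqS_iff (by decide) (by decide)).mp hab
    simp only [sP_cons, sP_nil, mul_one] at e
    rw [iP_eq, ← e, mul_assoc]

theorem odd_pow_of {n : ℕ} (h : Nat.beq (n % 2) 1 = true) : Odd n :=
  Nat.odd_iff.mpr (Nat.eq_of_beq_eq_true h)

/-- a witness for an element of one of three kinds -/
structure Wit (p : PH) where
  /-- first element -/
  P : PH
  /-- second element -/
  Q : PH
  /-- conjugator -/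
  c : PH
  /-- an odd exponent of the first -/
  n : ℕ
  /-- an odd exponent of the second -/
  m : ℕ
  hP : P ∈ kP
  hQ : Q ∈ kP
  hc : c ∈ kP
  cP : Commute P p
  cQ : Commute Q p
  odd_n : Odd n
  odd_m : Odd m
  Pn : P ^ n = 1
  Qm : Q ^ m = 1
  a_sq : P * Q * (P * Q) * (P * Q * (P * Q)) = 1
  a_ne : P * Q * (P * Q) ≠ 1
  a_ne_i : P * Q * (P * Q) ≠ iP
  conj : c⁻¹ * p * c = P * Q * (P * Q) * p

theorem conj_kP {x : PH} (d : PH) (hx : x ∈ kP) : d⁻¹ * x * d ∈ kP := by
  simpa using (conj_mem_kP d⁻¹).mpr hx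

theorem Wit.transport {r : PH} (W : Wit r) (d : PH) : Nonempty (Wit (d⁻¹ * r * d)) := by
  have hc : ∀ {x y : PH}, Commute x y → Commute (d⁻¹ * x * d) (d⁻¹ * y * d) := fun {x y} h => by
    show d⁻¹ * x * d * (d⁻¹ * y * d) = d⁻¹ * y * d * (d⁻¹ * x * d)
    calc _ = d⁻¹ * (x * y) * d := by group
      _ = _ := by rw [h.eq]; group
  have ea : d⁻¹ * W.P * d * (d⁻¹ * W.Q * d) * (d⁻¹ * W.P * d * (d⁻¹ * W.Q * d)) =
      d⁻¹ * (W.P * W.Q * (W.P * W.Q)) * d := by group
  refine ⟨{
    P := d⁻¹ * W.P * d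
    Q := d⁻¹ * W.Q * d
    c := d⁻¹ * W.c * d
    n := W.n
    m := W.m
    hP := conj_kP d W.hP
    hQ := conj_kP d W.hQ
    hc := conj_kP d W.hc
    cP := hc W.cP
    cQ := hc W.cQ
    odd_n := W.odd_n
    odd_m := W.odd_m
    Pn := ?_
    Qm := ?_
    a_sq := ?_
    a_ne := ?_
    a_ne_i := ?_
    conj := ?_ }⟩
  · rw [show d⁻¹ * W.P * d = d⁻¹ * W.P * d⁻¹⁻¹ by group, conj_pow, W.Pn]; group
  · rw [show d⁻¹ * W.Q * d = d⁻¹ * W.Q * d⁻¹⁻¹ by group, conj_pow, W.Qm]; group
  · rw [ea, show d⁻¹ * (W.P * W.Q * (W.P * W.Q)) * d * (d⁻¹ * (W.P * W.Q * (W.P * W.Q)) * d) =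
      d⁻¹ * (W.P * W.Q * (W.P * W.Q) * (W.P * W.Q * (W.P * W.Q))) * d by group, W.a_sq]
    group
  · rw [ea]
    exact fun h => W.a_ne (by
      calc W.P * W.Q * (W.P * W.Q) = d * (d⁻¹ * (W.P * W.Q * (W.P * W.Q)) * d) * d⁻¹ := by group
        _ = 1 := by rw [h]; group)
  · rw [ea]
    exact fun h => W.a_ne_i (by
      calc W.P * W.Q * (W.P * W.Q) = d * (d⁻¹ * (W.P * W.Q * (W.P * W.Q)) * d) * d⁻¹ := by group
        _ = iP := by rw [h, ← iP_comm, mul_inv_cancel_right])
  · calc (d⁻¹ * W.c * d)⁻¹ * (d⁻¹ * r * d) * (d⁻¹ * W.c * d) = d⁻¹ * (W.c⁻¹ * r * W.c) * d := by group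
      _ = _ := by rw [W.conj, ea]; group

theorem exists_wit_rep {r : ℕ} (h : witData.any (fun e => Nat.beq e.1 r) = true) :
    Nonempty (Wit (el r)) := by
  simp only [List.any_eq_true] at h
  obtain ⟨⟨r', P, n, Q, m, c⟩, he, hr⟩ := h
  obtain rfl : r' = r := Nat.eq_of_beq_eq_true hr
  have h := List.all_eq_true.mp wit_ok _ he
  simp only [witOK, Bool.and_eq_true, Bool.not_eq_true', Nat.blt_eq] at h
  obtain ⟨⟨⟨⟨⟨⟨⟨⟨⟨⟨⟨⟨⟨⟨⟨⟨hr', hP⟩, hQ⟩, hc⟩, iP'⟩, iQ⟩, ic⟩, cP⟩, cQ⟩, on⟩, Pn⟩, om⟩, Qm⟩, a2⟩, a1⟩,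
    ai⟩, hconj⟩ := h
  have hr'' := elW_ok hr'
  have hPQ := okW_append (okW_append hP hQ) (okW_append hP hQ)
  rw [eqL_iff (okW_append hP hr'') (okW_append hr'' hP), wordP_app, wordP_app, wordP_elW] at cP
  rw [eqL_iff (okW_append hQ hr'') (okW_append hr'' hQ), wordP_app, wordP_app, wordP_elW] at cQ
  rw [eqL_iff (okW_powL hP n) rfl, wordP_powL] at Pn
  rw [eqL_iff (okW_powL hQ m) rfl, wordP_powL] at Qm
  rw [eqL_iff (okW_append hPQ hPQ) rfl] at a2
  rw [eqL_not hPQ rfl] at a1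
  rw [eqL_not hPQ (by decide : okW [0, 0] = true)] at ai
  rw [eqL_iff (okW_append hr'' hc) (okW_append hc (okW_append hPQ hr''))] at hconj
  simp only [wordP_app, wordP_elW] at a2 a1 ai hconj
  refine ⟨⟨wordP P, wordP Q, wordP c, n, m, (innerW_iff hP).mp iP', (innerW_iff hQ).mp iQ,
    (innerW_iff hc).mp ic, cP, cQ, odd_pow_of on, odd_pow_of om, Pn, Qm, a2, a1, ai, ?_⟩⟩
  rw [mul_assoc, hconj, inv_mul_cancel_left]

theorem fusReps_cases : (fusReps.all fun e => Nat.beq e.1 1 || Nat.beq e.1 101) = true := by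
  decide +kernel

/-- an outer involution and an inner root of the central involution have witnesses -/
theorem exists_wit {p : PH} (h : p ∉ kP ∧ p * p = 1 ∨ p ∈ kP ∧ p * p = iP) : Nonempty (Wit p) := by
  have hreps := witReps_ok
  simp only [witReps, List.all_eq_true] at hreps
  obtain ⟨c, hc⟩ := exists_conj_T (x := p) (by
    rcases h with ⟨-, h⟩ | ⟨-, h⟩ <;>
      rw [show p ^ 4 = (p * p) * (p * p) by simp [pow_succ, mul_assoc], h]
    · exact one_mul 1
    · exact iP_sq)
  obtain ⟨k, hk, ek⟩ := exists_el hc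
  have hsq : el k * el k = c * (p * p) * c⁻¹ := by rw [ek]; group
  have back : ∀ (r : ℕ) (g : PH), g * el k = el r * g → p = (g * c)⁻¹ * el r * (g * c) := fun r g e => by
    calc p = c⁻¹ * (g⁻¹ * (g * el k)) * c := by rw [inv_mul_cancel_left, ek]; group
      _ = _ := by rw [e]; group
  rcases h with ⟨hK, h⟩ | ⟨hK, h⟩
  · have hKk : inK k = false := by
      rw [← Bool.not_eq_true, inK_iff hk, ek, conj_mem_kP]; exact hK
    rw [h, mul_one, mul_inv_cancel] at hsq
    have hts : sylTSq k = 564 := el_inj (tsq_lt2048 _) (by norm_num) (by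
      rw [← (el_spec hk).tsq, hKk, cond_false, hsq, one_mul, iP_eq])
    have h' := Cert.allBelow_spec outClass_ok k hk
    simp only [outClassOK, strict_eq, hKk, hts, Bool.false_or, Nat.beq_refl, Bool.not_true,
      List.any_eq_true] at h'
    obtain ⟨⟨k', g, r⟩, hu, hk'⟩ := h'
    obtain rfl : k' = k := Nat.eq_of_beq_eq_true hk'
    have hu' := List.all_eq_true.mp fusConj_ok _ hu
    simp only [outConjOK, Bool.and_eq_true, List.any_eq_true, List.all_eq_true, List.mem_range,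
      Nat.blt_eq] at hu'
    obtain ⟨⟨⟨-, hw⟩, ⟨e, hem, her⟩⟩, heq⟩ := hu'
    have hr := List.all_eq_true.mp fusReps_cases e hem
    rw [Nat.eq_of_beq_eq_true her, Bool.or_eq_true] at hr
    have hr2 : r < 2048 ∧ witData.any (fun e => Nat.beq e.1 r) = true := by
      rcases hr with hr | hr <;> rw [Nat.eq_of_beq_eq_true hr] <;>
        exact ⟨by norm_num, hreps _ (by simp)⟩
    have hg : wordP g * el k' = el r * wordP g := eq_of_base fun b hb => by
      rw [img_mul, img_mul, el, img_sProd (el_key hk).1, img_word hw]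
      have e1 : ((wordP g).1.unop (bp hb) : ℕ) = space.C.run (basePt b) g := img_word hw (bp hb)
      have e2 : ((el r).1.unop (bp hb) : ℕ) = sylKey r b := (el_key hr2.1).2 b hb
      rw [e1, e2]
      exact Nat.eq_of_beq_eq_true (heq b hb)
    obtain ⟨W⟩ := exists_wit_rep hr2.2
    rw [back r (wordP g) hg]
    exact W.transport _
  · have hKk : inK k = true := by rw [inK_iff hk, ek, conj_mem_kP]; exact hK
    rw [h, ← iP_comm, mul_inv_cancel_right, sq_eq_of_inner hk hKk, iP_eq] at hsq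
    have h' := Cert.allBelow_spec rootClass_ok k hk
    simp only [rootClassOK, strict_eq, hKk, el_inj (tsq_lt2048 _) (by norm_num) hsq, Bool.false_or,
      Nat.beq_refl, Bool.not_true, List.any_eq_true] at h'
    obtain ⟨⟨k', g⟩, hu, hk'⟩ := h'
    obtain rfl : k' = k := Nat.eq_of_beq_eq_true hk'
    have hu' := List.all_eq_true.mp root_ok _ hu
    simp only [rootOK, Bool.and_eq_true, Nat.blt_eq] at hu'
    obtain ⟨⟨-, hw⟩, heq⟩ := hu'
    rw [eqL_iff (okW_append hw (elW_ok hk)) (okW_append (elW_ok (by norm_num)) hw)] at heq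
    simp only [wordP_app, wordP_elW] at heq
    obtain ⟨W⟩ := exists_wit_rep (r := 21) (hreps _ (by simp))
    rw [back 21 (wordP g) heq]
    exact W.transport _

/-- the two central involutions outside the centre are not conjugate -/
theorem not_conj_690_1975 (c : PH) : c * el 690 * c⁻¹ ≠ el 1975 := by
  intro h
  have hf := fix_ok
  simp only [fixOK, Bool.and_eq_true, Nat.blt_eq] at hf
  obtain ⟨⟨hlt, hfix⟩, hmove⟩ := hf
  obtain ⟨q, hq⟩ : ∃ q : Fin space.C.N, (q : ℕ) = fixPt := ⟨⟨fixPt, hlt⟩, rfl⟩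
  have h1975 : (el 1975).1.unop q = q := Fin.ext (by
    have e : img (sP [1975]) q = sEval [1975] q := img_sP (by decide) q
    rw [sP_cons, sP_nil, mul_one, hq, Nat.eq_of_beq_eq_true hfix, ← hq] at e
    exact e)
  have h690 : ∀ p : Fin space.C.N, (el 690).1.unop p ≠ p := fun p hp => by
    have h' := Cert.allBelow_spec hmove p p.2
    have e : img (sP [690]) p = sEval [690] p := img_sP (by decide) p
    rw [sP_cons, sP_nil, mul_one] at e
    rw [← e, show img (el 690) p = (p : ℕ) from congrArg Fin.val hp, Nat.beq_refl] at h'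
    cases h'
  refine h690 (c.1.unop q) ?_
  have e : c * el 690 = el 1975 * c := mul_inv_eq_iff_eq_mul.mp h
  have e' := congrArg (fun x : PH => x.1.unop q) e
  simp only [Subgroup.coe_mul, valid.unop_mul_apply] at e'
  rw [h1975] at e'
  exact e'

theorem commute_690_iff {x : PH} : Commute x (el 690) ↔ Commute x (el 1975) := by
  refine ⟨fun h => ?_, fun h => ?_⟩
  · rw [← el_690_mul]; exact h.mul_right (iP_comm x).symm
  · rw [← el_1975_mul]; exact h.mul_right (iP_comm x).symm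

/-- the centraliser of element 1975 -/
noncomputable def CX : Subgroup PH := Subgroup.centralizer ({el 1975} : Set PH)

theorem mem_CX {x : PH} : x ∈ CX ↔ Commute x (el 1975) := Subgroup.mem_centralizer_singleton_iff

theorem T_le_CX : T ≤ CX := fun x hx => mem_CX.mpr (central_three (Or.inr (Or.inr rfl)) x hx)

theorem card_CX : Nat.card ↥CX = 30720 := by
  have hpa := (Five.extra_facts).1
  have e : ∀ x, Commute x (el 1975) ↔ Commute (Five.pc⁻¹ * x * Five.pc) Five.pa := fun x => by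
    rw [hpa]
    constructor <;> intro h
    · show _ * _ = _ * _
      calc Five.pc⁻¹ * x * Five.pc * (Five.pc⁻¹ * el 1975 * Five.pc)
          = Five.pc⁻¹ * (x * el 1975) * Five.pc := by group
        _ = _ := by rw [h.eq]; group
    · show x * el 1975 = el 1975 * x
      calc x * el 1975
          = Five.pc * (Five.pc⁻¹ * x * Five.pc * (Five.pc⁻¹ * el 1975 * Five.pc)) * Five.pc⁻¹ := by group
        _ = _ := by rw [h.eq]; group
  refine (Nat.card_eq_of_bijective (fun n : Fin 30720 => (⟨Five.pc * Five.yP n * Five.pc⁻¹,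
      mem_CX.mpr ((e _).mpr (by
        rw [show Five.pc⁻¹ * (Five.pc * Five.yP n * Five.pc⁻¹) * Five.pc = Five.yP n by group]
        exact Five.yP_comm n.2))⟩ : ↥CX))
    ⟨fun a b h => Fin.ext (Five.yP_injective a.2 b.2 ?_), fun y => ?_⟩).symm.trans (Nat.card_fin _)
  · exact mul_left_cancel (mul_right_cancel (congrArg Subtype.val h))
  · obtain ⟨n, hn, h⟩ := Five.exists_y ((e _).mp (mem_CX.mp y.2))
    exact ⟨⟨n, hn⟩, Subtype.ext (by show Five.pc * Five.yP n * Five.pc⁻¹ = y.1; rw [h]; group)⟩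

/-- the Sylow subgroup inside the centraliser -/
theorem exists_sylow_CX : ∃ P : Sylow 2 ↥CX, (P : Subgroup ↥CX) = T.subgroupOf CX := by
  have : Fact (Nat.Prime 2) := ⟨Nat.prime_two⟩
  have hc : Nat.card ↥(T.subgroupOf CX) = 2 ^ 11 := by
    rw [Nat.card_congr (Subgroup.subgroupOfEquivOfLe T_le_CX).toEquiv, card_T]; norm_num
  have hidx : ¬ 2 ∣ (T.subgroupOf CX).index := by
    have h := (T.subgroupOf CX).card_mul_index
    rw [hc, card_CX] at h
    omega
  exact ⟨(IsPGroup.of_card hc).toSylow hidx, rfl⟩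

theorem exists_conj_T_CX {x : PH} (hc : Commute x (el 1975)) {n : ℕ} (hx : x ^ 2 ^ n = 1) :
    ∃ c : PH, Commute c (el 1975) ∧ c * x * c⁻¹ ∈ T := by
  have : Fact (Nat.Prime 2) := ⟨Nat.prime_two⟩
  obtain ⟨S, hS⟩ := exists_sylow_CX
  obtain ⟨P, hP⟩ := (isPGroup_zpowers (x := (⟨x, mem_CX.mpr hc⟩ : ↥CX)) (n := n)
    (Subtype.ext hx)).exists_le_sylow
  obtain ⟨c, hcS⟩ := MulAction.exists_smul_eq ↥CX P S
  refine ⟨c.1, mem_CX.mp c.2, ?_⟩
  have hmem : MulAut.conj c ⟨x, mem_CX.mpr hc⟩ ∈ ((c • P : Sylow 2 ↥CX) : Subgroup ↥CX) := by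
    rw [Sylow.coe_subgroup_smul]
    exact Subgroup.smul_mem_pointwise_smul _ (MulAut.conj c) _ (hP (Subgroup.mem_zpowers _))
  rw [hcS, hS] at hmem
  exact hmem

/-- an element commuting with element 1975 with central square is moved off it by an inner element -/
theorem exists_move {μ : PH} (h2 : μ * μ = 1 ∨ μ * μ = iP) (hc : Commute μ (el 1975)) (h1 : μ ≠ 1)
    (hi : μ ≠ iP) (h690 : μ ≠ el 690) (h1975 : μ ≠ el 1975) :
    ∃ y ∈ kP, Commute y μ ∧ y * el 1975 ≠ el 1975 * y ∧ y * el 1975 ≠ el 690 * y := by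
  obtain ⟨c, hcc, hcT⟩ := exists_conj_T_CX hc (n := 2) (by
    rw [show μ ^ 2 ^ 2 = μ * μ * (μ * μ) by simp [pow_succ, mul_assoc]]
    rcases h2 with h | h <;> rw [h]
    · exact one_mul 1
    · exact iP_sq)
  obtain ⟨k, hk, ek⟩ := exists_el hcT
  have fix : ∀ z : PH, Commute c z → ∀ x, c * x * c⁻¹ = z → x = z := fun z hz x e => by
    calc x = c⁻¹ * (c * x * c⁻¹) * c := by group
      _ = z := by rw [e, mul_assoc, ← hz.eq, inv_mul_cancel_left]
  have hne : k ≠ 0 ∧ k ≠ 564 ∧ k ≠ 690 ∧ k ≠ 1975 := by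
    refine ⟨?_, ?_, ?_, ?_⟩ <;> rintro rfl
    · rw [el_zero] at ek; exact h1 (fix 1 (Commute.one_right c) μ ek.symm)
    · rw [← iP_eq] at ek; exact hi (fix iP (iP_comm c).symm μ ek.symm)
    · exact h690 (fix _ (commute_690_iff.mpr hcc) μ ek.symm)
    · exact h1975 (fix _ hcc μ ek.symm)
  have hts : sylTSq k = 0 ∨ sylTSq k = 564 := by
    have e := (el_spec hk).tsq
    rw [ek, show c * μ * c⁻¹ * (c * μ * c⁻¹) = c * (μ * μ) * c⁻¹ by group] at e
    have e2 : c * (μ * μ) * c⁻¹ = μ * μ := by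
      rcases h2 with h | h <;> rw [h]
      · group
      · rw [← iP_comm, mul_inv_cancel_right]
    rw [e2] at e
    rcases h2 with h | h <;> cases hK : inK k <;> rw [h, hK] at e
    · rw [cond_false, one_mul, iP_eq] at e
      exact Or.inr (el_inj (by norm_num) (tsq_lt2048 _) e).symm
    · rw [cond_true, one_mul, ← el_zero] at e
      exact Or.inl (el_inj (by norm_num) (tsq_lt2048 _) e).symm
    · rw [cond_false, iP_sq, ← el_zero] at e
      exact Or.inl (el_inj (by norm_num) (tsq_lt2048 _) e).symm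
    · rw [cond_true, mul_one, iP_eq] at e
      exact Or.inr (el_inj (by norm_num) (tsq_lt2048 _) e).symm
  have h' := Cert.allBelow_spec moveClass_ok k hk
  simp only [moveClassOK, strict_eq, Bool.or_eq_true, Bool.not_eq_true', List.any_eq_true] at h'
  rcases h' with ((((h' | h') | h') | h') | h') | ⟨⟨k', i, t⟩, he, hk'⟩
  · rcases hts with e | e <;> rw [e] at h' <;> simp at h'
  · exact absurd (Nat.eq_of_beq_eq_true h') hne.1
  · exact absurd (Nat.eq_of_beq_eq_true h') hne.2.1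
  · exact absurd (Nat.eq_of_beq_eq_true h') hne.2.2.1
  · exact absurd (Nat.eq_of_beq_eq_true h') hne.2.2.2
  obtain rfl : k' = k := Nat.eq_of_beq_eq_true hk'
  have h'' := List.all_eq_true.mp move_ok _ he
  simp only [moveOK, Bool.and_eq_true, Bool.or_eq_true, Nat.blt_eq] at h''
  obtain ⟨⟨⟨-, hi'⟩, ht⟩, heq⟩ := h''
  rw [List.getD_eq_getElem _ _ hi'] at heq
  have hW := List.all_eq_true.mp moveWord_ok _ (List.getElem_mem hi')
  generalize moveWords[i] = e at heq hW
  obtain ⟨r, y⟩ := e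
  simp only [moveWordOK, Bool.and_eq_true, Bool.not_eq_true', Nat.blt_eq] at hW
  obtain ⟨⟨⟨⟨⟨hr, hy⟩, hyK⟩, hyr⟩, hy1⟩, hy2⟩ := hW
  rw [eqL_iff (okW_append hy (elW_ok hr)) (okW_append (elW_ok hr) hy), wordP_app, wordP_app,
    wordP_elW] at hyr
  rw [eqL_not (okW_append hy (elW_ok (by norm_num))) (okW_append (elW_ok (by norm_num)) hy),
    wordP_app, wordP_app, wordP_elW] at hy1
  rw [eqL_not (okW_append hy (elW_ok (by norm_num))) (okW_append (elW_ok (by norm_num)) hy),
    wordP_app, wordP_app, wordP_elW, wordP_elW] at hy2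
  obtain ⟨r', hr', hyr'⟩ : ∃ r' : PH, el k' * el t = el t * r' ∧ Commute (wordP y) r' := by
    have hl : ∀ x ∈ ([k', t] : List ℕ), x < 2048 := by simp [hk, ht]
    rcases heq with heq | heq
    · rw [eqS_iff hl (by simp [hr, ht])] at heq
      simp only [sP_cons, sP_nil, mul_one] at heq
      exact ⟨el r, heq, hyr⟩
    · rw [eqS_iff hl (by simp [hr, ht])] at heq
      simp only [sP_cons, sP_nil, mul_one] at heq
      refine ⟨el r * iP, by rw [iP_eq]; exact heq, Commute.mul_right hyr (iP_comm _).symm⟩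
  obtain ⟨d, hd⟩ : ∃ d, d = (el t)⁻¹ * c := ⟨_, rfl⟩
  have hμ : μ = d⁻¹ * r' * d := by
    calc μ = c⁻¹ * (el k' * el t) * (el t)⁻¹ * c := by rw [ek]; group
      _ = _ := by rw [hr', hd]; group
  have hdc : Commute d (el 1975) := hd ▸
    (central_three (Or.inr (Or.inr rfl)) _ (el_mem ht)).inv_left.mul_left hcc
  have hdc' : Commute d (el 690) := commute_690_iff.mpr hdc
  refine ⟨d⁻¹ * wordP y * d, conj_kP d ((innerW_iff hy).mp hyK), ?_, ?_, ?_⟩
  · show d⁻¹ * wordP y * d * μ = μ * (d⁻¹ * wordP y * d)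
    calc d⁻¹ * wordP y * d * μ = d⁻¹ * (wordP y * r') * d := by rw [hμ]; group
      _ = _ := by rw [hyr'.eq, hμ]; group
  · intro e
    refine hy1 ?_
    calc wordP y * el 1975 = d * (d⁻¹ * wordP y * (el 1975 * d)) * d⁻¹ := by group
      _ = d * (d⁻¹ * wordP y * d * el 1975) * d⁻¹ := by rw [← hdc.eq]; group
      _ = d * el 1975 * d⁻¹ * wordP y := by rw [e]; group
      _ = _ := by rw [hdc.eq, mul_inv_cancel_right]
  · intro e
    refine hy2 ?_
    calc wordP y * el 1975 = d * (d⁻¹ * wordP y * (el 1975 * d)) * d⁻¹ := by group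
      _ = d * (d⁻¹ * wordP y * d * el 1975) * d⁻¹ := by rw [← hdc.eq]; group
      _ = d * el 690 * d⁻¹ * wordP y := by rw [e]; group
      _ = _ := by rw [hdc'.eq, mul_inv_cancel_right]

end CfsgLib.HNStd
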